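import Cfsg.Agent.H18.PMinProd
import Cfsg.Agent.H18.QS

set_option autoImplicit false
open Cfsg
open scoped commutatorElement

namespace Cfsg.Agent.H18

variable {G : Type*} [Group G] {p : ℕ}

local notation "𝕆(" p ", " H ")" => Subgroup.map (Subgroup.subtype H) (Cfsg.pResidual p ↥H)

theorem spi_facts [Finite G] [Fact p.Prime] {E : Subgroup G} (h : IsStronglyPIrreducible p ↥E)
    (h0 : pCoreOf p E = ⊥) :
    (∀ N : Subgroup G, N ≤ E → E ≤ Subgroup.normalizer (N : Set G) → ⁅N, E⁆ ≠ ⊥ → 𝕆(p, E) ≤ N) ∧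
    𝕆(p, E) ≤ ⁅E, E⁆ ∧
    (∀ T : Subgroup G, L.SylIn p T E → ⁅𝕆(p, E), T⁆ = 𝕆(p, E)) ∧ 𝕆(p, E) ≠ ⊥ := by
  have hc0 : pCore p ↥E = ⊥ := pCoreOf_eq_bot_iff.1 h0
  have hirr := IsStronglyPIrreducible.isPIrr h
  refine ⟨?_, ?_, ?_, ?_⟩
  · intro N hNE hEN hne
    have h1 : (N.subgroupOf E).Normal := (normal_subgroupOf_iff hNE).2 hEN
    have h2 : ¬ ⁅N.subgroupOf E, (⊤ : Subgroup ↥E)⁆ ≤ pCore p ↥E := by
      rw [hc0, le_bot_iff]
      intro h3
      apply hne
      have h4 := congrArg (Subgroup.map E.subtype) h3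
      rwa [Subgroup.map_commutator, Subgroup.map_subgroupOf_eq_of_le hNE,
        ← MonoidHom.range_eq_map, Subgroup.range_subtype, Subgroup.map_bot] at h4
    have h3 := Subgroup.map_mono (f := E.subtype) (h.2 _ h1 h2)
    rwa [Subgroup.map_subgroupOf_eq_of_le hNE] at h3
  · obtain ⟨T, hT⟩ := L.exists_sylIn (p := p) (⊤ : Subgroup ↥E)
    have h1 := Subgroup.map_mono (f := E.subtype) (pIrreducible_facts hirr hT).2.2.1
    rwa [commutator_def, Subgroup.map_commutator, ← MonoidHom.range_eq_map,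
      Subgroup.range_subtype] at h1
  · intro T hT
    have h1 : L.SylIn p (T.subgroupOf E) (⊤ : Subgroup ↥E) := L.sylIn_top hT.toSylow
    have h2 : ¬ T.subgroupOf E ≤ pCore p ↥E := by
      rw [← isPClosed_top_iff h1]; exact h.1
    have h3 := ((pIrreducible_facts hirr h1).2.2.2 _ le_rfl Subgroup.le_normalizer h2).1
    have h4 := congrArg (Subgroup.map E.subtype) h3
    rwa [Subgroup.map_commutator, Subgroup.map_subgroupOf_eq_of_le hT.le] at h4
  · rw [Ne, pRes_eq_bot_iff]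
    intro hp
    apply h.1
    intro P
    have h1 : (P : Subgroup ↥E) = ⊤ := by
      have h2 : IsPGroup p (⊤ : Subgroup ↥E) := hp.to_subgroup _
      exact (P.is_maximal' h2 le_top).symm
    rw [h1]
    infer_instance

theorem pResidual_le_of_family [Finite G] [Fact p.Prime] {𝒦 : Set (Subgroup G)}
    (hres : pResidual p G ≤ sSup 𝒦)
    (hnorm : ∀ E ∈ 𝒦, sSup 𝒦 ≤ Subgroup.normalizer (E : Set G)) {N : Subgroup G}
    [N.Normal] (hN : ∀ E ∈ 𝒦, 𝕆(p, E) ≤ N) : pResidual p G ≤ N := by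
  set π := QuotientGroup.mk' N with hπ
  have hπs : Function.Surjective π := QuotientGroup.mk'_surjective N
  set R := sSup 𝒦 with hR
  have h1 : R.map π ≤ pCoreOf p (R.map π) := by
    conv_lhs => rw [hR, sSup_eq_iSup', Subgroup.map_iSup]
    refine iSup_le fun E => ?_
    refine le_pCoreOf (Subgroup.map_mono (le_sSup E.2)) ?_ ?_
    · exact (Subgroup.map_mono (hnorm E E.2)).trans (Subgroup.le_normalizer_map π)
    · rw [← pRes_eq_bot_iff, ← pRes_map π, Subgroup.map_eq_bot_iff, hπ, QuotientGroup.ker_mk']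
      exact hN E E.2
  have h2 : IsPGroup p ↥(R.map π) := (isPGroup_pCoreOf (p := p) (R.map π)).to_le h1
  have h3 : pResidual p (G ⧸ N) ≤ R.map π := by
    rw [← pResidual_map hπs]
    exact Subgroup.map_mono hres
  have h4 : pResidual p (G ⧸ N) = ⊥ := by
    rw [← pRes_pResidual, pRes_eq_bot_iff]
    exact h2.to_le h3
  rw [← pResidual_map hπs, Subgroup.map_eq_bot_iff, hπ, QuotientGroup.ker_mk'] at h4
  exact h4

theorem commutator_pow_left {e k : G} (h : Commute ⁅e, k⁆ e) (n : ℕ) :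
    ⁅e ^ n, k⁆ = ⁅e, k⁆ ^ n := by
  have h1 : k * e * k⁻¹ = ⁅e, k⁆⁻¹ * e := by
    simp only [commutatorElement_def]; group
  have h2 : ⁅e ^ n, k⁆ = e ^ n * (k * e * k⁻¹)⁻¹ ^ n := by
    rw [inv_pow, conj_pow, commutatorElement_def]; group
  rw [h2, h1]
  have h3 : Commute ⁅e, k⁆⁻¹ e := h.inv_left
  rw [inv_pow, h3.mul_pow, mul_inv_rev, ← mul_assoc, mul_inv_cancel, one_mul, inv_pow, inv_inv]

theorem pIrr_prod_aux [Finite G] [Fact p.Prime] (h0 : pCore p G = ⊥) {𝒦 : Set (Subgroup G)}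
    (hne : 𝒦.Nonempty)
    (hinv : ∀ h : G, ∀ E ∈ 𝒦, L.cj h E ∈ 𝒦) (htr : ∀ E ∈ 𝒦, ∀ K ∈ 𝒦, ∃ h : G, K = L.cj h E)
    (hres : pResidual p G ≤ sSup 𝒦)
    (hnorm : ∀ E ∈ 𝒦, sSup 𝒦 ≤ Subgroup.normalizer (E : Set G))
    (hspi : ∀ E ∈ 𝒦, IsStronglyPIrreducible p ↥E) :
    IsPIrreducible p G ∧ ∀ E ∈ 𝒦, ∀ K ∈ 𝒦, 𝕆(p, E) = 𝕆(p, K) ∨ ⁅E, K⁆ = ⊥ := by
  set R := sSup 𝒦 with hR
  have hER : ∀ E ∈ 𝒦, E ≤ R := fun E hE => le_sSup hE
  have hRn : R.Normal := by
    refine ⟨fun n hn g => ?_⟩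
    have h1 : L.cj g R ≤ R := by
      rw [hR, sSup_eq_iSup', L.cj_iSup]
      refine iSup_le fun E => ?_
      exact le_iSup (fun E : 𝒦 => (E : Subgroup G)) ⟨_, hinv g E E.2⟩
    exact h1 (L.conj_mem_cj hn)
  have hsub : ∀ E ∈ 𝒦, E.IsSubnormal := fun E hE =>
    isSubnormal_of_le_normalizer (hER E hE) hRn.isSubnormal (hnorm E hE)
  have hcore : ∀ E ∈ 𝒦, pCoreOf p E = ⊥ := fun E hE => by
    have := pCoreOf_le_pCore_of_isSubnormal (p := p) (hsub E hE)
    rwa [h0, le_bot_iff] at this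
  have facts := fun E hE => spi_facts (hspi E hE) (hcore E hE)
  have hpcj : ∀ (h : G) (E : Subgroup G), 𝕆(p, (L.cj h E)) = L.cj h 𝕆(p, E) := fun h E =>
    (pRes_map_conj E h).symm
  have hcard : ∀ E ∈ 𝒦, ∀ K ∈ 𝒦, Nat.card ↥(𝕆(p, E)) = Nat.card ↥(𝕆(p, K)) := by
    intro E hE K hK
    obtain ⟨h, rfl⟩ := htr E hE K hK
    rw [hpcj, L.card_cj]
  -- step 1
  have step1 : ∀ E ∈ 𝒦, ∀ K ∈ 𝒦, 𝕆(p, E) = 𝕆(p, K) ∨ ⁅E, K⁆ = ⊥ := by
    intro E hE K hK
    obtain ⟨f1, f2, f3, f4⟩ := facts E hE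
    have hKE : K ≤ Subgroup.normalizer (E : Set G) := (hER K hK).trans (hnorm E hE)
    have hEK : E ≤ Subgroup.normalizer (K : Set G) := (hER E hE).trans (hnorm K hK)
    have hNE : ⁅E, K⁆ ≤ E := Subgroup.le_normalizer_iff_commutator_le_left.1 hKE
    have hNK : ⁅E, K⁆ ≤ K := Subgroup.le_normalizer_iff_commutator_le_right.1 hEK
    by_cases hc1 : ⁅⁅E, K⁆, E⁆ = ⊥
    swap
    · left
      have h1 := f1 _ hNE (Subgroup.normalizer_commutator_ge_left E K) hc1
      refine L.eq_of_le_of_card_le ?_ (hcard E hE K hK).ge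
      have h2 := pRes_mono (p := p) (h1.trans hNK)
      rwa [pRes_pRes] at h2
    by_cases hc2 : ⁅⁅E, K⁆, K⁆ = ⊥
    swap
    · left
      have h1 := (facts K hK).1 _ hNK (Subgroup.normalizer_commutator_ge_right E K) hc2
      refine (L.eq_of_le_of_card_le ?_ (hcard E hE K hK).le).symm
      have h2 := pRes_mono (p := p) (h1.trans hNE)
      rwa [pRes_pRes] at h2
    right
    have h1 : ⁅⁅E, E⁆, K⁆ = ⊥ := by
      refine Subgroup.commutator_commutator_eq_bot_of_rotate hc1 ?_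
      rw [Subgroup.commutator_comm K E]; exact hc1
    have h2 : ⁅𝕆(p, E), K⁆ = ⊥ := by
      rw [eq_bot_iff, ← h1]
      exact Subgroup.commutator_mono f2 le_rfl
    rw [Subgroup.commutator_eq_bot_iff_le_centralizer] at hc1 h2
    have hcomm : ∀ x ∈ ⁅E, K⁆, ∀ y ∈ E, Commute x y := fun x hx y hy =>
      (Subgroup.mem_centralizer_iff.1 (hc1 hx) y hy).symm
    have hNp : IsPGroup p ↥⁅E, K⁆ := by
      rw [isPGroup_iff_mem]
      intro x hx
      have key : x ∈ ⁅E, K⁆ ∧ ∃ n : ℕ, x ^ p ^ n = 1 := by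
        rw [Subgroup.commutator_def] at hx
        induction hx using Subgroup.closure_induction with
        | mem x hx =>
          obtain ⟨e, he, k, hk, rfl⟩ := hx
          have h3 : ⁅e, k⁆ ∈ ⁅E, K⁆ := Subgroup.commutator_mem_commutator he hk
          refine ⟨h3, ?_⟩
          obtain ⟨n, hn⟩ := forall_pow_mem_of_pRes_le (p := p) (le_refl (𝕆(p, E))) e he
          refine ⟨n, ?_⟩
          rw [← commutator_pow_left (hcomm _ h3 e he), commutatorElement_eq_one_iff_mul_comm]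
          exact (Subgroup.mem_centralizer_iff.1 (h2 hn) k hk).symm
        | one => exact ⟨one_mem _, 0, by simp⟩
        | mul x y _ _ ihx ihy =>
          obtain ⟨hx1, n, hn⟩ := ihx
          obtain ⟨hy1, m, hm⟩ := ihy
          refine ⟨mul_mem hx1 hy1, n + m, ?_⟩
          rw [(hcomm x hx1 y (hNE hy1)).mul_pow, pow_add, pow_mul, hn, one_pow, one_mul,
            mul_comm, pow_mul, hm, one_pow]
        | inv x _ ihx =>
          obtain ⟨hx1, n, hn⟩ := ihx
          exact ⟨inv_mem hx1, n, by rw [inv_pow, hn, inv_one]⟩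
      exact key.2
    have h3 := le_pCoreOf hNE (Subgroup.normalizer_commutator_ge_left E K) hNp
    rwa [hcore E hE, le_bot_iff] at h3
  refine ⟨⟨?_, ?_⟩, step1⟩
  · -- not p-closed
    intro hcl
    obtain ⟨T, hT⟩ := L.exists_sylIn (p := p) (⊤ : Subgroup G)
    rw [isPClosed_top_iff hT, h0, le_bot_iff] at hcl
    obtain ⟨E, hE⟩ := hne
    have h1 := sylIn_inf_of_isSubnormal hT (hsub E hE)
    rw [hcl, bot_inf_eq] at h1
    have h2 := (facts E hE).2.2.1 _ h1
    rw [Subgroup.commutator_bot_right] at h2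
    exact (facts E hE).2.2.2 h2.symm
  · intro N hN hNc
    obtain ⟨T, hT⟩ := L.exists_sylIn (p := p) (⊤ : Subgroup G)
    rw [isPClosed_normal_iff hT, h0, le_bot_iff] at hNc
    by_contra hcon
    -- every E centralizes N ⊓ E
    have hNE : ∀ E ∈ 𝒦, ⁅N ⊓ E, E⁆ = ⊥ := by
      intro E hE
      by_contra hne'
      apply hcon
      have h1 := (facts E hE).1 (N ⊓ E) inf_le_right
        (le_normalizer_inf le_normalizer_of_normal Subgroup.le_normalizer) hne'
      refine pResidual_le_of_family hres hnorm fun K hK => ?_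
      obtain ⟨h, rfl⟩ := htr E hE K hK
      rw [hpcj, L.cj_le_iff]
      have h2 : L.cj h⁻¹ N = N :=
        mem_normalizer_iff_map.1 (le_normalizer_of_normal (A := ⊤) (Subgroup.mem_top _))
      rw [h2]
      exact h1.trans inf_le_left
    have hNRn : (N ⊓ R).Normal := inferInstance
    have hX : ∀ E ∈ 𝒦, ⁅𝕆(p, E), N ⊓ R⁆ = ⊥ := by
      intro E hE
      have h1 : ⁅N ⊓ R, E⁆ ≤ N ⊓ E := by
        refine le_inf ((Subgroup.commutator_mono inf_le_left le_rfl).trans
          (Subgroup.commutator_le_left N E)) ?_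
        exact Subgroup.le_normalizer_iff_commutator_le_right.1 (inf_le_right.trans (hnorm E hE))
      have h2 : ⁅⁅N ⊓ R, E⁆, E⁆ = ⊥ := by
        rw [eq_bot_iff, ← hNE E hE]
        exact Subgroup.commutator_mono h1 le_rfl
      have h3 : ⁅⁅E, E⁆, N ⊓ R⁆ = ⊥ := by
        refine Subgroup.commutator_commutator_eq_bot_of_rotate ?_ h2
        rw [Subgroup.commutator_comm E]; exact h2
      rw [eq_bot_iff, ← h3]
      exact Subgroup.commutator_mono (facts E hE).2.1 le_rfl
    have hcen : pResidual p G ≤ Subgroup.centralizer ((N ⊓ R : Subgroup G) : Set G) := by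
      have : (Subgroup.centralizer ((N ⊓ R : Subgroup G) : Set G)).Normal :=
        Subgroup.normal_centralizer
      refine pResidual_le_of_family hres hnorm fun E hE => ?_
      rw [← Subgroup.commutator_eq_bot_iff_le_centralizer]
      exact hX E hE
    have hpr : ∀ Y : Subgroup G, IsPGroup p Y → Y ≤ N ⊓ R → Y = ⊥ := by
      intro Y hY hYN
      refine eq_bot_of_centralizes_pResidual h0 hY (hYN.trans ?_)
      rw [Subgroup.le_centralizer_iff]
      exact hcen
    set W : Subgroup G := ⨆ E : 𝒦, 𝕆(p, (E : Subgroup G)) with hW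
    have hWn : W.Normal := by
      refine ⟨fun n hn g => ?_⟩
      have h1 : L.cj g W ≤ W := by
        rw [hW, L.cj_iSup]
        refine iSup_le fun E => ?_
        rw [← hpcj]
        exact le_iSup (fun E : 𝒦 => 𝕆(p, (E : Subgroup G))) ⟨_, hinv g E E.2⟩
      exact h1 (L.conj_mem_cj hn)
    have hresW : pResidual p G ≤ W := pResidual_le_of_family hres hnorm fun E hE =>
      le_iSup (fun E : 𝒦 => 𝕆(p, (E : Subgroup G))) ⟨E, hE⟩
    apply hNc
    refine eq_bot_of_centralizes_pResidual h0 (hT.isPGroup.to_le inf_le_left) ?_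
    rw [Subgroup.le_centralizer_iff]
    refine hresW.trans (iSup_le ?_)
    rintro ⟨E, hE⟩
    show 𝕆(p, E) ≤ _
    obtain ⟨f1, f2, f3, f4⟩ := facts E hE
    have hTE := sylIn_inf_of_isSubnormal hT (hsub E hE)
    have hf3 := f3 _ hTE
    set X : Subgroup G := 𝕆(p, E) with hXdef
    have hXE : X ≤ E := pRes_le E
    -- T ⊓ N normalizes X
    have hTX : T ⊓ N ≤ Subgroup.normalizer (X : Set G) := by
      intro t ht
      rcases step1 E hE _ (hinv t E hE) with h1 | h1
      · rw [mem_normalizer_iff_map]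
        show L.cj t X = X
        rw [hXdef, ← hpcj]
        exact h1.symm
      · exfalso
        apply f4
        rw [eq_bot_iff, ← hf3]
        have h2 : E ≤ Subgroup.centralizer (X : Set G) := by
          intro e he
          rw [Subgroup.mem_centralizer_iff]
          intro x hx
          have h3 : ⁅e, t⁆ ∈ N ⊓ R := by
            refine Subgroup.mem_inf.2 ⟨?_, ?_⟩
            · exact Subgroup.commutator_le_right E N (Subgroup.commutator_mem_commutator he ht.2)
            · have h4 : e ∈ R := hER E hE he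
              rw [commutatorElement_def, mul_assoc, mul_assoc, ← mul_assoc t]
              exact mul_mem h4 (hRn.conj_mem _ (inv_mem h4) t)
          have h4 : Commute x ⁅e, t⁆ :=
            (Subgroup.mem_centralizer_iff.1 ((hcen.trans le_rfl) (pRes_le_pResidual E hx)) _ h3).symm
          have h5 : Commute x (t * e * t⁻¹) := by
            have h6 := (Subgroup.commutator_eq_bot_iff_le_centralizer.1 h1) (hXE hx)
            exact (Subgroup.mem_centralizer_iff.1 h6 _ (L.conj_mem_cj he)).symm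
          have h6 : e = ⁅e, t⁆ * (t * e * t⁻¹) := by
            simp only [commutatorElement_def]; group
          have h7 : Commute x e := by rw [h6]; exact h4.mul_right h5
          exact h7
        rw [le_bot_iff, Subgroup.commutator_comm, Subgroup.commutator_eq_bot_iff_le_centralizer]
        exact inf_le_right.trans h2
    have h1 : ⁅⁅T ⊓ N, X⁆, T ⊓ E⁆ = ⊥ := by
      rw [eq_bot_iff, ← hNE E hE]
      refine Subgroup.commutator_mono (le_inf ?_ ?_) inf_le_right
      · exact (Subgroup.commutator_mono inf_le_right le_rfl).trans (Subgroup.commutator_le_left N X)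
      · exact (Subgroup.le_normalizer_iff_commutator_le_right.1 hTX).trans hXE
    have h2 : ⁅T ⊓ E, T ⊓ N⁆ = ⊥ := by
      refine hpr _ ?_ (le_inf ?_ ?_)
      · exact hT.isPGroup.to_le ((Subgroup.commutator_mono inf_le_left inf_le_left).trans
          (Subgroup.commutator_le_self T))
      · exact (Subgroup.commutator_mono le_rfl inf_le_right).trans (Subgroup.commutator_le_right _ N)
      · exact (Subgroup.commutator_mono (inf_le_right.trans (hER E hE)) le_rfl).trans
          (Subgroup.commutator_le_left R _)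
    have h3 : ⁅⁅X, T ⊓ E⁆, T ⊓ N⁆ = ⊥ := by
      refine Subgroup.commutator_commutator_eq_bot_of_rotate ?_ h1
      rw [h2, Subgroup.commutator_bot_left]
    rw [hf3, Subgroup.commutator_eq_bot_iff_le_centralizer] at h3
    exact h3

theorem isPClosed_congr {A B : Type*} [Group A] [Group B] [Finite A] [Fact p.Prime]
    (e : A ≃* B) (h : IsPClosed p B) : IsPClosed p A := by
  intro P
  have h1 := h (P.mapSurjective (f := e.toMonoidHom) e.surjective)
  have h2 : ((P : Subgroup A).map e.toMonoidHom).Normal := h1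
  have h3 := h2.comap e.toMonoidHom
  rwa [Subgroup.comap_map_eq_self_of_injective e.injective] at h3

theorem spi_congr {A B : Type*} [Group A] [Group B] [Finite A] [Finite B] [Fact p.Prime]
    (e : A ≃* B) (h : IsStronglyPIrreducible p A) : IsStronglyPIrreducible p B := by
  refine ⟨fun hc => h.1 (isPClosed_congr e hc), fun N hN hNc => ?_⟩
  have hc : pCore p B = (pCore p A).map e.toMonoidHom := by
    rw [pCore_eq_of_equiv e]
  have h1 : ¬ ⁅N.comap e.toMonoidHom, (⊤ : Subgroup A)⁆ ≤ pCore p A := by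
    intro h2
    apply hNc
    have h3 := Subgroup.map_mono (f := e.toMonoidHom) h2
    rwa [← hc, Subgroup.map_commutator, Subgroup.map_comap_eq_self_of_surjective
      (show Function.Surjective e.toMonoidHom from e.surjective), Subgroup.map_top_of_surjective _
      (show Function.Surjective e.toMonoidHom from e.surjective)] at h3
  have h2 := h.2 _ (hN.comap _) h1
  have h3 := Subgroup.map_mono (f := e.toMonoidHom) h2
  rwa [pResidual_map (show Function.Surjective e.toMonoidHom from e.surjective),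
    Subgroup.map_comap_eq_self_of_surjective
      (show Function.Surjective e.toMonoidHom from e.surjective)] at h3

theorem spi_map [Finite G] [Fact p.Prime] {E O : Subgroup G} [O.Normal] (hO : IsPGroup p O)
    (h : IsStronglyPIrreducible p ↥E) :
    IsStronglyPIrreducible p ↥(E.map (QuotientGroup.mk' O)) := by
  let ψ : ↥E →* (G ⧸ O) := (QuotientGroup.mk' O).comp E.subtype
  have hker : ψ.ker = O.subgroupOf E := by
    ext x
    rw [MonoidHom.mem_ker, MonoidHom.comp_apply, QuotientGroup.mk'_apply,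
      QuotientGroup.eq_one_iff, Subgroup.mem_subgroupOf]
    rfl
  have hrange : ψ.range = E.map (QuotientGroup.mk' O) := by
    rw [MonoidHom.range_comp, Subgroup.range_subtype]
  have hp : IsPGroup p ↥ψ.ker := by rw [hker]; exact isPGroup_subgroupOf hO
  have h1 : IsStronglyPIrreducible p (↥E ⧸ ψ.ker) :=
    (isStronglyPIrreducible_quotient_iff hp).2 h
  have h2 := spi_congr (QuotientGroup.quotientKerEquivRange ψ) h1
  rwa [hrange] at h2

theorem cj_map {G' : Type*} [Group G'] (f : G →* G') (E : Subgroup G) (g : G) :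
    L.cj (f g) (E.map f) = (L.cj g E).map f := by
  ext x
  constructor
  · rintro ⟨_, ⟨y, hy, rfl⟩, rfl⟩
    refine ⟨g * y * g⁻¹, L.conj_mem_cj hy, ?_⟩
    simp
  · rintro ⟨_, ⟨y, hy, rfl⟩, rfl⟩
    refine ⟨f y, ⟨y, hy, rfl⟩, ?_⟩
    simp

theorem pIrr_prod [Finite G] [Fact p.Prime] {𝒦 : Set (Subgroup G)}
    (hne : 𝒦.Nonempty)
    (hinv : ∀ h : G, ∀ E ∈ 𝒦, L.cj h E ∈ 𝒦) (htr : ∀ E ∈ 𝒦, ∀ K ∈ 𝒦, ∃ h : G, K = L.cj h E)
    (hres : pResidual p G ≤ sSup 𝒦)
    (hnorm : ∀ E ∈ 𝒦, sSup 𝒦 ⊔ pCore p G ≤ Subgroup.normalizer ((E ⊔ pCore p G : Subgroup G) : Set G))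
    (hspi : ∀ E ∈ 𝒦, IsStronglyPIrreducible p ↥E) :
    IsPIrreducible p G ∧ ∀ E ∈ 𝒦, ∀ K ∈ 𝒦,
      𝕆(p, (E ⊔ pCore p G)) = 𝕆(p, (K ⊔ pCore p G)) ∨ ⁅E, K⁆ ≤ pCore p G := by
  set O := pCore p G with hO
  have hOn : O.Normal := pCore_normal p G
  have hOp : IsPGroup p O := isPGroup_pCore p G
  set π := QuotientGroup.mk' O with hπ
  have hπs : Function.Surjective π := QuotientGroup.mk'_surjective O
  set 𝒦' : Set (Subgroup (G ⧸ O)) := (fun E => E.map π) '' 𝒦 with h𝒦'
  have hsup : sSup 𝒦' = (sSup 𝒦).map π := by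
    rw [h𝒦', sSup_image, sSup_eq_iSup, Subgroup.map_iSup]
    exact iSup_congr fun E => (Subgroup.map_iSup _ _).symm
  have hEO : ∀ E : Subgroup G, (E ⊔ O).map π = E.map π := fun E => by
    rw [Subgroup.map_sup, hπ, QuotientGroup.map_mk'_self, sup_bot_eq]
  have h0 : pCore p (G ⧸ O) = ⊥ := pCore_quotient_pCore
  have g1 : ∀ h : G ⧸ O, ∀ E ∈ 𝒦', L.cj h E ∈ 𝒦' := by
    rintro h _ ⟨E, hE, rfl⟩
    obtain ⟨g, rfl⟩ := hπs h
    exact ⟨L.cj g E, hinv g E hE, (cj_map π E g).symm⟩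
  have g2 : ∀ E ∈ 𝒦', ∀ K ∈ 𝒦', ∃ h : G ⧸ O, K = L.cj h E := by
    rintro _ ⟨E, hE, rfl⟩ _ ⟨K, hK, rfl⟩
    obtain ⟨g, rfl⟩ := htr E hE K hK
    exact ⟨π g, (cj_map π E g).symm⟩
  have g3 : pResidual p (G ⧸ O) ≤ sSup 𝒦' := by
    rw [hsup, ← pResidual_map hπs]
    exact Subgroup.map_mono hres
  have g4 : ∀ E ∈ 𝒦', sSup 𝒦' ≤ Subgroup.normalizer (E : Set (G ⧸ O)) := by
    rintro _ ⟨E, hE, rfl⟩
    rw [hsup]
    have h3 := (Subgroup.map_mono (f := π) (hnorm E hE)).trans (Subgroup.le_normalizer_map π)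
    rw [hEO, hEO] at h3
    exact h3
  have g5 : ∀ E ∈ 𝒦', IsStronglyPIrreducible p ↥E := by
    rintro _ ⟨E, hE, rfl⟩
    exact spi_map hOp (hspi E hE)
  have g6 : 𝒦'.Nonempty := hne.image _
  obtain ⟨h1, h2⟩ := pIrr_prod_aux h0 g6 g1 g2 g3 g4 g5
  refine ⟨(isPIrreducible_quotient_iff hOp).1 h1, fun E hE K hK => ?_⟩
  rcases h2 _ ⟨E, hE, rfl⟩ _ ⟨K, hK, rfl⟩ with h3 | h3
  · left
    have key : ∀ A B : Subgroup G, 𝕆(p, (A.map π)) ≤ 𝕆(p, (B.map π)) →
        𝕆(p, (A ⊔ O)) ≤ 𝕆(p, (B ⊔ O)) := by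
      intro A B hAB
      rw [← hEO A, ← hEO B, ← pRes_map, ← pRes_map, Subgroup.map_le_iff_le_comap,
        Subgroup.comap_map_eq, hπ, QuotientGroup.ker_mk'] at hAB
      have h4 := pRes_mono (p := p) hAB
      rw [pRes_pRes, pRes_sup_eq hOp ((le_sup_right : O ≤ B ⊔ O).trans (le_normalizer_pRes _)),
        pRes_pRes] at h4
      exact h4
    exact le_antisymm (key _ _ h3.le) (key _ _ h3.ge)
  · right
    simp only [← Subgroup.map_commutator, Subgroup.map_eq_bot_iff] at h3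
    rwa [hπ, QuotientGroup.ker_mk'] at h3

end Cfsg.Agent.H18
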