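import Mathlib

/-!
# `A₄` in `GL₂(ℤ/2ᵏ)` (helper18)
-/

set_option autoImplicit false
set_option linter.style.haveILetI false

namespace Cfsg.Agent.H18.A4GL

open Matrix

section A4
open Equiv

set_option maxRecDepth 100000 in
theorem A4_gen : ∃ c v : alternatingGroup (Fin 4), c ^ 3 = 1 ∧ c ≠ 1 ∧ v * v = 1 ∧ v ≠ 1 ∧
    v * (c * v * c⁻¹) = c * c * v * (c⁻¹ * c⁻¹) ∧
    ∀ g : alternatingGroup (Fin 4), ∃ (i : Fin 3) (a b : Fin 2), g = c ^ (i : ℕ) * v ^ (a : ℕ) * (c * v * c⁻¹) ^ (b : ℕ) := by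
  decide

end A4

theorem F2_fact : ∀ c : Matrix (Fin 2) (Fin 2) (ZMod 2), c ^ 3 = 1 → c ≠ 1 →
    (c - 1).det ≠ 0 ∧ c 1 0 ≠ 0 := by
  decide

end Cfsg.Agent.H18.A4GL
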