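import Cfsg.Agent.H18.A4GL

/-!
# `A₄` in `GL₂(ℤ/2ᵏ)`, II (helper18)
-/

set_option autoImplicit false
set_option linter.style.haveILetI false

namespace Cfsg.Agent.H18.A4GL

open Matrix

variable {k : ℕ}

/-- reduction mod 2 -/
noncomputable def red (hk : k ≠ 0) : ZMod (2 ^ k) →+* ZMod 2 := ZMod.castHom (dvd_pow_self 2 hk) (ZMod 2)

theorem isUnit_of_red (hk : k ≠ 0) {x : ZMod (2 ^ k)} (h : red hk x ≠ 0) : IsUnit x := by
  haveI : NeZero (2 ^ k) := ⟨by positivity⟩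
  obtain ⟨m, rfl⟩ : ∃ m : ℕ, (m : ZMod (2 ^ k)) = x := ⟨x.val, ZMod.natCast_zmod_val x⟩
  rw [map_natCast] at h
  rw [ZMod.isUnit_iff_coprime]
  apply Nat.Coprime.pow_right
  rw [Nat.coprime_two_right, ← Nat.not_even_iff_odd, even_iff_two_dvd]
  intro h2
  exact h ((ZMod.natCast_eq_zero_iff _ _).2 h2)

theorem red_det (hk : k ≠ 0) (A : Matrix (Fin 2) (Fin 2) (ZMod (2 ^ k))) :
    red hk A.det = (A.map (red hk)).det := by
  rw [RingHom.map_det]; rfl

theorem isUnit_of_red_det (hk : k ≠ 0) {A : Matrix (Fin 2) (Fin 2) (ZMod (2 ^ k))}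
    (h : (A.map (red hk)).det ≠ 0) : IsUnit A := by
  rw [Matrix.isUnit_iff_isUnit_det]
  apply isUnit_of_red hk
  rw [red_det]; exact h

/-- elements of order 3 -/
theorem order_three (hk : k ≠ 0) {c : Matrix (Fin 2) (Fin 2) (ZMod (2 ^ k))} (hc : c ^ 3 = 1) (hc1 : c ≠ 1) :
    c * c + c + 1 = 0 ∧ IsUnit (c 1 0) := by
  set φ := (red hk).mapMatrix (m := Fin 2) with hφ
  have hfac : (c - 1) * (c * c + c + 1) = 0 := by
    have : (c - 1) * (c * c + c + 1) = c ^ 3 - 1 := by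
      rw [pow_succ, pow_two]; noncomm_ring
    rw [this, hc, sub_self]
  have hφc : φ c ^ 3 = 1 := by rw [← map_pow, hc, map_one]
  by_cases h1 : φ c = 1
  · exfalso
    have h2 : φ (c * c + c + 1) = 1 := by
      rw [map_add, map_add, map_mul, h1, map_one]
      have : (1 : Matrix (Fin 2) (Fin 2) (ZMod 2)) + 1 = 0 := by decide
      rw [mul_one, this, zero_add]
    have h3 : IsUnit (c * c + c + 1) := by
      apply isUnit_of_red_det hk
      have h4 : (c * c + c + 1).map (red hk) = 1 := h2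
      rw [h4, Matrix.det_one]
      exact one_ne_zero
    obtain ⟨u, hu⟩ := h3
    rw [← hu] at hfac
    have h5 : c - 1 = 0 := by
      have := congrArg (· * (↑u⁻¹ : Matrix (Fin 2) (Fin 2) (ZMod (2 ^ k)))) hfac
      simpa [mul_assoc] using this
    exact hc1 (sub_eq_zero.1 h5)
  · obtain ⟨h2, h3⟩ := F2_fact (φ c) hφc h1
    constructor
    · have h4 : IsUnit (c - 1) := by
        apply isUnit_of_red_det hk
        have : (c - 1).map (red hk) = φ c - 1 := by
          show φ (c - 1) = _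
          rw [map_sub, map_one]
        rw [this]; exact h2
      obtain ⟨u, hu⟩ := h4
      rw [← hu] at hfac
      have := congrArg ((↑u⁻¹ : Matrix (Fin 2) (Fin 2) (ZMod (2 ^ k))) * ·) hfac
      simpa [← mul_assoc] using this
    · exact isUnit_of_red hk h3

/-- the companion matrix -/
def C0 (k : ℕ) : Matrix (Fin 2) (Fin 2) (ZMod (2 ^ k)) := !![0, -1; 1, -1]

theorem C0_cube : C0 k * (C0 k * C0 k) = 1 := by
  ext i j
  fin_cases i <;> fin_cases j <;> simp [C0, Matrix.mul_apply, Fin.sum_univ_two]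

theorem isUnit_three : ∃ t : ZMod (2 ^ k), 3 * t = 1 := by
  have h : IsUnit ((3 : ℕ) : ZMod (2 ^ k)) := by
    rw [ZMod.isUnit_iff_coprime]
    exact Nat.Coprime.pow_right k (by norm_num)
  obtain ⟨u, hu⟩ := h
  refine ⟨↑u⁻¹, ?_⟩
  have : ((3 : ℕ) : ZMod (2 ^ k)) = 3 := by norm_cast
  rw [← this, ← hu, Units.mul_inv]

/-- conjugating to the companion matrix -/
theorem conj_C0 {c : Matrix (Fin 2) (Fin 2) (ZMod (2 ^ k))} (hc : c * c + c + 1 = 0) (hu : IsUnit (c 1 0)) :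
    ∃ P : GL (Fin 2) (ZMod (2 ^ k)), c * P.val = P.val * C0 k := by
  let M : Matrix (Fin 2) (Fin 2) (ZMod (2 ^ k)) := !![1, c 0 0; 0, c 1 0]
  have hM : IsUnit M := by
    rw [Matrix.isUnit_iff_isUnit_det, Matrix.det_fin_two_of]
    simpa using hu
  obtain ⟨P, hP⟩ := hM
  refine ⟨P, ?_⟩
  rw [hP]
  have e00 := congrFun (congrFun hc 0) 0
  have e10 := congrFun (congrFun hc 1) 0
  simp [Matrix.mul_apply, Fin.sum_univ_two] at e00 e10
  ext i j
  fin_cases i <;> fin_cases j <;> simp [M, C0, Matrix.mul_apply, Fin.sum_univ_two]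
  · linear_combination e00
  · linear_combination e10

/-- main computation -/
theorem solve {v : Matrix (Fin 2) (Fin 2) (ZMod (2 ^ k))} (h1 : v * v = 1)
    (h2 : v * (C0 k * v * (C0 k * C0 k)) = C0 k * C0 k * v * C0 k) :
    ∃ b0 b1 : ZMod (2 ^ k), 2 * b0 = 0 ∧ 2 * b1 = 0 ∧ v = !![1 + b0, b1 - b0; b1, 1 - b0] := by
  obtain ⟨t, ht⟩ := isUnit_three (k := k)
  obtain ⟨a0, a1, b0, b1, hv⟩ : ∃ a0 a1 b0 b1 : ZMod (2 ^ k),
      v = !![a0 + b0, -a1 - b0 + b1; a1 + b1, a0 - a1 - b0] := by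
    refine ⟨v 0 0 - t * (2 * (v 0 0 - v 1 1) - (v 1 0 - v 0 1)), t * (2 * (v 1 0 - v 0 1) - (v 0 0 - v 1 1)),
      t * (2 * (v 0 0 - v 1 1) - (v 1 0 - v 0 1)),
      v 1 0 - t * (2 * (v 1 0 - v 0 1) - (v 0 0 - v 1 1)), ?_⟩
    ext i j
    fin_cases i <;> fin_cases j <;> simp
    · linear_combination (v 1 0 - v 0 1) * ht
    · linear_combination (v 0 0 - v 1 1) * ht
  subst hv
  have e00 := congrFun (congrFun h1 0) 0
  have e01 := congrFun (congrFun h1 0) 1
  have e10 := congrFun (congrFun h1 1) 0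
  have e11 := congrFun (congrFun h1 1) 1
  have f00 := congrFun (congrFun h2 0) 0
  have f01 := congrFun (congrFun h2 0) 1
  have f10 := congrFun (congrFun h2 1) 0
  have f11 := congrFun (congrFun h2 1) 1
  simp [Matrix.mul_apply, Fin.sum_univ_two, C0] at e00 e01 e10 e11 f00 f01 f10 f11
  have E2 : 2 * a0 * a1 - a1 ^ 2 = 0 := by
    linear_combination t * (2 * (e10 - e01) - (e00 - e11)) - (2 * a0 * a1 - a1 ^ 2) * ht
  have Y0 : b0 * (2 * a0 - a1) = 0 := by
    linear_combination t * (2 * (e00 - e11) - (e10 - e01)) - (b0 * (2 * a0 - a1)) * ht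
  have E1 : a0 ^ 2 - a1 ^ 2 + (b0 ^ 2 - b0 * b1 + b1 ^ 2) = 1 := by linear_combination e00 - Y0
  have F2 : 2 * a0 * a1 - a1 ^ 2 + (b0 ^ 2 - b0 * b1 + b1 ^ 2) - a1 = 0 := by
    linear_combination t * (2 * (f10 - f01) - (f00 - f11)) -
      (2 * a0 * a1 - a1 ^ 2 + (b0 ^ 2 - b0 * b1 + b1 ^ 2) - a1) * ht
  have G0 : (a0 + a1 + 1) * b1 = 0 := by
    linear_combination t * (2 * (f00 - f11) - (f10 - f01)) - ((a0 + a1 + 1) * b1) * ht
  have G1 : -((a0 + a1 + 1) * (b0 - b1)) = 0 := by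
    linear_combination f10 - F2
  have F1 : a0 ^ 2 - a1 ^ 2 - a0 = 0 := by linear_combination f00 - G0
  have hn : b0 ^ 2 - b0 * b1 + b1 ^ 2 = a1 := by linear_combination F2 - E2
  have ha0 : a0 = 1 - a1 := by linear_combination E1 - F1 - hn
  have ha1 : a1 = 0 := by
    rw [ha0] at F1
    linear_combination -F1
  rw [ha1, sub_zero] at ha0
  subst ha1 ha0
  refine ⟨b0, b1, ?_, ?_, ?_⟩
  · linear_combination G0 - G1
  · linear_combination G0
  · ext i j
    fin_cases i <;> fin_cases j <;> simp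
    ring

theorem two_mul_eq_zero (hk : k ≠ 0) {b : ZMod (2 ^ k)} (h : 2 * b = 0) :
    b = 0 ∨ b = ((2 ^ (k - 1) : ℕ) : ZMod (2 ^ k)) := by
  haveI : NeZero (2 ^ k) := ⟨by positivity⟩
  obtain ⟨m, hm, rfl⟩ : ∃ m : ℕ, m < 2 ^ k ∧ (m : ZMod (2 ^ k)) = b :=
    ⟨b.val, ZMod.val_lt b, ZMod.natCast_zmod_val b⟩
  have h1 : ((2 * m : ℕ) : ZMod (2 ^ k)) = 0 := by
    push_cast; exact h
  rw [ZMod.natCast_eq_zero_iff] at h1
  obtain ⟨l, rfl⟩ := Nat.exists_eq_succ_of_ne_zero hk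
  obtain ⟨c, hc⟩ := h1
  have h2 : m = 2 ^ l * c := by
    rw [pow_succ] at hc
    have : 2 * m = 2 * (2 ^ l * c) := by rw [hc]; ring
    omega
  have h3 : c < 2 := by
    rw [h2, pow_succ] at hm
    exact lt_of_mul_lt_mul_left hm (Nat.zero_le _)
  interval_cases c
  · left
    rw [h2, mul_zero, Nat.cast_zero]
  · right
    rw [h2, mul_one]
    rfl

/-- the standard involution -/
def W (k : ℕ) : Matrix (Fin 2) (Fin 2) (ZMod (2 ^ k)) :=
  !![1 + ((2 ^ (k - 1) : ℕ) : ZMod (2 ^ k)), -((2 ^ (k - 1) : ℕ) : ZMod (2 ^ k)); 0,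
    1 - ((2 ^ (k - 1) : ℕ) : ZMod (2 ^ k))]

theorem half_sq (hk : 2 ≤ k) : ((2 ^ (k - 1) : ℕ) : ZMod (2 ^ k)) * ((2 ^ (k - 1) : ℕ) : ZMod (2 ^ k)) = 0 := by
  rw [← Nat.cast_mul, ZMod.natCast_eq_zero_iff, ← pow_add]
  exact pow_dvd_pow 2 (by omega)

theorem half_two (hk : 2 ≤ k) : 2 * ((2 ^ (k - 1) : ℕ) : ZMod (2 ^ k)) = 0 := by
  have : (2 : ZMod (2 ^ k)) = ((2 : ℕ) : ZMod (2 ^ k)) := by norm_cast
  rw [this, ← Nat.cast_mul, ZMod.natCast_eq_zero_iff, ← pow_succ']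
  exact pow_dvd_pow 2 (by omega)

theorem W_sq (hk : 2 ≤ k) : W k * W k = 1 := by
  have h1 := half_sq hk
  have h2 := half_two hk
  unfold W
  set h := ((2 ^ (k - 1) : ℕ) : ZMod (2 ^ k)) with hh
  ext i j
  fin_cases i <;> fin_cases j <;> simp [Matrix.mul_apply, Fin.sum_univ_two, -Nat.cast_pow]
  · linear_combination h1 + h2
  · linear_combination -h2
  · linear_combination h1 - h2

/-- the solutions -/
theorem solve' (hk : 2 ≤ k) {v : Matrix (Fin 2) (Fin 2) (ZMod (2 ^ k))} (h1 : v * v = 1)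
    (h2 : v * (C0 k * v * (C0 k * C0 k)) = C0 k * C0 k * v * C0 k) (hv : v ≠ 1) :
    v = W k ∨ v = C0 k * W k * (C0 k * C0 k) ∨ v = C0 k * C0 k * W k * C0 k := by
  obtain ⟨b0, b1, hb0, hb1, rfl⟩ := solve h1 h2
  have hh := half_two hk
  rcases two_mul_eq_zero (by omega) hb0 with h0 | h0 <;> rcases two_mul_eq_zero (by omega) hb1 with h3 | h3
  · exfalso
    apply hv
    rw [h0, h3]
    ext i j
    fin_cases i <;> fin_cases j <;> simp
  · right; right
    rw [h0, h3]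
    unfold W C0
    set h := ((2 ^ (k - 1) : ℕ) : ZMod (2 ^ k))
    ext i j
    fin_cases i <;> fin_cases j <;> simp [Matrix.mul_apply, Fin.sum_univ_two, -Nat.cast_pow]
    all_goals first
      | linear_combination hh
      | linear_combination -hh
      | linear_combination 2 * hh
      | linear_combination (-2 : ZMod (2 ^ k)) * hh
      | linear_combination (0 : ZMod (2 ^ k)) * hh
  · left
    rw [h0, h3]
    unfold W
    set h := ((2 ^ (k - 1) : ℕ) : ZMod (2 ^ k))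
    ext i j
    fin_cases i <;> fin_cases j <;> simp [-Nat.cast_pow]
  · right; left
    rw [h0, h3]
    unfold W C0
    set h := ((2 ^ (k - 1) : ℕ) : ZMod (2 ^ k))
    ext i j
    fin_cases i <;> fin_cases j <;> simp [Matrix.mul_apply, Fin.sum_univ_two, -Nat.cast_pow]
    all_goals first
      | linear_combination hh
      | linear_combination -hh
      | linear_combination 2 * hh
      | linear_combination (-2 : ZMod (2 ^ k)) * hh
      | linear_combination (0 : ZMod (2 ^ k)) * hh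


/-- the standard subgroup -/
theorem exists_conj_std (hk : 2 ≤ k) : ∃ c w : GL (Fin 2) (ZMod (2 ^ k)),
    ∀ H : Subgroup (GL (Fin 2) (ZMod (2 ^ k))), Nonempty (H ≃* alternatingGroup (Fin 4)) →
      ∃ g : GL (Fin 2) (ZMod (2 ^ k)), H.map (MulAut.conj g).toMonoidHom = Subgroup.closure {c, w} := by
  have hC3 := C0_cube (k := k)
  have hC3' : C0 k * C0 k * C0 k = 1 := by rw [mul_assoc, hC3]
  let c : GL (Fin 2) (ZMod (2 ^ k)) := ⟨C0 k, C0 k * C0 k, hC3, hC3'⟩
  let w : GL (Fin 2) (ZMod (2 ^ k)) := ⟨W k, W k, W_sq hk, W_sq hk⟩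
  refine ⟨c, w, ?_⟩
  rintro H ⟨e⟩
  obtain ⟨c₀, v₀, hc3, hc1, hvv, hv1, hrel, hgen⟩ := A4_gen
  obtain ⟨x, hx⟩ : ∃ x : GL (Fin 2) (ZMod (2 ^ k)), x = ((e.symm c₀ : H) : GL (Fin 2) (ZMod (2 ^ k))) := ⟨_, rfl⟩
  obtain ⟨y, hy⟩ : ∃ y : GL (Fin 2) (ZMod (2 ^ k)), y = ((e.symm v₀ : H) : GL (Fin 2) (ZMod (2 ^ k))) := ⟨_, rfl⟩
  have hx3 : x ^ 3 = 1 := by
    rw [hx, ← Subgroup.coe_pow, ← map_pow, hc3, map_one, Subgroup.coe_one]
  have hx1 : x ≠ 1 := by
    intro h
    apply hc1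
    rw [hx] at h
    exact (map_eq_one_iff _ e.symm.injective).1 (Subtype.ext h)
  have hyy : y * y = 1 := by
    rw [hy, ← Subgroup.coe_mul, ← map_mul, hvv, map_one, Subgroup.coe_one]
  have hy1 : y ≠ 1 := by
    intro h
    apply hv1
    rw [hy] at h
    exact (map_eq_one_iff _ e.symm.injective).1 (Subtype.ext h)
  have hxy : y * (x * y * x⁻¹) = x * x * y * (x⁻¹ * x⁻¹) := by
    have := congrArg (fun g => ((e.symm g : H) : GL (Fin 2) (ZMod (2 ^ k)))) hrel
    rw [hx, hy]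
    simpa using this
  -- `H` is generated
  have hH : H = Subgroup.closure {x, y} := by
    apply le_antisymm
    · intro g hg
      obtain ⟨i, a, b, h⟩ := hgen (e ⟨g, hg⟩)
      have h1 : g = x ^ (i : ℕ) * y ^ (a : ℕ) * (x * y * x⁻¹) ^ (b : ℕ) := by
        have := congrArg (fun g => ((e.symm g : H) : GL (Fin 2) (ZMod (2 ^ k)))) h
        rw [hx, hy]
        simpa using this
      have hxc : x ∈ Subgroup.closure ({x, y} : Set (GL (Fin 2) (ZMod (2 ^ k)))) :=
        Subgroup.subset_closure (by simp)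
      have hyc : y ∈ Subgroup.closure ({x, y} : Set (GL (Fin 2) (ZMod (2 ^ k)))) :=
        Subgroup.subset_closure (by simp)
      rw [h1]
      exact Subgroup.mul_mem _ (Subgroup.mul_mem _ (Subgroup.pow_mem _ hxc _) (Subgroup.pow_mem _ hyc _))
        (Subgroup.pow_mem _ (Subgroup.mul_mem _ (Subgroup.mul_mem _ hxc hyc) (Subgroup.inv_mem _ hxc)) _)
    · rw [Subgroup.closure_le]
      rintro _ (rfl | rfl)
      · rw [hx]; exact (e.symm c₀).2
      · rw [hy]; exact (e.symm v₀).2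
  -- conjugate `x` to `c`
  obtain ⟨h3, h4⟩ := order_three (c := x.val) (by omega) (by
    have := congrArg Units.val hx3
    simpa using this) (fun h => hx1 (Units.ext h))
  obtain ⟨P, hP⟩ := conj_C0 h3 h4
  have hPx : P⁻¹ * x * P = c := by
    rw [mul_assoc, inv_mul_eq_iff_eq_mul]
    exact Units.ext hP
  set y' := P⁻¹ * y * P with hy'
  have hyy' : y' * y' = 1 := by
    calc y' * y' = P⁻¹ * (y * y) * P := by rw [hy']; group
      _ = 1 := by rw [hyy]; group
  have hcinv : c⁻¹ = c * c := Units.ext rfl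
  have hxy' : y' * (c * y' * (c * c)) = c * c * y' * c := by
    have h5 : y' * (c * y' * c⁻¹) = c * c * y' * (c⁻¹ * c⁻¹) := by
      calc y' * (c * y' * c⁻¹) = P⁻¹ * (y * (x * y * x⁻¹)) * P := by rw [hy', ← hPx]; group
        _ = P⁻¹ * (x * x * y * (x⁻¹ * x⁻¹)) * P := by rw [hxy]
        _ = c * c * y' * (c⁻¹ * c⁻¹) := by rw [hy', ← hPx]; group
    have h6 : c⁻¹ * c⁻¹ = c := by
      rw [← _root_.mul_inv_rev, ← hcinv, inv_inv]
    rw [h6, hcinv] at h5
    exact h5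
  have hy1' : y' ≠ 1 := by
    intro h
    apply hy1
    have : y = P * y' * P⁻¹ := by rw [hy']; group
    rw [this, h]; group
  have hsol := solve' (v := y'.val) hk (by
    have := congrArg Units.val hyy'
    simpa using this) (by
    have := congrArg Units.val hxy'
    simpa using this) (fun h => hy1' (Units.ext h))
  have hc3u : c * (c * c) = 1 := Units.ext hC3
  refine ⟨P⁻¹, ?_⟩
  rw [hH, MonoidHom.map_closure, Set.image_pair]
  have h7 : (MulAut.conj P⁻¹).toMonoidHom x = c := by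
    show P⁻¹ * x * P⁻¹⁻¹ = c
    rw [inv_inv]; exact hPx
  have h8 : (MulAut.conj P⁻¹).toMonoidHom y = y' := by
    show P⁻¹ * y * P⁻¹⁻¹ = y'
    rw [inv_inv]
  rw [h7, h8]
  have hcases : ∃ d : GL (Fin 2) (ZMod (2 ^ k)), d ∈ Subgroup.zpowers c ∧ y' = d * w * d⁻¹ := by
    rcases hsol with h | h | h
    · exact ⟨1, Subgroup.one_mem _, by rw [one_mul, inv_one, mul_one]; exact Units.ext h⟩
    · exact ⟨c, Subgroup.mem_zpowers c, by rw [hcinv]; exact Units.ext h⟩
    · refine ⟨c * c, Subgroup.mul_mem _ (Subgroup.mem_zpowers c) (Subgroup.mem_zpowers c), ?_⟩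
      rw [← hcinv, inv_inv, hcinv]; exact Units.ext h
  obtain ⟨d, hd, hyd⟩ := hcases
  apply le_antisymm
  · rw [Subgroup.closure_le]
    have hcm : c ∈ Subgroup.closure ({c, w} : Set (GL (Fin 2) (ZMod (2 ^ k)))) :=
      Subgroup.subset_closure (by simp)
    have hwm : w ∈ Subgroup.closure ({c, w} : Set (GL (Fin 2) (ZMod (2 ^ k)))) :=
      Subgroup.subset_closure (by simp)
    have hdm := (Subgroup.zpowers_le).2 hcm hd
    rintro _ (rfl | rfl)
    · exact hcm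
    · rw [SetLike.mem_coe, hyd]
      exact Subgroup.mul_mem _ (Subgroup.mul_mem _ hdm hwm) (Subgroup.inv_mem _ hdm)
  · rw [Subgroup.closure_le]
    have hcm : c ∈ Subgroup.closure ({c, y'} : Set (GL (Fin 2) (ZMod (2 ^ k)))) :=
      Subgroup.subset_closure (by simp)
    have hwm : y' ∈ Subgroup.closure ({c, y'} : Set (GL (Fin 2) (ZMod (2 ^ k)))) :=
      Subgroup.subset_closure (by simp)
    have hdm := (Subgroup.zpowers_le).2 hcm hd
    have hw : w = d⁻¹ * y' * d := by rw [hyd]; group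
    rintro _ (rfl | rfl)
    · exact hcm
    · rw [SetLike.mem_coe, hw]
      exact Subgroup.mul_mem _ (Subgroup.mul_mem _ (Subgroup.inv_mem _ hdm) hwm) hdm

end Cfsg.Agent.H18.A4GL
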