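import Cfsg.Agent.H18.Asym2
import Cfsg.Agent.H10.Comp

set_option autoImplicit false
open Cfsg
open scoped commutatorElement

namespace Cfsg.Agent.H18

variable {G : Type*} [Group G] {p : ℕ}

local notation "𝕆(" p ", " H ")" => Subgroup.map (Subgroup.subtype H) (Cfsg.pResidual p ↥H)

theorem pRed_le_largest [Finite G] [Fact p.Prime] {T K X V : Subgroup G}
    (hX : Subgroup.centralizer (pCore p X : Set X) ≤ pCore p X)
    (hT : L.SylIn p T X) (hTK : T ≤ K) (hKX : K ≤ X) (hV : PRed p V K) :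
    V ≤ largestPReducedOf p X := by
  have h1 := isPReducedNormal_normalClosure hX (T := T.subgroupOf X) (R := K.subgroupOf X)
    (X := V.subgroupOf X) (by
      have h2 := sylIn_subgroupOf (L := X) le_rfl hT
      rwa [Subgroup.subgroupOf_self] at h2) (Subgroup.comap_mono hTK)
    (pRed_subgroupOf hKX hV)
  have h2 := le_largestPReduced h1
  have h3 := Subgroup.map_mono (f := X.subtype) (Subgroup.le_normalClosure.trans h2)
  rwa [Subgroup.map_subgroupOf_eq_of_le (hV.le.trans hKX)] at h3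

/-- a p-subgroup normalized by `F*(X)` is trivial if `O_p(X)=1` -/
theorem eq_bot_of_genFitting_le_normalizer [Finite G] [Fact p.Prime] {D : Subgroup G}
    (hG : pCore p G = ⊥) (hD : IsPGroup p D)
    (hn : generalizedFittingSubgroup G ≤ Subgroup.normalizer (D : Set G)) : D = ⊥ := by
  set F := generalizedFittingSubgroup G with hF
  have hFn : F.Normal := H10.genFitting_normal G
  have h1 : D ⊓ F = ⊥ := by
    rw [eq_bot_iff, ← hG]
    have h2 : D ⊓ F ≤ pCoreOf p F := by
      refine le_pCoreOf inf_le_right ?_ (hD.to_le inf_le_left)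
      exact le_normalizer_inf hn Subgroup.le_normalizer
    exact h2.trans (pCoreOf_le_pCore_of_normal F)
  have h2 : ⁅D, F⁆ = ⊥ := by
    rw [eq_bot_iff, ← h1]
    exact le_inf (Subgroup.le_normalizer_iff_commutator_le_left.1 hn)
      (Subgroup.commutator_le_right D F)
  have h3 : D ≤ F := (Subgroup.commutator_eq_bot_iff_le_centralizer.1 h2).trans
    H10.centralizer_genFitting_le
  rw [← h1, inf_eq_left.2 h3]

/-- ambient version for `M†/C` -/
theorem le_of_genFitting_le_normalizer [Finite G] [Fact p.Prime] {X C F D : Subgroup G}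
    [hn : (C.subgroupOf X).Normal] (hX : pCore p (X ⧸ C.subgroupOf X) = ⊥)
    (hF : F = ((generalizedFittingSubgroup (X ⧸ C.subgroupOf X)).comap
      (QuotientGroup.mk' (C.subgroupOf X))).map X.subtype) (hDX : D ≤ X)
    (hD : ∀ x ∈ D, ∃ k : ℕ, x ^ p ^ k ∈ C) (hFD : F ≤ Subgroup.normalizer (D : Set G)) :
    D ≤ C := by
  have h1 : (D.subgroupOf X).map (QuotientGroup.mk' (C.subgroupOf X)) = ⊥ := by
    refine eq_bot_of_genFitting_le_normalizer hX ?_ ?_
    · rw [isPGroup_iff_mem]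
      rintro _ ⟨x, hx, rfl⟩
      obtain ⟨k, hk⟩ := hD x hx
      refine ⟨k, ?_⟩
      rw [← map_pow, QuotientGroup.mk'_apply, QuotientGroup.eq_one_iff]
      exact hk
    · intro q hq
      obtain ⟨f, rfl⟩ := QuotientGroup.mk'_surjective (C.subgroupOf X) q
      have hfF : (f : G) ∈ F := by rw [hF]; exact ⟨f, hq, rfl⟩
      have h2 : (F.subgroupOf X).map (QuotientGroup.mk' (C.subgroupOf X)) ≤ Subgroup.normalizer
          (((D.subgroupOf X).map (QuotientGroup.mk' (C.subgroupOf X)) : Subgroup _) : Set _) := by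
        refine le_normalizer_of_conj_mem ?_
        rintro _ ⟨a, ha, rfl⟩ _ ⟨d, hd, rfl⟩
        exact ⟨a * d * a⁻¹, conj_mem_of_mem_normalizer (H := D) (g := (a : G)) (x := (d : G))
          (hFD ha) hd, by simp⟩
      exact h2 ⟨f, hfF, rfl⟩
  rw [Subgroup.map_eq_bot_iff, QuotientGroup.ker_mk'] at h1
  intro x hx
  exact h1 (show (⟨x, hDX hx⟩ : X) ∈ D.subgroupOf X from hx)

theorem pCore_quotient_of_pRed [Finite G] [Fact p.Prime] {Y X : Subgroup G} (h : PRed p Y X)
    [hn : ((Subgroup.centralizer (Y : Set G)).subgroupOf X).Normal] :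
    pCore p (X ⧸ (Subgroup.centralizer (Y : Set G)).subgroupOf X) = ⊥ := by
  rw [pCore_quotient_eq_bot_iff]
  intro D hDn hD
  have h1 := h.red (D.map X.subtype) (Subgroup.map_subtype_le _) ?_ ?_
  · intro x hx
    exact h1 ⟨x, hx, rfl⟩
  · rw [← normal_subgroupOf_iff (Subgroup.map_subtype_le _), Subgroup.subgroupOf,
      Subgroup.comap_map_eq_self_of_injective X.subtype_injective]
    exact hDn
  · rintro _ ⟨x, hx, rfl⟩
    obtain ⟨k, hk⟩ := hD x hx
    exact ⟨k, hk⟩

/-- S2851 -/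
theorem FM.le_largest [Finite G] [Fact p.Prime] {T M : Subgroup G} (h : FM p T M)
    (hasym : ¬ IsSymmetricIn (largestPReducedOf p M))
    [hn : ((Subgroup.centralizer ((largestPReducedOf p M : Subgroup G) : Set G)).subgroupOf
      (dag p M)).Normal] {F H : Subgroup G}
    (hF : F = ((generalizedFittingSubgroup (↥(dag p M) ⧸
      (Subgroup.centralizer ((largestPReducedOf p M : Subgroup G) : Set G)).subgroupOf
        (dag p M))).comap (QuotientGroup.mk' ((Subgroup.centralizer
          ((largestPReducedOf p M : Subgroup G) : Set G)).subgroupOf (dag p M)))).map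
            (dag p M).subtype) (hFH : F ≤ H)
    (hH : Subgroup.centralizer (pCore p ↥H : Set ↥H) ≤ pCore p ↥H) :
    largestPReducedOf p M ≤ largestPReducedOf p H := by
  set Y := largestPReducedOf p M with hY
  set C := Subgroup.centralizer (Y : Set G) with hC
  have hCd : C ≤ dag p M := le_sup_right
  have hFd : F ≤ dag p M := by rw [hF]; exact Subgroup.map_subtype_le _
  have hCF : C ≤ F := by
    intro c hc
    rw [hF]
    refine ⟨⟨c, hCd hc⟩, ?_, rfl⟩
    have h1 : (QuotientGroup.mk' (C.subgroupOf (dag p M))) ⟨c, hCd hc⟩ = 1 :=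
      (QuotientGroup.eq_one_iff _).2 hc
    rw [SetLike.mem_coe, Subgroup.mem_comap, h1]; exact one_mem _
  have hPH : pCoreOf p M ≤ H := (h.sylIn.le.trans hCF).trans hFH
  obtain ⟨S, hS, hPS⟩ := L.exists_sylIn_ge (isPGroup_pCoreOf (p := p) M) hPH
  have hSd : S ≤ dag p M := h.le_dag_of_isPGroup hasym hS.isPGroup hPS
  have hcore := pCore_quotient_of_pRed h.pRed_dag
  have hH' := charP_iff_pCoreOf.1 hH
  have hO : pCoreOf p H ≤ C := by
    refine le_of_genFitting_le_normalizer hcore hF ((pCoreOf_le_sylIn hS).trans hSd) ?_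
      (hFH.trans (le_normalizer_pCoreOf H))
    intro x hx
    obtain ⟨k, hk⟩ := isPGroup_of_mem (isPGroup_pCoreOf H) hx
    exact ⟨k, by rw [hk]; exact one_mem _⟩
  have hYd : Y ≤ dag p M := h.pRed.le.trans le_sup_left
  have hYH : Y ≤ H := (h.pRed.le_pCoreOf).trans hPH
  have hR : PRed p Y (H ⊓ dag p M) := by
    refine ⟨le_inf hYH hYd, inf_le_right.trans h.dag_le, h.pRed.elem, fun D hDR hn2 hD => ?_⟩
    exact le_of_genFitting_le_normalizer hcore hF (hDR.trans inf_le_right) hD
      ((le_inf hFH hFd).trans hn2)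
  exact pRed_le_largest hH hS (le_inf hS.le hSd) inf_le_left hR

/-! ### the family ℌ -/

/-- S2852 -/
theorem FM.exists_frakH [Finite G] [Fact p.Prime] {T M : Subgroup G} (h : FM p T M)
    (hasym : ¬ IsSymmetricIn (largestPReducedOf p M))
    (htall : IsCharPTall p (largestPReducedOf p M)) : ∃ H : Subgroup G, IsInFrakH p M H := by
  set Y := largestPReducedOf p M with hY
  set P := pCoreOf p M with hP
  obtain ⟨T', L, hT'L, hL, hYL⟩ := htall
  -- conjugate so that P ≤ L
  have hT's := Cfsg.Agent.L.sylIn_of_sylow T'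
  obtain ⟨c, hc, e⟩ := hT's.exists_conj_eq h.sylIn
  let S : Set (Subgroup G) := {H | Subgroup.centralizer (pCore p ↥H : Set ↥H) ≤ pCore p ↥H ∧
    P ≤ H ∧ ¬ Y ≤ pCoreOf p H}
  have hS : S.Nonempty := by
    refine ⟨Cfsg.Agent.L.cj c L, charP_iff_pCoreOf.2
      (charP_map_conj c (charP_iff_pCoreOf.1 hL)), ?_, ?_⟩
    · rw [hP, ← e]; exact Cfsg.Agent.L.cj_mono hT'L
    · intro h1
      apply hYL
      have h2 : Cfsg.Agent.L.cj c (pCoreOf p L) = pCoreOf p (Cfsg.Agent.L.cj c L) :=
        pCoreOf_map_conj L c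
      rw [← h2] at h1
      have h3 := Cfsg.Agent.L.cj_mono (g := c⁻¹) h1
      rw [Cfsg.Agent.L.cj_inv_cj] at h3
      have h4 : Cfsg.Agent.L.cj c⁻¹ Y = Y :=
        mem_normalizer_iff_map.1 (Subgroup.centralizer_le_normalizer _ (inv_mem hc))
      rwa [h4] at h3
  obtain ⟨H, ⟨hH, hPH, hYH⟩, hmin⟩ := S.toFinite.exists_minimal hS
  have hPp : IsPGroup p P := isPGroup_pCoreOf M
  have hwc := h.wc3 hasym
  obtain ⟨SH, hSH, hPSH⟩ := Cfsg.Agent.L.exists_sylIn_ge hPp hPH
  have hSHN : SH ≤ Subgroup.normalizer (P : Set G) :=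
    Subgroup.le_normalizer.trans (hwc SH hSH.isPGroup hPSH)
  have hSHY : SH ≤ Subgroup.normalizer (Y : Set G) :=
    (h.le_dag_of_isPGroup hasym hSH.isPGroup hPSH).trans h.dag_le
  have hO : pCoreOf p H ≤ SH := pCoreOf_le_sylIn hSH
  have hYP : Y ≤ P := h.pRed.le_pCoreOf
  refine ⟨H, hH, hPH, hYH, fun K hPK hKH => ?_⟩
  -- K O_p(H)
  have hKO : K ≤ Subgroup.normalizer ((pCoreOf p H : Subgroup G) : Set G) :=
    hKH.le.trans (le_normalizer_pCoreOf H)
  by_cases hlt : K ⊔ pCoreOf p H = H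
  · -- contradiction via normal closure of P in H
    exfalso
    set B : Subgroup G := ⨆ k : K, Cfsg.Agent.L.cj (k : G) P with hB
    have hBK : B ≤ K := iSup_le fun k => by
      rw [Cfsg.Agent.L.cj_le_iff, Cfsg.Agent.L.cj_eq_self_of_mem (inv_mem k.2)]; exact hPK
    have hcjB : ∀ x ∈ H, Cfsg.Agent.L.cj x P ≤ B := by
      intro x hx
      rw [← hlt, mem_sup_iff_of_le_normalizer hKO] at hx
      obtain ⟨k, hk, o, ho, rfl⟩ := hx
      rw [← Cfsg.Agent.L.cj_cj, show Cfsg.Agent.L.cj o P = P from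
        mem_normalizer_iff_map.1 (hSHN (hO ho))]
      exact le_iSup (fun k : K => Cfsg.Agent.L.cj (k : G) P) ⟨k, hk⟩
    have hHB : H ≤ Subgroup.normalizer (B : Set G) := by
      have h1 : ∀ x ∈ H, Cfsg.Agent.L.cj x B ≤ B := by
        intro x hx
        rw [hB, Cfsg.Agent.L.cj_iSup]
        refine iSup_le fun g => ?_
        rw [Cfsg.Agent.L.cj_cj]
        exact hcjB _ (mul_mem hx (hKH.le g.2))
      exact le_normalizer_of_conj_mem fun k hk x hx => h1 k hk (Cfsg.Agent.L.conj_mem_cj hx)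
    have hPB : P ≤ B := by
      have := hcjB 1 (one_mem _)
      rwa [Cfsg.Agent.L.cj_one] at this
    have hBH : B ≤ H := hBK.trans hKH.le
    have hBS : B ∈ S := by
      refine ⟨?_, hPB, fun h1 => hYH (h1.trans (pCoreOf_mono_of_normalizes hBH hHB))⟩
      rw [charP_iff_pCoreOf]
      exact charP_normal hBH hHB (charP_iff_pCoreOf.1 hH)
    have h2 : H ≤ B := hmin hBS hBH
    exact absurd (h2.trans hBK) (not_le_of_gt hKH)
  · have hKle : K ⊔ pCoreOf p H ≤ H := sup_le hKH.le (pCoreOf_le H)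
    have h1 : Y ≤ pCoreOf p (K ⊔ pCoreOf p H) := by
      by_contra hn
      apply hlt
      refine le_antisymm hKle (hmin ⟨?_, hPK.trans le_sup_left, hn⟩ hKle)
      have h2 : pCoreOf p H ≤ pCoreOf p (K ⊔ pCoreOf p H) :=
        le_pCoreOf le_sup_right (hKle.trans (le_normalizer_pCoreOf H)) (isPGroup_pCoreOf H)
      rw [charP_iff_pCoreOf]
      refine le_trans (inf_le_inf hKle (Subgroup.centralizer_le (SetLike.coe_subset_coe.2 h2))) ?_
      exact (charP_iff_pCoreOf.1 hH).trans h2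
    have h2 : Y ≤ K ⊓ pCoreOf p (K ⊔ pCoreOf p H) := le_inf (hYP.trans hPK) h1
    refine h2.trans (le_pCoreOf inf_le_left ?_ ((isPGroup_pCoreOf _).to_le inf_le_right))
    exact le_normalizer_inf Subgroup.le_normalizer
      (le_sup_left.trans (le_normalizer_pCoreOf (K ⊔ pCoreOf p H)))

end Cfsg.Agent.H18
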