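import Cfsg.Agent.H18.CN1

/-!
# CN-groups: quotients
-/

set_option autoImplicit false
set_option linter.all false

namespace Cfsg.Agent.H18

open Cfsg Subgroup
open scoped Pointwise commutatorElement

universe u v

variable {G : Type u} [Group G] [Finite G]

omit [Finite G] in
theorem quot_comm_iff {N : Subgroup G} [N.Normal] {x y : G} :
    (x : G ⧸ N) * (y : G ⧸ N) = (y : G ⧸ N) * (x : G ⧸ N) ↔ ⁅x, y⁆ ∈ N := by
  rw [← QuotientGroup.eq_one_iff]
  constructor
  · intro h
    have : ((⁅x, y⁆ : G) : G ⧸ N) = (x : G ⧸ N) * y * (x : G ⧸ N)⁻¹ * (y : G ⧸ N)⁻¹ := rfl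
    rw [this, h]; group
  · intro h
    have : ((⁅x, y⁆ : G) : G ⧸ N) = (x : G ⧸ N) * y * (x : G ⧸ N)⁻¹ * (y : G ⧸ N)⁻¹ := rfl
    rw [this, mul_inv_eq_one, mul_inv_eq_iff_eq_mul] at h
    exact h

omit [Finite G] in
theorem quot_comm_zpow {N : Subgroup G} [N.Normal] {x y : G} (h : ⁅x, y⁆ ∈ N) (m : ℤ) :
    ⁅x, y ^ m⁆ ∈ N := by
  rw [← quot_comm_iff] at h ⊢
  exact (show Commute _ _ from h).zpow_right m

/-- the `q`-part of an element as a power. -/
theorem exists_pow_isPGroup (x : G) (q : ℕ) [Fact q.Prime] : ∃ m : ℕ, ¬ q ∣ m ∧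
    IsPGroup q (zpowers (x ^ m)) := by
  obtain ⟨a, m, hm, h⟩ := Nat.exists_eq_pow_mul_and_not_dvd (n := orderOf x) (orderOf_pos x).ne' q
    (Fact.out : q.Prime).ne_one
  refine ⟨m, hm, ?_⟩
  apply IsPGroup.of_card (n := a)
  rw [Nat.card_zpowers, orderOf_pow, h, Nat.gcd_eq_right (Dvd.intro_left _ rfl)]
  have : 0 < m := Nat.pos_of_ne_zero (by rintro rfl; exact hm (dvd_zero q))
  exact Nat.mul_div_cancel _ this

/-- the quotient of a CN-group by a nontrivial normal `p`-subgroup. -/
theorem cn_quot_pgroup (hCN : IsCNGroup G) {p : ℕ} [Fact p.Prime] (N : Subgroup G) [N.Normal]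
    (hN : IsPGroup p N) (hN1 : N ≠ ⊥) : IsCNGroup (G ⧸ N) := by
  intro g hg
  -- pass to prime order
  obtain ⟨q, k, hq, hk⟩ := exists_prime_power_ne_one hg
  haveI : Fact q.Prime := ⟨hq⟩
  have hg'1 : g ^ k ≠ 1 := fun h => by rw [h, orderOf_one] at hk; exact hq.ne_one hk.symm
  have hle : centralizer ({g} : Set (G ⧸ N)) ≤ centralizer ({g ^ k} : Set (G ⧸ N)) := by
    intro x hx
    rw [H21.mem_cent_singleton] at hx ⊢
    exact ((show Commute x g from hx).pow_right k).eq
  refine nil_mono hle ?_
  generalize g ^ k = y at hk hg'1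
  clear hle hg g k
  obtain ⟨x, rfl⟩ := QuotientGroup.mk_surjective y
  by_cases hqp : q = p
  · subst hqp
    -- `x` is a `q`-element
    have hxq : IsPGroup q (zpowers x) := by
      have h1 : IsPGroup q ((zpowers x).map (QuotientGroup.mk' N)) := by
        rw [MonoidHom.map_zpowers]
        exact isPGroup_zpowers_of_orderOf hk
      have h2 : IsPGroup q (((zpowers x).map (QuotientGroup.mk' N)).comap (QuotientGroup.mk' N)) := by
        refine IsPGroup.comap_of_ker_isPGroup h1 _ ?_
        rw [QuotientGroup.ker_mk']; exact hN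
      exact h2.to_le (Subgroup.le_comap_map _ _)
    have hxN : x ∉ N := by
      intro h; exact hg'1 ((QuotientGroup.eq_one_iff x).2 h)
    -- key: p'-elements of the preimage centralize N
    have key : ∀ (r : ℕ) (_ : Fact r.Prime), r ≠ q → ∀ y : G, IsPGroup r (zpowers y) → ⁅x, y⁆ ∈ N →
        ∀ n ∈ N, y * n = n * y := by
      intro r hr hrq y hy hxy
      have hcop : (Nat.card N).Coprime r := by
        obtain ⟨m, hm⟩ := IsPGroup.iff_card.1 hN
        rw [hm]
        exact Nat.Coprime.pow_left _ ((Nat.coprime_primes (Fact.out) (Fact.out)).2 (Ne.symm hrq))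
      obtain ⟨n, hn, x', hx', hxx⟩ := H2.exists_mul_centralizer_of_map (P := zpowers y) (N := N) hy hcop (g := x) (by
        intro w hw
        obtain ⟨m, rfl⟩ := hw
        exact quot_comm_zpow hxy m)
      have hx'N : x' ∉ N := by
        intro h; apply hxN; rw [hxx]; exact mul_mem hn h
      have hx'1 : x' ≠ 1 := by
        rintro rfl; exact hx'N (one_mem N)
      have hyx' : y * x' = x' * y := by
        rw [Subgroup.mem_centralizer_iff] at hx'
        exact hx' y (mem_zpowers y)
      -- `x'` is a `q`-element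
      have hS : IsPGroup q (N ⊔ zpowers x : Subgroup G) :=
        hN.to_sup_of_normal_left' hxq (by rw [Subgroup.normalizer_eq_top]; exact le_top)
      have hx'S : x' ∈ (N ⊔ zpowers x : Subgroup G) := by
        have : x' = n⁻¹ * x := by rw [hxx]; group
        rw [this]
        exact mul_mem (mem_sup_left (inv_mem hn)) (mem_sup_right (mem_zpowers x))
      have hx'q : IsPGroup q (zpowers x') := H23.isPGroup_zpowers_of_mem hS hx'S
      obtain ⟨z, hz, hz1, hzc⟩ := exists_fixed_ne_one hN hx'q hN1 (by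
        rw [Subgroup.normalizer_eq_top]; exact le_top)
      have h4 : y * z = z * y := cn_comm hCN hrq hx'1 hyx' (hzc x' (mem_zpowers x')).symm hy
        (H23.isPGroup_zpowers_of_mem hN hz)
      exact cn_cent_pgroup hCN hrq hN hz hz1 hy h4
    -- the preimage is nilpotent
    let C : Subgroup G := (centralizer ({(x : G ⧸ N)} : Set (G ⧸ N))).comap (QuotientGroup.mk' N)
    have hC : ∀ y, y ∈ C → ⁅x, y⁆ ∈ N := by
      intro y hy
      have h1 : (y : G ⧸ N) * x = x * y := H21.mem_cent_singleton.1 hy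
      exact quot_comm_iff.1 h1.symm
    have hCnil : Group.IsNilpotent C := by
      rw [nil_iff_comm]
      intro r s hr hs hrs a ha b hb har hbs
      have hh : ∀ (r s : ℕ) (_ : Fact r.Prime) (_ : Fact s.Prime), r ≠ s → s ≠ q → ∀ a ∈ C, ∀ b ∈ C,
          IsPGroup r (zpowers a) → IsPGroup s (zpowers b) → a * b = b * a := by
        intro r s hr hs hrs hsq a ha b hb har hbs
        have hbN := key s hs hsq b hbs (hC b hb)
        by_cases hrq : r = q
        · subst hrq
          obtain ⟨z, hz, hz1, hzc⟩ := exists_fixed_ne_one hN har hN1 (by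
            rw [Subgroup.normalizer_eq_top]; exact le_top)
          exact cn_comm hCN hrs hz1 (hzc a (mem_zpowers a)) (hbN z hz) har hbs
        · have haN := key r hr hrq a har (hC a ha)
          obtain ⟨z, hz, hz1⟩ := H21.exists_ne_one hN1
          exact cn_comm hCN hrs (c := z) hz1 (haN z hz) (hbN z hz) har hbs
      by_cases hsq : s = q
      · have hrq : r ≠ q := fun h => hrs (h.trans hsq.symm)
        exact (hh s r hs hr (Ne.symm hrs) hrq b hb a ha hbs har).symm
      · exact hh r s hr hs hrs hsq a ha b hb har hbs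
    have : centralizer ({(x : G ⧸ N)} : Set (G ⧸ N)) = C.map (QuotientGroup.mk' N) := by
      rw [Subgroup.map_comap_eq_self_of_surjective (QuotientGroup.mk'_surjective N)]
    rw [this]
    exact H1.isNilpotent_map _ hCnil
  · -- `q ≠ p`: lift to a `q`-element
    have hcop : (Nat.card N).Coprime q := by
      obtain ⟨m, hm⟩ := IsPGroup.iff_card.1 hN
      rw [hm]
      exact Nat.Coprime.pow_left _ ((Nat.coprime_primes (Fact.out) (Fact.out)).2 (Ne.symm hqp))
    obtain ⟨m, hm, hx'q⟩ := exists_pow_isPGroup x q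
    set x' := x ^ m with hx'
    have hx'1' : (x' : G ⧸ N) ≠ 1 := by
      intro h
      have h1 : (x : G ⧸ N) ^ m = 1 := h
      have h2 := orderOf_dvd_of_pow_eq_one h1
      rw [hk] at h2
      exact hm h2
    have hx'1 : x' ≠ 1 := by
      intro h; exact hx'1' (by rw [h]; rfl)
    have hle' : centralizer ({(x : G ⧸ N)} : Set (G ⧸ N)) ≤ centralizer ({(x' : G ⧸ N)} : Set (G ⧸ N)) := by
      intro w hw
      rw [H21.mem_cent_singleton] at hw ⊢
      exact ((show Commute w (x : G ⧸ N) from hw).pow_right m).eq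
    refine nil_mono hle' ?_
    have hle : centralizer ({(x' : G ⧸ N)} : Set (G ⧸ N)) ≤
        (centralizer ({x'} : Set G)).map (QuotientGroup.mk' N) := by
      intro c hc
      obtain ⟨c, rfl⟩ := QuotientGroup.mk_surjective c
      have hcx : (c : G ⧸ N) * (x' : G ⧸ N) = (x' : G ⧸ N) * (c : G ⧸ N) := H21.mem_cent_singleton.1 hc
      obtain ⟨n, hn, c', hc', hcc⟩ := H2.exists_mul_centralizer_of_map (P := zpowers x') (N := N) hx'q hcop (g := c) (by
        intro w hw
        obtain ⟨m, rfl⟩ := hw
        exact quot_comm_zpow (quot_comm_iff.1 hcx) m)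
      refine ⟨c', ?_, ?_⟩
      · rw [H21.cent_zpowers] at hc'; exact hc'
      · rw [hcc]
        show (c' : G ⧸ N) = (n : G ⧸ N) * (c' : G ⧸ N)
        rw [(QuotientGroup.eq_one_iff n).2 hn, one_mul]
    exact nil_mono hle (H1.isNilpotent_map _ (hCN x' hx'1))

theorem cn_quot_solvable_aux (n : ℕ) : ∀ (G : Type u) [Group G] [Finite G], Nat.card G = n →
    IsCNGroup G → ∀ (H : Subgroup G) [H.Normal], Group.IsSolvable H → IsCNGroup (G ⧸ H) := by
  induction n using Nat.strong_induction_on with
  | _ n ih =>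
  intro G _ _ hcard hCN H _ hH
  by_cases hb : H = ⊥
  · subst hb
    exact cn_equiv hCN QuotientGroup.quotientBot.symm
  · haveI : Nontrivial H := (Subgroup.nontrivial_iff_ne_bot H).2 hb
    obtain ⟨p, M, hp, hMc, hM1, -, hMp⟩ := H1.exists_pgroup_characteristic_of_solvable H hH
    haveI : Fact p.Prime := ⟨hp⟩
    let N : Subgroup G := M.map H.subtype
    haveI : N.Normal := by
      haveI := hMc
      infer_instance
    have hNH : N ≤ H := Subgroup.map_subtype_le M
    have hNp : IsPGroup p N := hMp.map _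
    have hN1 : N ≠ ⊥ := by
      intro h
      exact hM1 ((Subgroup.map_eq_bot_iff_of_injective _ H.subtype_injective).1 h)
    have h1 := cn_quot_pgroup hCN N hNp hN1
    have hlt : Nat.card (G ⧸ N) < n := by
      rw [← hcard, ← Subgroup.card_mul_index N]
      have h2 : 1 < Nat.card N := Subgroup.one_lt_card_iff_ne_bot N |>.2 hN1
      have h3 : Nat.card (G ⧸ N) = N.index := rfl
      have h4 : 0 < N.index := Nat.pos_of_ne_zero Subgroup.index_ne_zero_of_finite
      rw [h3]
      nlinarith
    haveI : (H.map (QuotientGroup.mk' N)).Normal := Subgroup.Normal.map inferInstance _ (QuotientGroup.mk'_surjective N)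
    have h5 : Group.IsSolvable (H.map (QuotientGroup.mk' N)) := by
      exact H1.isSolvable_map _ hH
    have h6 := ih _ hlt (G ⧸ N) rfl h1 (H.map (QuotientGroup.mk' N)) h5
    exact cn_equiv h6 (QuotientGroup.quotientQuotientEquivQuotient N H hNH)

/-- **S1473** -/
theorem cn_quot_solvable (hCN : IsCNGroup G) (H : Subgroup G) [H.Normal] (hH : Group.IsSolvable H) :
    IsCNGroup (G ⧸ H) := cn_quot_solvable_aux _ G rfl hCN H hH

end Cfsg.Agent.H18
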