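import Mathlib
import Cfsg.Agent.H1.FrobComp
import Cfsg.Agent.H21.OBasic

/-!
# Frobenius groups acting on abelian groups: the norm argument
-/

set_option autoImplicit false
set_option linter.all false

namespace Cfsg.Agent.H18

open Cfsg Subgroup
open scoped Pointwise commutatorElement

universe u v

/-- If a Frobenius group `X = K H` acts on an abelian group `V` so that `K` and `H` have no
nontrivial fixed points then `V` has exponent dividing `|K|`. -/
theorem frob_norm {V : Type u} [CommGroup V] {X : Type v} [Group X] [Finite X]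
    (φ : X →* MulAut V) (K H : Subgroup X) (hKn : K.Normal) (hc : Subgroup.IsComplement' K H)
    (hfrob : ∀ h ∈ H, h ≠ 1 → ∀ k ∈ K, h * k = k * h → k = 1)
    (hK : ∀ v, (∀ k ∈ K, φ k v = v) → v = 1)
    (hH : ∀ v, (∀ h ∈ H, φ h v = v) → v = 1) (v : V) : v ^ (Nat.card K) = 1 := by
  classical
  haveI : Fintype X := Fintype.ofFinite X
  haveI : Fintype K := Fintype.ofFinite K
  haveI : Fintype H := Fintype.ofFinite H
  -- norms are trivial
  have nK : ∀ v : V, ∏ k : K, φ (k : X) v = 1 := by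
    intro v
    apply hK
    intro k hk
    rw [map_prod]
    refine Fintype.prod_equiv (Equiv.mulLeft (⟨k, hk⟩ : K)) _ _ ?_
    intro x
    show φ k (φ (x : X) v) = φ ((⟨k, hk⟩ * x : K) : X) v
    rw [Subgroup.coe_mul, map_mul]; rfl
  have nH : ∀ v : V, ∏ k : H, φ (k : X) v = 1 := by
    intro v
    apply hH
    intro k hk
    rw [map_prod]
    refine Fintype.prod_equiv (Equiv.mulLeft (⟨k, hk⟩ : H)) _ _ ?_
    intro x
    show φ k (φ (x : X) v) = φ ((⟨k, hk⟩ * x : H) : X) v
    rw [Subgroup.coe_mul, map_mul]; rfl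
  have nX : ∏ x : X, φ x v = 1 := by
    apply hK
    intro k hk
    rw [map_prod]
    refine Fintype.prod_equiv (Equiv.mulLeft k) _ _ ?_
    intro x
    show φ k (φ (x : X) v) = φ (k * x : X) v
    rw [map_mul]; rfl
  -- the parametrisation of `X` by `K × H`
  let e : K × H ≃ X := Equiv.ofBijective _ hc
  have h1 : ∏ x : X, φ x v = ∏ h : H, ∏ k : K, φ ((k : X) * h) v := by
    rw [← Equiv.prod_comp e, Fintype.prod_prod_type_right]
    rfl
  -- for `h ≠ 1` the coset `K h` consists of the conjugates of `h` under `K`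
  have h2 : ∀ h : H, h ≠ 1 → ∏ k : K, φ ((k : X) * h) v = ∏ w : K, φ ((w : X) * h * (w : X)⁻¹) v := by
    intro h hh
    have hh' : (h : X) ≠ 1 := fun e => hh (Subtype.ext e)
    let f : K → K := fun w => ⟨(w : X) * h * (w : X)⁻¹ * (h : X)⁻¹, by
      have : (w : X) * h * (w : X)⁻¹ * (h : X)⁻¹ = (w : X) * (h * (w : X)⁻¹ * (h : X)⁻¹) := by group
      rw [this]
      exact mul_mem w.2 (hKn.conj_mem _ (inv_mem w.2) _)⟩
    have hf : Function.Injective f := by
      intro a b hab
      have h3 : (a : X) * h * (a : X)⁻¹ * (h : X)⁻¹ = (b : X) * h * (b : X)⁻¹ * (h : X)⁻¹ :=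
        congrArg Subtype.val hab
      have h4 : (a : X) * h * (a : X)⁻¹ = (b : X) * h * (b : X)⁻¹ := mul_right_cancel h3
      have h5 : (h : X) * ((b : X)⁻¹ * a) = ((b : X)⁻¹ * a) * h := by
        have : (b : X)⁻¹ * ((a : X) * h * (a : X)⁻¹) * a = (b : X)⁻¹ * ((b : X) * h * (b : X)⁻¹) * a := by
          rw [h4]
        have e1 : (b : X)⁻¹ * ((a : X) * h * (a : X)⁻¹) * a = (b : X)⁻¹ * a * h := by group
        have e2 : (b : X)⁻¹ * ((b : X) * h * (b : X)⁻¹) * a = (h : X) * ((b : X)⁻¹ * a) := by group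
        rw [e1, e2] at this
        exact this.symm
      have h6 := hfrob h h.2 hh' ((b : X)⁻¹ * a) (mul_mem (inv_mem b.2) a.2) h5
      have h7 : (a : X) = b := (inv_mul_eq_one.1 h6).symm
      exact Subtype.ext h7
    have hf' : Function.Bijective f := Finite.injective_iff_bijective.1 hf
    symm
    refine Fintype.prod_bijective f hf' _ _ ?_
    intro w
    show _ = φ (((w : X) * h * (w : X)⁻¹ * (h : X)⁻¹) * h) v
    rw [inv_mul_cancel_right]
  rw [h1, ← Finset.mul_prod_erase Finset.univ _ (Finset.mem_univ (1 : H))] at nX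
  have h3 : ∏ k : K, φ ((k : X) * ((1 : H) : X)) v = 1 := by
    simpa using nK v
  rw [h3, one_mul] at nX
  have h4 : ∏ h ∈ Finset.univ.erase (1 : H), ∏ k : K, φ ((k : X) * h) v
      = ∏ h ∈ Finset.univ.erase (1 : H), ∏ w : K, φ ((w : X) * h * (w : X)⁻¹) v :=
    Finset.prod_congr rfl fun h hh => h2 h (Finset.ne_of_mem_erase hh)
  rw [h4, Finset.prod_comm] at nX
  have h5 : ∀ w : K, ∏ h ∈ Finset.univ.erase (1 : H), φ ((w : X) * h * (w : X)⁻¹) v = v⁻¹ := by
    intro w
    have h6 : ∏ h : H, φ ((w : X) * h * (w : X)⁻¹) v = 1 := by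
      have : ∀ h : H, φ ((w : X) * h * (w : X)⁻¹) v = φ (w : X) (φ (h : X) (φ ((w : X)⁻¹) v)) := by
        intro h; rw [map_mul, map_mul]; rfl
      rw [Finset.prod_congr rfl (fun h _ => this h), ← map_prod, nH, map_one]
    rw [← Finset.mul_prod_erase Finset.univ _ (Finset.mem_univ (1 : H))] at h6
    have h7 : φ ((w : X) * ((1 : H) : X) * (w : X)⁻¹) v = v := by simp
    rw [h7] at h6
    exact eq_inv_of_mul_eq_one_right h6
  rw [Finset.prod_congr rfl (fun w _ => h5 w)] at nX
  rw [Finset.prod_const, Finset.card_univ, inv_pow, inv_eq_one, ← Nat.card_eq_fintype_card] at nX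
  exact nX

/-- conjugation action of a subgroup normalizing `V`. -/
noncomputable def conjAut {G : Type u} [Group G] (V F : Subgroup G)
    (h : F ≤ Subgroup.normalizer (V : Set G)) : F →* MulAut V where
  toFun f := {
    toFun := fun v => ⟨f * v * (f : G)⁻¹, (Subgroup.mem_normalizer_iff.1 (h f.2) v).1 v.2⟩
    invFun := fun v => ⟨(f : G)⁻¹ * v * f, by
      have := (Subgroup.mem_normalizer_iff.1 (inv_mem (h f.2)) v).1 v.2
      simpa using this⟩
    left_inv := fun v => Subtype.ext (by show (f : G)⁻¹ * (f * v * (f : G)⁻¹) * f = v; group)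
    right_inv := fun v => Subtype.ext (by show (f : G) * ((f : G)⁻¹ * v * f) * (f : G)⁻¹ = v; group)
    map_mul' := fun a b => Subtype.ext (by
      show (f : G) * (a * b) * (f : G)⁻¹ = (f * a * (f : G)⁻¹) * (f * b * (f : G)⁻¹); group) }
  map_one' := by
    ext v
    show (1 : G) * v * (1 : G)⁻¹ = v
    group
  map_mul' a b := by
    ext v
    show ((a * b : F) : G) * v * ((a * b : F) : G)⁻¹ = a * (b * v * (b : G)⁻¹) * (a : G)⁻¹
    push_cast
    group

theorem conjAut_apply {G : Type u} [Group G] {V F : Subgroup G}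
    (h : F ≤ Subgroup.normalizer (V : Set G)) (f : F) (v : V) :
    ((conjAut V F h f v : V) : G) = f * v * (f : G)⁻¹ := rfl

/-- ambient form: `K ⊔ H` a Frobenius group (kernel `K`, complement `H`) normalizing an abelian
subgroup `V` with `C_V(K) = 1 = C_V(H)`. -/
theorem frob_norm' {G : Type u} [Group G] [Finite G] {V K H : Subgroup G}
    (hV : ∀ a ∈ V, ∀ b ∈ V, a * b = b * a) (hKV : K ≤ Subgroup.normalizer (V : Set G))
    (hHV : H ≤ Subgroup.normalizer (V : Set G)) (hHK : H ≤ Subgroup.normalizer (K : Set G))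
    (hinf : K ⊓ H = ⊥)
    (hfrob : ∀ h ∈ H, h ≠ 1 → ∀ k ∈ K, h * k = k * h → k = 1)
    (hK : ∀ v ∈ V, (∀ k ∈ K, k * v = v * k) → v = 1)
    (hH : ∀ v ∈ V, (∀ h ∈ H, h * v = v * h) → v = 1) : ∀ v ∈ V, v ^ (Nat.card K) = 1 := by
  intro v hv
  letI : CommGroup V := { (inferInstance : Group V) with
    mul_comm := fun a b => Subtype.ext (hV a a.2 b b.2) }
  set F := K ⊔ H with hF
  have hFV : F ≤ Subgroup.normalizer (V : Set G) := sup_le hKV hHV
  have hKF : K ≤ F := le_sup_left
  have hHF : H ≤ F := le_sup_right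
  have hn : (K.subgroupOf F).Normal :=
    (Subgroup.normal_subgroupOf_iff_le_normalizer hKF).2 (sup_le Subgroup.le_normalizer hHK)
  have hcompl : IsComplIn K H F := H21.complIn_of_sup hHK hinf rfl
  have := frob_norm (conjAut V F hFV) (K.subgroupOf F) (H.subgroupOf F) hn (H21.complIn_isComplement hcompl)
    (by
      intro h hh hh1 k hk hkk
      have := hfrob h (Subgroup.mem_subgroupOf.1 hh) (fun e => hh1 (Subtype.ext e)) k
        (Subgroup.mem_subgroupOf.1 hk) (congrArg Subtype.val hkk)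
      exact Subtype.ext this)
    (by
      intro v hv
      refine Subtype.ext (hK v v.2 ?_)
      intro k hk
      have h1 := congrArg Subtype.val (hv ⟨k, hKF hk⟩ (Subgroup.mem_subgroupOf.2 hk))
      rw [conjAut_apply] at h1
      exact mul_inv_eq_iff_eq_mul.1 h1)
    (by
      intro v hv
      refine Subtype.ext (hH v v.2 ?_)
      intro k hk
      have h1 := congrArg Subtype.val (hv ⟨k, hHF hk⟩ (Subgroup.mem_subgroupOf.2 hk))
      rw [conjAut_apply] at h1
      exact mul_inv_eq_iff_eq_mul.1 h1) ⟨v, hv⟩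
  rw [H1.card_subgroupOf hKF] at this
  exact congrArg Subtype.val this

end Cfsg.Agent.H18
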