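import Cfsg.Agent.H18.CN2
import Cfsg.Agent.H18.FrobAct
import Cfsg.Agent.H20.ZFpf
import Cfsg.Agent.H21.FHall
import Cfsg.Agent.H1.MinNonNil
import Cfsg.Agent.S0039

/-!
# CN-groups with a normal Sylow subgroup
-/

set_option autoImplicit false
set_option linter.all false

namespace Cfsg.Agent.H18

open Cfsg Subgroup
open scoped Pointwise commutatorElement

universe u v

variable {G : Type u} [Group G] [Finite G]

/-- groups of order `qp` acting fixed point freely are abelian. -/
theorem fpf_qr {V W : Subgroup G} {y : G} {q p : ℕ} [Fact q.Prime] [Fact p.Prime]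
    (hV : ∀ a ∈ V, ∀ b ∈ V, a * b = b * a) (hV1 : V ≠ ⊥) (hW : Nat.card W = q)
    (hyp : orderOf y = p) (hpq : p ≠ q) (hyW : y ∈ normalizer (W : Set G)) (hWV : W ≤ normalizer (V : Set G))
    (hyV : y ∈ normalizer (V : Set G)) (hcop : (Nat.card V).Coprime q)
    (hWf : ∀ w ∈ W, w ≠ 1 → ∀ v ∈ V, w * v = v * w → v = 1)
    (hyf : ∀ v ∈ V, y * v = v * y → v = 1) : ∀ w ∈ W, y * w = w * y := by
  by_contra hcon
  push Not at hcon
  obtain ⟨w₀, hw₀, hne⟩ := hcon
  have hWp : IsPGroup q W := IsPGroup.of_card (n := 1) (by rw [hW, pow_one])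
  have hyP : IsPGroup p (zpowers y) := isPGroup_zpowers_of_orderOf hyp
  have hw₀1 : w₀ ≠ 1 := by rintro rfl; exact hne (by simp)
  -- an element of `W` commuting with `y` is trivial
  have h1 : ∀ w ∈ W, y * w = w * y → w = 1 := by
    intro w hw hyw
    by_contra hw1
    have h2 : W = zpowers w := by
      symm
      apply L.eq_of_le_of_card_le (by rwa [zpowers_le])
      rw [hW, Nat.card_zpowers]
      have h3 : orderOf w ∣ Nat.card W := Subgroup.orderOf_dvd_natCard _ hw
      rw [hW] at h3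
      rcases (Nat.dvd_prime Fact.out).1 h3 with h | h
      · exact absurd (orderOf_eq_one_iff.1 h) hw1
      · exact h.ge
    rw [h2] at hw₀
    obtain ⟨m, rfl⟩ := hw₀
    exact hne ((show Commute y w from hyw).zpow_right m).eq
  have hinf : W ⊓ zpowers y = ⊥ := by
    apply H1.inf_eq_bot_of_card_coprime
    rw [hW, Nat.card_zpowers, hyp]
    exact (Nat.coprime_primes Fact.out Fact.out).2 (Ne.symm hpq)
  have key := frob_norm' (V := V) (K := W) (H := zpowers y) hV hWV (by rwa [zpowers_le])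
    (by rwa [zpowers_le]) hinf
    (by
      intro h hh hh1 k hk hhk
      apply h1 k hk
      -- `h` generates `zpowers y`
      have h2 : zpowers h = zpowers y := by
        apply L.eq_of_le_of_card_le (by rwa [zpowers_le])
        rw [Nat.card_zpowers, Nat.card_zpowers, hyp]
        have h3 : orderOf h ∣ Nat.card (zpowers y) := Subgroup.orderOf_dvd_natCard _ hh
        rw [Nat.card_zpowers, hyp] at h3
        rcases (Nat.dvd_prime Fact.out).1 h3 with h | h
        · exact absurd (orderOf_eq_one_iff.1 h) hh1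
        · exact h.ge
      have h3 : y ∈ zpowers h := by rw [h2]; exact mem_zpowers y
      obtain ⟨m, rfl⟩ := h3
      exact ((show Commute h k from hhk).zpow_left m).eq)
    (by
      intro v hv hvk
      exact hWf w₀ hw₀ hw₀1 v hv (hvk w₀ hw₀))
    (by
      intro v hv hvk
      exact hyf v hv (hvk y (mem_zpowers y)))
  apply hV1
  rw [eq_bot_iff]
  intro v hv
  have h2 := key v hv
  rw [hW] at h2
  have h3 : orderOf v ∣ q := orderOf_dvd_of_pow_eq_one h2
  have h4 : orderOf v ∣ Nat.card V := Subgroup.orderOf_dvd_natCard _ hv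
  have h5 := Nat.eq_one_of_dvd_coprimes hcop h4 h3
  rw [Subgroup.mem_bot, ← orderOf_eq_one_iff]; exact h5

/-- center of a subgroup, ambient. -/
theorem cent_abelian (H : Subgroup G) : ∀ a ∈ H ⊓ centralizer (H : Set G), ∀ b ∈ H ⊓ centralizer (H : Set G),
    a * b = b * a := by
  rintro a ⟨ha, _⟩ b ⟨_, hb⟩
  exact (Subgroup.mem_centralizer_iff.1 hb a ha)

theorem le_normalizer_cent {E H : Subgroup G} (h : E ≤ normalizer (H : Set G)) :
    E ≤ normalizer ((H ⊓ centralizer (H : Set G) : Subgroup G) : Set G) := by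
  intro e he
  refine L.mem_nz_iff.2 ?_
  rw [L.cj_inf, ← L.cent_cj, L.mem_nz_iff.1 (h he)]

theorem cent_ne_bot_of_nil {H : Subgroup G} (hH : Group.IsNilpotent H) (h1 : H ≠ ⊥) :
    H ⊓ centralizer (H : Set G) ≠ ⊥ := by
  haveI : Nontrivial H := (Subgroup.nontrivial_iff_ne_bot H).2 h1
  have h2 : Subgroup.center H ≠ ⊥ := Group.IsNilpotent.center_ne_bot H
  intro hb
  apply h2
  rw [eq_bot_iff]
  intro z hz
  have : (z : G) ∈ H ⊓ centralizer (H : Set G) := by
    refine Subgroup.mem_inf.2 ⟨z.2, ?_⟩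
    rw [Subgroup.mem_centralizer_iff]
    intro x hx
    exact congrArg Subtype.val ((Subgroup.mem_center_iff.1 hz) ⟨x, hx⟩)
  rw [hb, Subgroup.mem_bot] at this
  exact Subtype.ext this

theorem exists_min_nonnil {E : Subgroup G} (hE : ¬ Group.IsNilpotent E) :
    ∃ E₀ ≤ E, ¬ Group.IsNilpotent E₀ ∧ ∀ X < E₀, Group.IsNilpotent X := by
  classical
  obtain ⟨E₀, hE₀, hmin⟩ := Set.Finite.exists_minimal (s := {X : Subgroup G | X ≤ E ∧ ¬ Group.IsNilpotent X})
    (Set.toFinite _) ⟨E, le_rfl, hE⟩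
  refine ⟨E₀, hE₀.1, hE₀.2, fun X hX => ?_⟩
  by_contra hX'
  exact absurd (hmin ⟨hX.le.trans hE₀.1, hX'⟩ hX.le) (not_le_of_gt hX)

/-- In a CN-group, a subgroup `E` acting fixed-point-freely on a nontrivial nilpotent subgroup of
coprime order is nilpotent. -/
theorem fpf_nil (hCN : IsCNGroup G) {H E : Subgroup G} (hH1 : H ≠ ⊥) (hH : Group.IsNilpotent H)
    (hEH : E ≤ normalizer (H : Set G)) (hcop : (Nat.card E).Coprime (Nat.card H))
    (hfpf : ∀ e ∈ E, e ≠ 1 → ∀ u ∈ H, e * u = u * e → u = 1) : Group.IsNilpotent E := by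
  by_contra hE
  obtain ⟨E₀, hE₀, hnn, hmin⟩ := exists_min_nonnil hE
  have hmn : IsMinimalNonNilpotent E₀ := by
    refine ⟨hnn, fun X hX => ?_⟩
    have h1 : X.map E₀.subtype < E₀ := by
      refine lt_of_le_of_ne (Subgroup.map_subtype_le X) fun h => hX ?_
      apply Subgroup.map_injective E₀.subtype_injective
      rw [h, ← MonoidHom.range_eq_map, Subgroup.range_subtype]
    have h2 := hmin _ h1
    have h3 := H1.isNilpotent_subgroupOf (Subgroup.map_subtype_le X) h2
    have h4 : (X.map E₀.subtype).subgroupOf E₀ = X := by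
      rw [Subgroup.subgroupOf, Subgroup.comap_map_eq_self_of_injective E₀.subtype_injective]
    rwa [h4] at h3
  obtain ⟨p, q, hp, hq, hpq, P, Q, hPc, hQn, hPQ, hPn⟩ := H1.structure_minimal_nonnilpotent hmn
  haveI : Fact p.Prime := ⟨hp⟩
  haveI : Fact q.Prime := ⟨hq⟩
  set P' : Subgroup G := (P : Subgroup E₀).map E₀.subtype with hP'
  set Q' : Subgroup G := (Q : Subgroup E₀).map E₀.subtype with hQ'
  have hPp : IsPGroup p P' := P.isPGroup'.map _
  have hQq : IsPGroup q Q' := Q.isPGroup'.map _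
  have hPQ' : P' ⊔ Q' = E₀ := by
    rw [hP', hQ', ← Subgroup.map_sup, hPQ, ← MonoidHom.range_eq_map, Subgroup.range_subtype]
  have hPE : P' ≤ E₀ := Subgroup.map_subtype_le _
  have hQE : Q' ≤ E₀ := Subgroup.map_subtype_le _
  have hQN : E₀ ≤ normalizer (Q' : Set G) := OOT.le_normalizer_map_subtype hQn
  have hPcyc : IsCyclic P' := by
    have := Subgroup.equivMapOfInjective (P : Subgroup E₀) E₀.subtype E₀.subtype_injective
    exact isCyclic_of_surjective this this.surjective
  have hP1 : P' ≠ ⊥ := by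
    intro h
    have h1 : (P : Subgroup E₀) = ⊥ := (Subgroup.map_eq_bot_iff_of_injective _ E₀.subtype_injective).1 h
    apply hPn
    rw [h1]; infer_instance
  have hQ1 : Q' ≠ ⊥ := by
    intro h
    rw [h, sup_bot_eq] at hPQ'
    apply hnn
    rw [← hPQ']
    exact hPp.isNilpotent
  -- the center of `Q'`
  set A := Q' ⊓ centralizer (Q' : Set G) with hA
  have hA1 : A ≠ ⊥ := cent_ne_bot_of_nil hQq.isNilpotent hQ1
  have hAQ : A ≤ Q' := inf_le_left
  have hAE : A ≤ E := (hAQ.trans hQE).trans hE₀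
  have hAcyc : IsCyclic A := by
    refine H20.isCyclic_of_fpf_comm (K := H) hH1 (hAE.trans hEH) (fun a ha => hfpf a (hAE ha)) ?_
      (cent_abelian Q')
    exact Nat.Coprime.coprime_dvd_left (Subgroup.card_dvd_of_le hAE) hcop
  have hqA : q ∣ Nat.card A := by
    obtain ⟨a, ha, ha1⟩ := H21.exists_ne_one hA1
    exact dvd_card_of_isPGroup (H23.isPGroup_zpowers_of_mem hQq (hAQ ha)) ha1 ha
  obtain ⟨w, hw⟩ := exists_prime_orderOf_dvd_card' q hqA
  have hwq : orderOf (w : G) = q := by rw [Subgroup.orderOf_coe, hw]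
  set W := zpowers (w : G) with hW
  have hWc : Nat.card W = q := by rw [hW, Nat.card_zpowers, hwq]
  have hWA : W ≤ A := by rw [hW, zpowers_le]; exact w.2
  have hw1 : (w : G) ≠ 1 := fun h => by rw [h, orderOf_one] at hwq; exact hq.ne_one hwq.symm
  have hWN : E₀ ≤ normalizer (W : Set G) := by
    intro e he
    refine L.mem_nz_iff.2 ?_
    refine H21.eq_of_card_of_cyclic hAcyc ?_ hWA (by rw [L.card_cj])
    have h1 : L.cj e A = A := L.mem_nz_iff.1 (le_normalizer_cent hQN he)
    rw [← h1]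
    exact L.cj_mono hWA
  -- an element of order `p` of `P'`
  obtain ⟨y, hyP, hy⟩ : ∃ y ∈ P', orderOf y = p := by
    obtain ⟨a, ha, ha1⟩ := H21.exists_ne_one hP1
    have := dvd_card_of_isPGroup (H23.isPGroup_zpowers_of_mem hPp ha) ha1 ha
    obtain ⟨y, hy⟩ := exists_prime_orderOf_dvd_card' p this
    exact ⟨y, y.2, by rw [Subgroup.orderOf_coe, hy]⟩
  have hy1 : y ≠ 1 := fun h => by rw [h, orderOf_one] at hy; exact hp.ne_one hy.symm
  -- the abelian group `Z(H)`
  set V := H ⊓ centralizer (H : Set G) with hV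
  have hV1 : V ≠ ⊥ := cent_ne_bot_of_nil hH hH1
  have hVN : E ≤ normalizer (V : Set G) := le_normalizer_cent hEH
  have hcom : ∀ w ∈ W, y * w = w * y := by
    refine fpf_qr (V := V) (W := W) (q := q) (p := p) (cent_abelian H) hV1 hWc hy hpq (hWN (hPE hyP))
      ((hWA.trans hAE).trans hVN) (hVN (hE₀ (hPE hyP))) ?_ ?_ ?_
    · have h1 : q ∣ Nat.card E := hqA.trans (Subgroup.card_dvd_of_le hAE)
      exact (Nat.Coprime.coprime_dvd_left h1 (Nat.Coprime.coprime_dvd_right
        (Subgroup.card_dvd_of_le (inf_le_left : V ≤ H)) hcop)).symm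
    · exact fun w hw hw1 v hv => hfpf w (hAE (hWA hw)) hw1 v (inf_le_left (a := H) hv)
    · exact fun v hv => hfpf y (hE₀ (hPE hyP)) hy1 v (inf_le_left (a := H) hv)
  have hyw := hcom w (mem_zpowers _)
  have hPw : P' ≤ centralizer ({(w : G)} : Set G) := by
    intro g hg
    rw [H21.mem_cent_singleton]
    exact cn_comm hCN hpq hy1 (H21.comm_of_cyclic hPcyc g hg y hyP) hyw.symm
      (H23.isPGroup_zpowers_of_mem hPp hg) (isPGroup_zpowers_of_orderOf hwq)
  have hQw : Q' ≤ centralizer ({(w : G)} : Set G) := by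
    intro g hg
    rw [H21.mem_cent_singleton]
    exact (Subgroup.mem_centralizer_iff.1 (w.2).2 g hg)
  apply hnn
  rw [← hPQ']
  exact nil_mono (sup_le hPw hQw) (hCN _ hw1)

/-- a prime power order element of a nilpotent subgroup lies in its `q`-core. -/
theorem mem_core_of_nil {F : Subgroup G} (hF : Group.IsNilpotent F) {q : ℕ} [Fact q.Prime] {x : G}
    (hx : x ∈ F) (hxq : IsPGroup q (zpowers x)) : x ∈ piCoreOf {q} F := by
  have h1 := H21.nil_piCore_hall hF {q}
  obtain ⟨g, hg, hle⟩ := OOT.IsPiHallOf.exists_conj_le (M := F) inferInstance h1 (K := zpowers x)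
    (by rwa [zpowers_le]) (OOT.isPiSub_of_isPGroup (Set.mem_singleton q) hxq)
  have h2 : L.cj g⁻¹ (piCoreOf {q} F) = piCoreOf {q} F :=
    L.mem_nz_iff.1 (inv_mem (OOT.le_normalizer_piCoreOf {q} F hg))
  have h3 : zpowers x ≤ L.cj g⁻¹ (piCoreOf {q} F) := L.cj_le_iff.1 hle
  rw [h2] at h3
  exact h3 (mem_zpowers x)

/-- If a `q`-element, `q ∤ |H|`, commutes with a nontrivial element of the nilpotent normal
subgroup `H` of a CN-group then the Sylow `q`-subgroups of `G` are normal and centralize `H`. -/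
theorem cn_normal_sylow (hCN : IsCNGroup G) {H : Subgroup G} (hHn : H.Normal)
    (hH : Group.IsNilpotent H) {q : ℕ} [Fact q.Prime] (hq : ¬ q ∣ Nat.card H)
    {x e : G} (hx : x ∈ H) (hx1 : x ≠ 1) (he : IsPGroup q (zpowers e)) (he1 : e ≠ 1)
    (hex : e * x = x * e) : ∃ Q : Sylow q G, (Q : Subgroup G).Normal ∧ e ∈ (Q : Subgroup G) := by
  have heH := cn_cent_nil hCN hH hq hx hx1 he hex
  set C := centralizer (H : Set G) with hC
  have hCnorm : C.Normal := by rw [hC]; infer_instance
  have hCnil : Group.IsNilpotent C := by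
    refine nil_mono ?_ (hCN x hx1)
    rw [hC]
    exact Subgroup.centralizer_le (Set.singleton_subset_iff.2 hx)
  have heC : e ∈ C := by
    rw [hC, H21.mem_cent_iff]; exact heH
  set R := piCoreOf {q} C with hR
  have hRn : R.Normal := by
    rw [← Subgroup.normalizer_eq_top_iff, eq_top_iff]
    have h1 := OOT.normalizer_le_normalizer_piCoreOf {q} C
    rwa [(Subgroup.normalizer_eq_top_iff).2 hCnorm] at h1
  have hRq : IsPGroup q R := OOT.isPGroup_of_isPiSub (OOT.isPiSub_piCoreOf {q} C)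
  have heR : e ∈ R := mem_core_of_nil hCnil heC he
  have hR1 : R ≠ ⊥ := by
    intro h; rw [h] at heR; exact he1 (Subgroup.mem_bot.1 heR)
  obtain ⟨Q, hQ⟩ := hRq.exists_le_sylow
  obtain ⟨z, hz, hz1, hzQ⟩ := exists_fixed_ne_one hRq Q.isPGroup' hR1 (by
    rw [(Subgroup.normalizer_eq_top_iff).2 hRn]; exact le_top)
  have hRC : R ≤ C := OOT.piCoreOf_le _ _
  have hQC : (Q : Subgroup G) ≤ C := by
    intro n hn
    have h1 : H ≤ centralizer ({n} : Set G) := by
      apply le_of_prime_power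
      intro s hs h hh hhs
      rw [H21.mem_cent_singleton]
      by_cases hsq : s = q
      · subst hsq
        by_cases hh1 : h = 1
        · rw [hh1]; simp
        · exact absurd (dvd_card_of_isPGroup hhs hh1 hh) hq
      · refine cn_comm hCN hsq hz1 ?_ (hzQ n hn) hhs (H23.isPGroup_zpowers_of_mem Q.isPGroup' hn)
        exact (Subgroup.mem_centralizer_iff.1 (hRC hz) h hh)
    rw [hC, H21.mem_cent_iff]
    intro h hh
    exact (H21.mem_cent_singleton.1 (h1 hh)).symm
  have hQR : (Q : Subgroup G) ≤ R := fun n hn =>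
    mem_core_of_nil hCnil (hQC hn) (H23.isPGroup_zpowers_of_mem Q.isPGroup' hn)
  have hQeq : (Q : Subgroup G) = R := le_antisymm hQR hQ
  exact ⟨Q, by rw [hQeq]; exact hRn, by rw [hQeq]; exact heR⟩

theorem sylow_le_fittingHall {q : ℕ} [Fact q.Prime] (Q : Sylow q G) (hQ : (Q : Subgroup G).Normal) :
    (Q : Subgroup G) ≤ fittingHall G :=
  H21.le_fittingHall hQ Q.isPGroup'.isNilpotent (by
    obtain ⟨n, hn⟩ := IsPGroup.iff_card.1 Q.isPGroup'
    rw [hn]
    exact Nat.Coprime.pow_left _ ((Nat.Prime.coprime_iff_not_dvd Fact.out).2 Q.not_dvd_index))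

/-- **S1474** -/
theorem cn_frob (hCN : IsCNGroup G) (hnn : ¬ Group.IsNilpotent G) (hfh : fittingHall G ≠ ⊥) :
    fittingHall G ≠ ⊤ ∧
      (∃ E : Subgroup G, Subgroup.IsComplement' (fittingHall G) E ∧ IsFrobeniusComplement E ∧
        (∀ e ∈ E, e ≠ 1 → fittingHall G ⊓ Subgroup.centralizer ({e} : Set G) = ⊥) ∧
        Group.IsNilpotent E) ∧
      Group.IsNilpotent (G ⧸ fittingHall G) := by
  have hHnil := H21.fittingHall_nilpotent G
  have hcop := H21.fittingHall_coprime G
  have htop : fittingHall G ≠ ⊤ := by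
    intro h
    rw [h] at hHnil
    exact hnn (H1.isNilpotent_of_equiv Subgroup.topEquiv hHnil)
  obtain ⟨E, hE⟩ := Subgroup.exists_right_complement'_of_coprime (N := fittingHall G) hcop
  have hEcard : Nat.card E = (fittingHall G).index := by
    have h1 := hE.card_mul_card
    have h2 := (fittingHall G).card_mul_index
    exact Nat.eq_of_mul_eq_mul_left Nat.card_pos (h1.trans h2.symm)
  have hE1 : E ≠ ⊥ := by
    rintro rfl
    rw [Subgroup.isComplement'_bot_right] at hE
    exact htop hE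
  have hfpf : ∀ e ∈ E, e ≠ 1 → ∀ u ∈ fittingHall G, e * u = u * e → u = 1 := by
    intro e he he1 u hu heu
    by_contra hu1
    obtain ⟨q, k, hq, hk⟩ := exists_prime_power_ne_one he1
    haveI : Fact q.Prime := ⟨hq⟩
    have he'1 : e ^ k ≠ 1 := fun h => by rw [h, orderOf_one] at hk; exact hq.ne_one hk.symm
    have he'q : IsPGroup q (zpowers (e ^ k)) := isPGroup_zpowers_of_orderOf hk
    have hqE : q ∣ Nat.card E := dvd_card_of_isPGroup he'q he'1 (pow_mem he k)
    have hqH : ¬ q ∣ Nat.card (fittingHall G) := by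
      intro h
      rw [hEcard] at hqE
      exact hq.one_lt.ne' (Nat.eq_one_of_dvd_coprimes hcop h hqE)
    obtain ⟨Q, hQn, heQ⟩ := cn_normal_sylow hCN (H := fittingHall G) inferInstance hHnil hqH hu hu1 he'q he'1
      (((show Commute e u from heu).pow_left k).eq)
    exact hqH (dvd_card_of_isPGroup he'q he'1 (sylow_le_fittingHall Q hQn heQ))
  have hcent : ∀ e ∈ E, e ≠ 1 → fittingHall G ⊓ Subgroup.centralizer ({e} : Set G) = ⊥ := by
    intro e he he1
    rw [eq_bot_iff]
    rintro u ⟨hu, huc⟩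
    exact Subgroup.mem_bot.2 (hfpf e he he1 u hu (H21.mem_cent_singleton.1 huc).symm)
  have hEnil : Group.IsNilpotent E := by
    refine fpf_nil hCN hfh hHnil ?_ ?_ hfpf
    · rw [Subgroup.normalizer_eq_top]; exact le_top
    · rw [hEcard]; exact hcop.symm
  refine ⟨htop, ⟨E, hE, (S0039.result (fittingHall G) E hE hfh hE1).2 hcent, hcent, hEnil⟩, ?_⟩
  exact H1.isNilpotent_of_equiv (hE.symm.QuotientMulEquiv).symm hEnil

end Cfsg.Agent.H18
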