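import Cfsg.Agent.H18.CN3

/-!
# Maximal nilpotent subgroups of CN-groups
-/

set_option autoImplicit false
set_option linter.all false

namespace Cfsg.Agent.H18

open Cfsg Subgroup
open scoped Pointwise commutatorElement

universe u v

variable {G : Type u} [Group G] [Finite G]

/-- product of commuting nilpotent subgroups of coprime orders: here with a `q`-group. -/
theorem nil_sup {A B : Subgroup G} (hA : Group.IsNilpotent A) (hB : Group.IsNilpotent B)
    (hc : A ≤ centralizer (B : Set G)) : Group.IsNilpotent (A ⊔ B : Subgroup G) := by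
  have hB' : B ≤ normalizer (A : Set G) := (H21.le_cent_comm.1 hc).trans (H21.cent_le_nz A)
  have hA' : A ≤ normalizer (B : Set G) := hc.trans (H21.cent_le_nz B)
  have h1 : (A.subgroupOf (A ⊔ B)).Normal :=
    (Subgroup.normal_subgroupOf_iff_le_normalizer le_sup_left).2 (sup_le Subgroup.le_normalizer hB')
  have h2 : (B.subgroupOf (A ⊔ B)).Normal :=
    (Subgroup.normal_subgroupOf_iff_le_normalizer le_sup_right).2 (sup_le hA' Subgroup.le_normalizer)
  have h3 := H1.isNilpotent_sup_of_normal h1 h2 (H1.isNilpotent_subgroupOf le_sup_left hA)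
    (H1.isNilpotent_subgroupOf le_sup_right hB)
  have h4 : A.subgroupOf (A ⊔ B) ⊔ B.subgroupOf (A ⊔ B) = ⊤ := by
    rw [← Subgroup.subgroupOf_sup le_sup_left le_sup_right, Subgroup.subgroupOf_self]
  rw [h4] at h3
  exact H1.isNilpotent_of_equiv Subgroup.topEquiv h3

/-- the set of primes other than `q`. -/
def cpl (q : ℕ) : Set ℕ := {r | r ≠ q}

theorem mem_qcore {F : Subgroup G} (hF : Group.IsNilpotent F) {q r : ℕ} [Fact q.Prime] [Fact r.Prime]
    (hr : r ≠ q) {x : G} (hx : x ∈ F) (hxq : IsPGroup r (zpowers x)) : x ∈ piCoreOf (cpl q) F := by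
  have h1 := H21.nil_piCore_hall hF (cpl q)
  obtain ⟨g, hg, hle⟩ := OOT.IsPiHallOf.exists_conj_le (M := F) inferInstance h1 (K := zpowers x)
    (by rwa [zpowers_le]) (OOT.isPiSub_of_isPGroup hr hxq)
  have h2 : L.cj g⁻¹ (piCoreOf (cpl q) F) = piCoreOf (cpl q) F :=
    L.mem_nz_iff.1 (inv_mem (OOT.le_normalizer_piCoreOf (cpl q) F hg))
  have h3 : zpowers x ≤ L.cj g⁻¹ (piCoreOf (cpl q) F) := L.cj_le_iff.1 hle
  rw [h2] at h3
  exact h3 (mem_zpowers x)

theorem nil_decomp {F : Subgroup G} (hF : Group.IsNilpotent F) (q : ℕ) [Fact q.Prime] :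
    piCoreOf {q} F ⊔ piCoreOf (cpl q) F = F := by
  refine le_antisymm (sup_le (OOT.piCoreOf_le _ _) (OOT.piCoreOf_le _ _)) ?_
  apply le_of_prime_power
  intro r hr x hx hxr
  by_cases h : r = q
  · subst h; exact mem_sup_left (mem_core_of_nil hF hx hxr)
  · exact mem_sup_right (mem_qcore hF h hx hxr)

theorem coprime_cores {F K : Subgroup G} (q : ℕ) [hq : Fact q.Prime] :
    (Nat.card (piCoreOf {q} F)).Coprime (Nat.card (piCoreOf (cpl q) K)) := by
  refine Nat.coprime_of_dvd fun p hp h1 h2 => ?_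
  have e1 : p = q := OOT.isPiSub_piCoreOf {q} F p hp h1
  exact (OOT.isPiSub_piCoreOf (cpl q) K p hp h2) e1

theorem nil_core_cent {F : Subgroup G} (hF : Group.IsNilpotent F) (q : ℕ) [Fact q.Prime] :
    piCoreOf {q} F ≤ centralizer (piCoreOf (cpl q) F : Set G) :=
  H21.nil_cent hF (OOT.piCoreOf_le _ _) (OOT.piCoreOf_le _ _) (coprime_cores q)

/-- in a nilpotent subgroup `F` the `q`-core is the Sylow `q`-subgroup. -/
theorem core_sylIn {F : Subgroup G} (hF : Group.IsNilpotent F) (q : ℕ) [Fact q.Prime] :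
    L.SylIn q (piCoreOf {q} F) F := OOT.sylIn_iff_hallOf.2 (H21.nil_piCore_hall hF {q})

/-- A subgroup `X` each of whose `r`-elements (`r ≠ q`) commutes with a nontrivial element `x` of a
`q`-subgroup `S` : the `q'`-core of `X` centralizes `S`. -/
theorem cn_core_cent (hCN : IsCNGroup G) {q : ℕ} [Fact q.Prime] {S X : Subgroup G}
    (hS : IsPGroup q S) {x : G} (hx : x ∈ S) (hx1 : x ≠ 1) (hXx : X ≤ centralizer ({x} : Set G)) :
    piCoreOf (cpl q) X ≤ centralizer (S : Set G) := by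
  apply le_of_prime_power
  intro r hr y hy hyr
  rw [H21.mem_cent_iff]
  by_cases hy1 : y = 1
  · intro s hs; rw [hy1]; simp
  have hrq : r ≠ q := OOT.isPiSub_piCoreOf (cpl q) X r hr.out (dvd_card_of_isPGroup hyr hy1 hy)
  exact cn_cent_pgroup hCN hrq hS hx hx1 hyr (H21.mem_cent_singleton.1 (hXx (OOT.piCoreOf_le _ _ hy)))

def MaxNil (H : Subgroup G) : Prop :=
  Group.IsNilpotent H ∧ ∀ L : Subgroup G, Group.IsNilpotent L → H ≤ L → L = H

/-- the Sylow `q`-subgroup of a maximal nilpotent subgroup `H` is Sylow in `G` if nontrivial. -/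
theorem maxNil_sylow (hCN : IsCNGroup G) {H : Subgroup G} (hH : MaxNil H) {q : ℕ} [Fact q.Prime]
    (hq : q ∣ Nat.card H) : L.SylIn q (piCoreOf {q} H) ⊤ := by
  have hQ := core_sylIn hH.1 q
  have hQ1 : piCoreOf {q} H ≠ ⊥ := by
    obtain ⟨x, hx⟩ := exists_prime_orderOf_dvd_card' q hq
    have hx' : orderOf (x : G) = q := by rw [Subgroup.orderOf_coe, hx]
    have h1 := mem_core_of_nil hH.1 x.2 (isPGroup_zpowers_of_orderOf hx')
    intro h
    rw [h, Subgroup.mem_bot] at h1
    rw [h1, orderOf_one] at hx'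
    exact (Fact.out : q.Prime).ne_one hx'.symm
  obtain ⟨S, hS, hle⟩ := L.exists_sylIn_ge (H := (⊤ : Subgroup G)) hQ.isPGroup le_top
  obtain ⟨x, hx, hx1⟩ := H21.exists_ne_one hQ1
  -- the `q'`-core of `H` centralizes `S`
  have h1 : piCoreOf (cpl q) H ≤ centralizer (S : Set G) := by
    have h2 : piCoreOf (cpl q) H ≤ centralizer ({x} : Set G) := by
      have := H21.le_cent_comm.1 (nil_core_cent hH.1 q)
      refine this.trans (Subgroup.centralizer_le (Set.singleton_subset_iff.2 hx))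
    apply le_of_prime_power
    intro r hr y hy hyr
    rw [H21.mem_cent_iff]
    by_cases hy1 : y = 1
    · intro s hs; rw [hy1]; simp
    have hrq : r ≠ q := OOT.isPiSub_piCoreOf (cpl q) H r hr.out (dvd_card_of_isPGroup hyr hy1 hy)
    exact cn_cent_pgroup hCN hrq hS.isPGroup (hle hx) hx1 hyr (H21.mem_cent_singleton.1 (h2 hy))
  have h2 : Group.IsNilpotent (piCoreOf (cpl q) H ⊔ S : Subgroup G) :=
    nil_sup (nil_mono (OOT.piCoreOf_le _ _) hH.1) hS.isPGroup.isNilpotent h1
  have h3 : H ≤ piCoreOf (cpl q) H ⊔ S := by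
    rw [← nil_decomp hH.1 q]
    refine sup_le (hle.trans le_sup_right) ?_
    conv_rhs => rw [nil_decomp hH.1 q]
    exact le_sup_left
  have h4 := hH.2 _ h2 h3
  have h5 : S ≤ H := by rw [← h4]; exact le_sup_right
  have h6 : piCoreOf {q} H = S := hQ.eq_of_le hS.isPGroup h5 hle
  rw [h6]; exact hS

theorem maxNil_hall (hCN : IsCNGroup G) {H : Subgroup G} (hH : MaxNil H) :
    (Nat.card H).Coprime H.index := by
  refine Nat.coprime_of_dvd fun q hq h1 h2 => ?_
  haveI : Fact q.Prime := ⟨hq⟩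
  have h3 := maxNil_sylow hCN hH h1
  have h4 := (OOT.sylIn_iff_hallOf.1 h3).2.2 q hq rfl
  rw [Subgroup.relIndex_top_right] at h4
  exact h4 (h2.trans (Subgroup.index_dvd_of_le (OOT.piCoreOf_le _ _)))

/-- the `q'`-part of `C(x)`, `x ≠ 1` a `q`-element of the maximal nilpotent subgroup `H`, is the
`q'`-part of `H`. -/
theorem maxNil_core_cent (hCN : IsCNGroup G) {H : Subgroup G} (hH : MaxNil H) {q : ℕ} [Fact q.Prime]
    {x : G} (hx : x ∈ H) (hx1 : x ≠ 1) (hxq : IsPGroup q (zpowers x)) :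
    piCoreOf (cpl q) (centralizer ({x} : Set G)) = piCoreOf (cpl q) H ∧
      piCoreOf (cpl q) H ≤ centralizer (piCoreOf {q} H : Set G) := by
  have hxQ := mem_core_of_nil hH.1 hx hxq
  have hQ := core_sylIn hH.1 q
  have h1 := cn_core_cent hCN hQ.isPGroup hxQ hx1 (X := centralizer ({x} : Set G)) le_rfl
  have hCnil := hCN x hx1
  have h2 : Group.IsNilpotent (piCoreOf (cpl q) (centralizer ({x} : Set G)) ⊔ piCoreOf {q} H : Subgroup G) :=
    nil_sup (nil_mono (OOT.piCoreOf_le _ _) hCnil) hQ.isPGroup.isNilpotent h1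
  have h3 := nil_core_cent hH.1 q
  have h4 : piCoreOf (cpl q) H ≤ piCoreOf (cpl q) (centralizer ({x} : Set G)) := by
    apply le_of_prime_power
    intro r hr y hy hyr
    by_cases hy1 : y = 1
    · rw [hy1]; exact one_mem _
    have hrq : r ≠ q := OOT.isPiSub_piCoreOf (cpl q) H r hr.out (dvd_card_of_isPGroup hyr hy1 hy)
    refine mem_qcore hCnil hrq ?_ hyr
    rw [H21.mem_cent_singleton]
    exact (H21.mem_cent_iff.1 (H21.le_cent_comm.1 h3 hy) x hxQ)
  have h5 : H ≤ piCoreOf (cpl q) (centralizer ({x} : Set G)) ⊔ piCoreOf {q} H := by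
    conv_lhs => rw [← nil_decomp hH.1 q]
    exact sup_le le_sup_right (h4.trans le_sup_left)
  have h6 := hH.2 _ h2 h5
  refine ⟨le_antisymm ?_ h4, H21.le_cent_comm.1 h3⟩
  apply le_of_prime_power
  intro r hr y hy hyr
  by_cases hy1 : y = 1
  · rw [hy1]; exact one_mem _
  have hrq : r ≠ q := OOT.isPiSub_piCoreOf (cpl q) _ r hr.out (dvd_card_of_isPGroup hyr hy1 hy)
  refine mem_qcore hH.1 hrq ?_ hyr
  rw [← h6]
  exact mem_sup_left hy

theorem maxNil_cj {H : Subgroup G} (hH : MaxNil H) (g : G) : MaxNil (L.cj g H) := by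
  refine ⟨H1.isNilpotent_map _ hH.1, fun X hX hle => ?_⟩
  have h1 : H ≤ L.cj g⁻¹ X := by
    rw [← L.cj_le_iff]; exact hle
  have h2 := hH.2 _ (H1.isNilpotent_map _ hX) h1
  rw [← h2, L.cj_cj_inv]

/-- **S1477 (b)** -/
theorem maxNil_ti (hCN : IsCNGroup G) {H : Subgroup G} (hH : MaxNil H)
    (hpp : ¬ IsPrimePow (Nat.card H)) (g : G) (hg : L.cj g H ≠ H) : H ⊓ L.cj g H = ⊥ := by
  by_contra hne
  obtain ⟨x, hx, hx1⟩ := H21.exists_ne_one hne
  obtain ⟨q, k, hq, hk⟩ := exists_prime_power_ne_one hx1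
  haveI : Fact q.Prime := ⟨hq⟩
  set y := x ^ k with hy
  have hy1 : y ≠ 1 := fun h => by rw [h, orderOf_one] at hk; exact hq.ne_one hk.symm
  have hyq : IsPGroup q (zpowers y) := isPGroup_zpowers_of_orderOf hk
  have hyH : y ∈ H := pow_mem (Subgroup.mem_inf.1 hx).1 k
  have hyH' : y ∈ L.cj g H := pow_mem (Subgroup.mem_inf.1 hx).2 k
  have hH' := maxNil_cj hH g
  have h1 := maxNil_core_cent hCN hH hyH hy1 hyq
  have h2 := maxNil_core_cent hCN hH' hyH' hy1 hyq
  have hK : piCoreOf (cpl q) H = piCoreOf (cpl q) (L.cj g H) := h1.1.symm.trans h2.1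
  -- the `q'`-core is nontrivial
  have hK1 : piCoreOf (cpl q) H ≠ ⊥ := by
    intro h
    have h3 := nil_decomp hH.1 q
    rw [h, sup_bot_eq] at h3
    have h4 : IsPGroup q H := by rw [← h3]; exact (core_sylIn hH.1 q).isPGroup
    obtain ⟨n, hn⟩ := IsPGroup.iff_card.1 h4
    apply hpp
    rw [hn]
    refine hq.isPrimePow.pow ?_
    rintro rfl
    rw [pow_zero, Subgroup.card_eq_one] at hn
    rw [hn, Subgroup.mem_bot] at hyH
    exact hy1 hyH
  obtain ⟨z, hz, hz1⟩ := H21.exists_ne_one hK1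
  -- both Sylow `q`-subgroups lie in `C(z)`
  have hQ : piCoreOf {q} H ≤ centralizer ({z} : Set G) := by
    refine (H21.le_cent_comm.1 h1.2).trans (Subgroup.centralizer_le (Set.singleton_subset_iff.2 hz))
  have hQ' : piCoreOf {q} (L.cj g H) ≤ centralizer ({z} : Set G) := by
    refine (H21.le_cent_comm.1 h2.2).trans (Subgroup.centralizer_le (Set.singleton_subset_iff.2 ?_))
    rw [← hK]; exact hz
  have hqH : q ∣ Nat.card H := dvd_card_of_isPGroup hyq hy1 hyH
  have hqH' : q ∣ Nat.card (L.cj g H : Subgroup G) := dvd_card_of_isPGroup hyq hy1 hyH'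
  have hS := (maxNil_sylow hCN hH hqH).of_le hQ le_top
  have hS' := (maxNil_sylow hCN hH' hqH').of_le hQ' le_top
  have hC := core_sylIn (hCN z hz1) q
  have e : ∀ S : Subgroup G, L.SylIn q S (centralizer ({z} : Set G)) →
      S = piCoreOf {q} (centralizer ({z} : Set G)) := by
    intro S hS
    apply hS.eq_of_le hC.isPGroup hC.le
    intro s hs
    exact mem_core_of_nil (hCN z hz1) (hS.le hs) (H23.isPGroup_zpowers_of_mem hS.isPGroup hs)
  have hQQ : piCoreOf {q} H = piCoreOf {q} (L.cj g H) := (e _ hS).trans (e _ hS').symm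
  apply hg
  rw [← nil_decomp hH'.1 q, ← hQQ, ← hK, nil_decomp hH.1 q]

/-- **S1477 (c)** -/
theorem maxNil_cent (hCN : IsCNGroup G) {H : Subgroup G} (hH : MaxNil H)
    (hTI : ∀ g : G, L.cj g H ≠ H → H ⊓ L.cj g H = ⊥) {x : G} (hx : x ∈ H) (hx1 : x ≠ 1) :
    centralizer ({x} : Set G) ≤ H := by
  obtain ⟨q, k, hq, hk⟩ := exists_prime_power_ne_one hx1
  haveI : Fact q.Prime := ⟨hq⟩
  set y := x ^ k with hy
  have hy1 : y ≠ 1 := fun h => by rw [h, orderOf_one] at hk; exact hq.ne_one hk.symm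
  have hyq : IsPGroup q (zpowers y) := isPGroup_zpowers_of_orderOf hk
  have hyH : y ∈ H := pow_mem hx k
  have hle : centralizer ({x} : Set G) ≤ centralizer ({y} : Set G) := by
    intro w hw
    rw [H21.mem_cent_singleton] at hw ⊢
    exact ((show Commute w x from hw).pow_right k).eq
  refine hle.trans ?_
  have hqH : q ∣ Nat.card H := dvd_card_of_isPGroup hyq hy1 hyH
  have h1 := maxNil_core_cent hCN hH hyH hy1 hyq
  have h2 := maxNil_sylow hCN hH hqH
  rw [← nil_decomp (hCN y hy1) q]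
  refine sup_le ?_ (by rw [h1.1]; exact OOT.piCoreOf_le _ _)
  intro w hw
  have hwq : IsPGroup q (zpowers w) := H23.isPGroup_zpowers_of_mem (core_sylIn (hCN y hy1) q).isPGroup hw
  have hwy : w * y = y * w := H21.mem_cent_singleton.1 (OOT.piCoreOf_le _ _ hw)
  -- `w` normalizes `H`
  have hwH : L.cj w H = H := by
    by_contra hne
    have h3 := hTI w hne
    have h4 : y ∈ H ⊓ L.cj w H := by
      refine Subgroup.mem_inf.2 ⟨hyH, ?_⟩
      rw [L.mem_cj]
      have : w⁻¹ * y * w = y := by rw [mul_assoc, ← hwy]; group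
      rwa [this]
    rw [h3, Subgroup.mem_bot] at h4
    exact hy1 h4
  have hwN : w ∈ normalizer ((piCoreOf {q} H : Subgroup G) : Set G) :=
    OOT.normalizer_le_normalizer_piCoreOf {q} H (L.mem_nz_iff.2 hwH)
  have h5 : IsPGroup q (piCoreOf {q} H ⊔ zpowers w : Subgroup G) :=
    h2.isPGroup.to_sup_of_normal_left' hwq (by rwa [zpowers_le])
  have h6 : piCoreOf {q} H = piCoreOf {q} H ⊔ zpowers w := h2.eq_of_le h5 le_top le_sup_left
  have h7 : w ∈ piCoreOf {q} H := by rw [h6]; exact mem_sup_right (mem_zpowers w)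
  exact OOT.piCoreOf_le _ _ h7

end Cfsg.Agent.H18
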