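import Mathlib
import Cfsg.Prelude
import Cfsg.Agent.H23.RankOne2

set_option autoImplicit false
open Cfsg

namespace Cfsg.Agent.H18

open Subgroup

universe u

/-- vanishing geometric sums -/
theorem geom_zero {F V : Type*} [Field F] [AddCommGroup V] [Module F V] {p : ℕ}
    {B : Module.End F V} (hB : B ^ p = 1) (hf : ∀ v, B v = v → v = 0) :
    ∑ i ∈ Finset.range p, B ^ i = 0 := by
  apply LinearMap.ext
  intro v
  rw [LinearMap.zero_apply]
  apply hf
  have h1 := mul_geom_sum B p
  rw [hB, sub_self, sub_mul, one_mul, sub_eq_zero] at h1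
  exact congrArg (fun T : Module.End F V => T v) h1

/-- A group generated by two commuting elements of order `p` does not act semiregularly. -/
theorem eq_zero_of_fpf {F V : Type*} [Field F] [AddCommGroup V] [Module F V] {p : ℕ}
    (hpF : (p : F) ≠ 0) {A B : Module.End F V} (hAB : Commute A B) (hA : A ^ p = 1) (hB : B ^ p = 1)
    (h1 : ∀ j, 0 < j → j < p → ∀ v, (B ^ j) v = v → v = 0)
    (h2 : ∀ i, ∀ v, (A * B ^ i) v = v → v = 0) (v : V) : v = 0 := by
  have hp : 0 < p := by
    rcases Nat.eq_zero_or_pos p with rfl | h
    · simp at hpF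
    · exact h
  have e1 : ∀ i, ∑ j ∈ Finset.range p, (A * B ^ i) ^ j = 0 := by
    intro i
    apply geom_zero _ (h2 i)
    have hc : Commute A (B ^ i) := hAB.pow_right i
    rw [hc.mul_pow, hA, ← pow_mul, mul_comm i p, pow_mul, hB, one_pow, one_mul]
  have e2 : ∀ j, 0 < j → j < p → ∑ i ∈ Finset.range p, (B ^ j) ^ i = 0 := by
    intro j hj hjp
    apply geom_zero _ (h1 j hj hjp)
    rw [← pow_mul, mul_comm j p, pow_mul, hB, one_pow]
  have e3 : ∑ i ∈ Finset.range p, ∑ j ∈ Finset.range p, (A * B ^ i) ^ j = 0 :=
    Finset.sum_eq_zero (fun i _ => e1 i)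
  rw [Finset.sum_comm] at e3
  obtain ⟨m, rfl⟩ : ∃ m, p = m + 1 := ⟨p - 1, by omega⟩
  rw [Finset.sum_range_succ'] at e3
  have e4 : ∑ j ∈ Finset.range m, ∑ i ∈ Finset.range (m + 1), (A * B ^ i) ^ (j + 1) = 0 := by
    apply Finset.sum_eq_zero
    intro j hj
    rw [Finset.mem_range] at hj
    have : ∀ i ∈ Finset.range (m + 1), (A * B ^ i) ^ (j + 1) = A ^ (j + 1) * (B ^ (j + 1)) ^ i := by
      intro i _
      have hc : Commute A (B ^ i) := hAB.pow_right i
      rw [hc.mul_pow, ← pow_mul, ← pow_mul, mul_comm i]
    rw [Finset.sum_congr rfl this, ← Finset.mul_sum, e2 (j + 1) (by omega) (by omega), mul_zero]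
  rw [e4, zero_add] at e3
  simp only [pow_zero, Finset.sum_const, Finset.card_range] at e3
  have e5 := congrArg (fun T : Module.End F V => T v) e3
  simp only [LinearMap.smul_apply, Module.End.one_apply, LinearMap.zero_apply] at e5
  have e6 : ((m + 1 : ℕ) : F) • v = 0 := by rw [Nat.cast_smul_eq_nsmul]; exact e5
  exact (smul_eq_zero.1 e6).resolve_left hpF

theorem derived_le {G : Type*} [Group G] {N : Subgroup G} (hN : _root_.commutator G ≤ N) (k : ℕ) :
    derivedSeries G (k + 1) ≤ (derivedSeries N k).map N.subtype := by
  induction k with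
  | zero =>
    rw [derivedSeries_zero]
    intro x hx
    have h1 : x ∈ _root_.commutator G := by
      rw [derivedSeries_succ, derivedSeries_zero] at hx
      exact hx
    exact ⟨⟨x, hN h1⟩, trivial, rfl⟩
  | succ k ih =>
    rw [derivedSeries_succ G (k + 1), derivedSeries_succ N k, map_commutator]
    exact commutator_mono ih ih

/-- reduction to faithful irreducible representations -/
theorem dl_red {F : Type u} [Field F] {p : ℕ} (hpF : (p : F) ≠ 0) (k d : ℕ)
    (H : ∀ (V : Type u) [AddCommGroup V] [Module F V] [FiniteDimensional F V] (G : Type u) [Group G]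
      [Finite G] (ρ : Representation F G V), IsPGroup p G → Module.finrank F V < d →
      Function.Injective ρ → Nontrivial V →
      (∀ W : Submodule F V, (∀ g, ∀ w ∈ W, ρ g w ∈ W) → W = ⊥ ∨ W = ⊤) →
      ∀ g ∈ derivedSeries G k, g = 1) :
    ∀ n, ∀ (V : Type u) [AddCommGroup V] [Module F V] [FiniteDimensional F V] (G : Type u) [Group G]
      [Finite G] (ρ : Representation F G V), IsPGroup p G → Module.finrank F V = n → n < d →
      ∀ g ∈ derivedSeries G k, ρ g = 1 := by
  intro n
  induction n using Nat.strong_induction_on with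
  | _ n ih =>
    intro V _ _ _ G _ _ ρ hG hn hnd g hg
    rcases subsingleton_or_nontrivial V with hV | hV
    · apply LinearMap.ext; intro v; exact Subsingleton.elim _ _
    by_cases hirr : ∀ W : Submodule F V, (∀ g, ∀ w ∈ W, ρ g w ∈ W) → W = ⊥ ∨ W = ⊤
    · set K : Subgroup G := MonoidHom.ker ρ with hK
      let ρ' : Representation F (G ⧸ K) V := QuotientGroup.lift K ρ le_rfl
      have hinj : Function.Injective ρ' := by
        intro x y hxy
        obtain ⟨x, rfl⟩ := QuotientGroup.mk_surjective x
        obtain ⟨y, rfl⟩ := QuotientGroup.mk_surjective y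
        rw [QuotientGroup.eq]
        have h1 : ρ x = ρ y := hxy
        rw [hK, MonoidHom.mem_ker, map_mul, ← h1, ← map_mul, inv_mul_cancel, map_one]
      have hQ : IsPGroup p (G ⧸ K) := hG.to_quotient K
      have h1 := H V (G ⧸ K) ρ' hQ (by rw [hn]; exact hnd) hinj hV (by
        intro W hW
        exact hirr W (fun g w hw => hW (g : G ⧸ K) w hw)) (g : G ⧸ K)
        (map_derivedSeries_le_derivedSeries (QuotientGroup.mk' K) k ⟨g, hg, rfl⟩)
      have h2 : g ∈ K := (QuotientGroup.eq_one_iff g).1 h1
      exact h2
    · push Not at hirr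
      obtain ⟨W, hW, hWb, hWt⟩ := hirr
      have hle : ∀ g, W ≤ W.comap (ρ g) := fun g w hw => hW g w hw
      have d1 : Module.finrank F W < n := by
        rw [← hn]; exact Submodule.finrank_lt hWt
      have d2 : Module.finrank F (V ⧸ W) < n := by
        have := Submodule.finrank_quotient_add_finrank W
        have h3 : 0 < Module.finrank F W := by
          rw [Module.finrank_pos_iff]
          exact (Submodule.nontrivial_iff_ne_bot).2 hWb
        omega
      have i1 := ih _ d1 W G (ρ.subrepresentation W hle) hG rfl (by omega) g hg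
      have i2 := ih _ d2 (V ⧸ W) G (ρ.quotient W hle) hG rfl (by omega) g hg
      have j1 : ∀ w ∈ W, ρ g w = w := by
        intro w hw
        have := congrArg (fun T : Module.End F W => T ⟨w, hw⟩) i1
        exact congrArg Subtype.val this
      have j2 : ∀ v, ρ g v - v ∈ W := by
        intro v
        have h3 := congrArg (fun T : Module.End F (V ⧸ W) => T (Submodule.Quotient.mk v)) i2
        have h4 : (Submodule.Quotient.mk (ρ g v) : V ⧸ W) = Submodule.Quotient.mk v := h3
        exact (Submodule.Quotient.eq W).1 h4
      apply LinearMap.ext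
      intro v
      rw [Module.End.one_apply]
      have j3 : ∀ m : ℕ, ρ (g ^ m) v = v + m • (ρ g v - v) := by
        intro m
        induction m with
        | zero => simp
        | succ m ihm =>
          rw [pow_succ', map_mul, Module.End.mul_apply, ihm, map_add, map_nsmul, j1 _ (j2 v),
            succ_nsmul]
          abel
      obtain ⟨m, hm⟩ := hG g
      have j4 := j3 (p ^ m)
      rw [hm, map_one, Module.End.one_apply] at j4
      have j5 : ((p ^ m : ℕ) : F) • (ρ g v - v) = 0 := by
        rw [Nat.cast_smul_eq_nsmul]
        exact (add_eq_left.1 j4.symm)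
      rw [smul_eq_zero] at j5
      rcases j5 with j5 | j5
      · exfalso
        rw [Nat.cast_pow] at j5
        exact pow_ne_zero m hpF j5
      · exact sub_eq_zero.1 j5

/-- case `k = 0` -/
theorem dl_zero {F : Type u} [Field F] [Fintype F] {p : ℕ} [Fact p.Prime] {q : ℕ}
    (hq : Fintype.card F = q) {V : Type u} [AddCommGroup V] [Module F V] [FiniteDimensional F V]
    {G : Type u} [Group G] [Finite G] (ρ : Representation F G V) (hG : IsPGroup p G)
    (hd : Module.finrank F V < orderOf (q : ZMod p)) (hinj : Function.Injective ρ) (hV : Nontrivial V)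
    (hirr : ∀ W : Submodule F V, (∀ g, ∀ w ∈ W, ρ g w ∈ W) → W = ⊥ ∨ W = ⊤) (g : G) : g = 1 := by
  classical
  by_contra hg
  haveI : Nontrivial G := ⟨⟨g, 1, hg⟩⟩
  haveI := hG.center_nontrivial
  obtain ⟨z, hz⟩ := exists_ne (1 : center G)
  have hz1 : (z : G) ≠ 1 := fun h => hz (Subtype.ext h)
  let W : Submodule F V :=
    { carrier := {v | ρ (z : G) v = v}
      add_mem' := by
        intro a b ha hb
        show ρ (z : G) (a + b) = a + b
        rw [map_add, show ρ (z : G) a = a from ha, show ρ (z : G) b = b from hb]
      zero_mem' := map_zero _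
      smul_mem' := by
        intro c a ha
        show ρ (z : G) (c • a) = c • a
        rw [map_smul, show ρ (z : G) a = a from ha] }
  rcases hirr W (by
    intro g w hw
    show ρ (z : G) (ρ g w) = ρ g w
    have h1 : ρ (z : G) (ρ g w) = ρ g (ρ (z : G) w) := by
      rw [← Module.End.mul_apply, ← Module.End.mul_apply, ← map_mul, ← map_mul,
        (mem_center_iff.1 z.2 g)]
    rw [h1, show ρ (z : G) w = w from hw]) with hW | hW
  · -- fixed point free
    haveI : Finite V := Module.finite_of_finite F
    letI : MulAction G V :=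
      { smul := fun g v => ρ g v
        one_smul := fun v => by show ρ 1 v = v; rw [map_one]; rfl
        mul_smul := fun a b v => by show ρ (a * b) v = ρ a (ρ b v); rw [map_mul]; rfl }
    have hZ : IsPGroup p (zpowers (z : G)) := hG.to_subgroup _
    haveI : Fintype V := Fintype.ofFinite V
    have h1 := hZ.card_modEq_card_fixedPoints V
    have h2 : MulAction.fixedPoints (zpowers (z : G)) V = {0} := by
      ext v
      rw [MulAction.mem_fixedPoints, Set.mem_singleton_iff]
      constructor
      · intro h
        have h3 : ρ (z : G) v = v := h ⟨z, mem_zpowers _⟩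
        have h4 : v ∈ W := h3
        rw [hW] at h4
        exact (Submodule.mem_bot F).1 h4
      · rintro rfl m
        exact map_zero (ρ (m : G))
    have hcV : Nat.card V = q ^ Module.finrank F V := by
      rw [Nat.card_eq_fintype_card, Module.card_eq_pow_finrank (K := F), hq]
    have hc0 : Nat.card ({0} : Set V) = 1 := by simp
    rw [h2, hcV, hc0, ← ZMod.natCast_eq_natCast_iff, Nat.cast_pow, Nat.cast_one] at h1
    have h3 := orderOf_dvd_of_pow_eq_one h1
    have h4 : 0 < Module.finrank F V := Module.finrank_pos
    have := Nat.le_of_dvd h4 h3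
    omega
  · apply hz1
    apply hinj
    apply LinearMap.ext
    intro v
    have : v ∈ W := by rw [hW]; trivial
    rw [map_one, Module.End.one_apply]
    exact this

/-- the irreducible faithful step -/
theorem dl_succ {F : Type u} [Field F] [Fintype F] {p : ℕ} [hp : Fact p.Prime] {q : ℕ}
    (hpF : (p : F) ≠ 0) (hpq : ¬ p ∣ q) (k : ℕ)
    (IH : ∀ (V : Type u) [AddCommGroup V] [Module F V] [FiniteDimensional F V] (G : Type u) [Group G]
      [Finite G] (ρ : Representation F G V), IsPGroup p G →
      Module.finrank F V < orderOf (q : ZMod p) * 2 ^ k → ∀ g ∈ derivedSeries G k, ρ g = 1)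
    {V : Type u} [AddCommGroup V] [Module F V] [FiniteDimensional F V]
    {G : Type u} [Group G] [Finite G] (ρ : Representation F G V) (hG : IsPGroup p G)
    (hd : Module.finrank F V < orderOf (q : ZMod p) * 2 ^ (k + 1)) (hinj : Function.Injective ρ)
    (hV : Nontrivial V)
    (hirr : ∀ W : Submodule F V, (∀ g, ∀ w ∈ W, ρ g w ∈ W) → W = ⊥ ∨ W = ⊤) :
    derivedSeries G (k + 1) = ⊥ := by
  classical
  have comm_case : (∀ x y : G, x * y = y * x) → derivedSeries G (k + 1) = ⊥ := by
    intro h
    have h1 : derivedSeries G 1 = ⊥ := by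
      rw [derivedSeries_succ, derivedSeries_zero, commutator_eq_bot_iff_le_centralizer]
      intro x _
      rw [mem_centralizer_iff]
      intro y _
      exact h y x
    rw [eq_bot_iff, ← h1]
    exact derivedSeries_antitone G (by omega)
  by_cases hE : ∃ E : Subgroup G, E.Normal ∧ Nat.card E = p ^ 2 ∧ ∀ a ∈ E, a ^ p = 1
  swap
  · push Not at hE
    rcases H23.cyclic_or_dqs hG (fun E h1 h2 h3 => by
      obtain ⟨a, ha, ha'⟩ := hE E h1 h2
      exact ha' (h3 a ha)) with h1 | ⟨h1, m, h2⟩
    · haveI := h1
      exact comm_case (fun x y => IsCyclic.commGroup.mul_comm x y)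
    · rcases Nat.eq_zero_or_pos k with hk | hk
      · -- p = 2, dimension one
        have he : orderOf (q : ZMod p) = 1 := by
          rw [orderOf_eq_one_iff]
          have hodd : q % p = 1 := by
            have : ¬ 2 ∣ q := by rw [← h1]; exact hpq
            rw [h1]; omega
          have h5 : ((q : ℕ) : ZMod p) = ((1 : ℕ) : ZMod p) := by
            rw [ZMod.natCast_eq_natCast_iff]
            show q % p = 1 % p
            rw [hodd, h1]
          rw [h5, Nat.cast_one]
        rw [he, hk] at hd
        have hd1 : Module.finrank F V = 1 := by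
          have : 0 < Module.finrank F V := Module.finrank_pos
          omega
        apply comm_case
        intro x y
        apply hinj
        rw [map_mul, map_mul]
        obtain ⟨v, hv, hv'⟩ := finrank_eq_one_iff'.1 hd1
        obtain ⟨c, hc⟩ := hv' (ρ x v)
        obtain ⟨d, hd⟩ := hv' (ρ y v)
        have e1 : ρ x (ρ y v) = (d * c) • v := by rw [← hd, map_smul, ← hc, smul_smul]
        have e2 : ρ y (ρ x v) = (c * d) • v := by rw [← hc, map_smul, ← hd, smul_smul]
        apply LinearMap.ext
        intro w
        obtain ⟨a, rfl⟩ := hv' w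
        rw [Module.End.mul_apply, Module.End.mul_apply, map_smul, map_smul, map_smul, map_smul, e1, e2,
          mul_comm c d]
      · -- second derived group is trivial
        obtain ⟨-, u, x, hu, hi, -⟩ := h2
        have hn : (zpowers u).Normal := normal_of_index_eq_two hi
        have hle : _root_.commutator G ≤ zpowers u := by
          haveI : IsMulCommutative (G ⧸ zpowers u) := by
            haveI : Fact (Nat.Prime 2) := ⟨Nat.prime_two⟩
            haveI : IsCyclic (G ⧸ zpowers u) := isCyclic_of_prime_card (p := 2) hi
            exact IsCyclic.commutative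
          intro x hx
          rw [← QuotientGroup.eq_one_iff]
          have h5 : (QuotientGroup.mk' (zpowers u)) x ∈ (_root_.commutator G).map (QuotientGroup.mk' (zpowers u)) :=
            ⟨x, hx, rfl⟩
          rw [_root_.commutator, map_commutator] at h5
          have h6 : ⁅(⊤ : Subgroup G).map (QuotientGroup.mk' (zpowers u)),
              (⊤ : Subgroup G).map (QuotientGroup.mk' (zpowers u))⁆ = ⊥ := by
            rw [commutator_eq_bot_iff_le_centralizer]
            intro y _
            rw [mem_centralizer_iff]
            intro z _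
            exact this.is_comm.comm z y
          rw [h6, mem_bot] at h5
          exact h5
        have h3 : derivedSeries G 2 = ⊥ := by
          have h4 := derived_le hle 1
          rw [eq_bot_iff]
          refine h4.trans ?_
          have h5 : derivedSeries (zpowers u) 1 = ⊥ := by
            rw [derivedSeries_succ, derivedSeries_zero, commutator_eq_bot_iff_le_centralizer]
            intro x _
            rw [mem_centralizer_iff]
            intro y _
            exact (IsCyclic.commutative (α := zpowers u)).is_comm.comm y x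
          rw [h5, Subgroup.map_bot]
        rw [eq_bot_iff, ← h3]
        exact derivedSeries_antitone G (by omega)
  obtain ⟨E, hEn, hEc, hEp⟩ := hE
  have hEcomm := H23.comm_of_card_sq hEc
  set N : Subgroup G := centralizer (E : Set G) with hN
  haveI hNn : N.Normal := inferInstance
  have hNi : N.index ≤ p := H23.index_centralizer_sq_le hG hEc
  have hGN : _root_.commutator G ≤ N := by
    haveI : IsMulCommutative (G ⧸ N) := by
      apply H23.isMulCommutative_of_card_le_sq (hG.to_quotient N)
      calc Nat.card (G ⧸ N) = N.index := rfl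
        _ ≤ p := hNi
        _ ≤ p ^ 2 := Nat.le_self_pow (by norm_num) p
    intro x hx
    rw [← QuotientGroup.eq_one_iff]
    have h5 : (QuotientGroup.mk' N) x ∈ (_root_.commutator G).map (QuotientGroup.mk' N) :=
      ⟨x, hx, rfl⟩
    rw [_root_.commutator, map_commutator] at h5
    have h6 : ⁅(⊤ : Subgroup G).map (QuotientGroup.mk' N),
        (⊤ : Subgroup G).map (QuotientGroup.mk' N)⁆ = ⊥ := by
      rw [commutator_eq_bot_iff_le_centralizer]
      intro y _
      rw [mem_centralizer_iff]
      intro z _
      exact this.is_comm.comm z y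
    rw [h6, mem_bot] at h5
    exact h5
  -- fixed spaces
  let C : G → Submodule F V := fun z =>
    { carrier := {v | ρ z v = v}
      add_mem' := by
        intro a b ha hb
        show ρ z (a + b) = a + b
        rw [map_add, show ρ z a = a from ha, show ρ z b = b from hb]
      zero_mem' := map_zero _
      smul_mem' := by
        intro c a ha
        show ρ z (c • a) = c • a
        rw [map_smul, show ρ z a = a from ha] }
  have hC : ∀ z v, v ∈ C z ↔ ρ z v = v := fun z v => Iff.rfl
  have hCtop : ∀ z, C z = ⊤ → z = 1 := by
    intro z hz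
    apply hinj
    apply LinearMap.ext
    intro v
    have : v ∈ C z := by rw [hz]; trivial
    rw [map_one, Module.End.one_apply]
    exact this
  -- an element of E with nontrivial fixed space
  obtain ⟨x, hxE, hx1, v₀, hv₀, hv₀x⟩ : ∃ x ∈ E, x ≠ 1 ∧ ∃ v, v ≠ 0 ∧ ρ x v = v := by
    by_contra hcon
    push Not at hcon
    have hp1 := hp.out.one_lt
    obtain ⟨b, hbE, hb1⟩ : ∃ b ∈ E, b ≠ 1 := by
      by_contra h
      push Not at h
      have : E = ⊥ := by rw [eq_bot_iff]; intro y hy; rw [mem_bot]; exact h y hy
      rw [this] at hEc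
      simp at hEc
      nlinarith
    have hob : orderOf b = p := orderOf_eq_prime (hEp b hbE) hb1
    obtain ⟨a, haE, hab⟩ : ∃ a ∈ E, a ∉ zpowers b := by
      by_contra h
      push Not at h
      have := card_le_of_le (show E ≤ zpowers b from h)
      rw [hEc, Nat.card_zpowers, hob] at this
      nlinarith
    obtain ⟨v, hv⟩ := exists_ne (0 : V)
    apply hv
    refine eq_zero_of_fpf hpF (A := ρ a) (B := ρ b) ?_ ?_ ?_ ?_ ?_ v
    · show ρ a * ρ b = ρ b * ρ a
      rw [← map_mul, ← map_mul, hEcomm a haE b hbE]
    · rw [← map_pow, hEp a haE, map_one]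
    · rw [← map_pow, hEp b hbE, map_one]
    · intro j hj hjp v hv
      by_contra hv0
      rw [← map_pow] at hv
      refine hcon (b ^ j) (pow_mem hbE j) ?_ v hv0 hv
      intro h
      have := orderOf_dvd_of_pow_eq_one h
      rw [hob] at this
      have := Nat.le_of_dvd hj this
      omega
    · intro i v hv
      by_contra hv0
      rw [← map_pow, ← map_mul] at hv
      refine hcon (a * b ^ i) (mul_mem haE (pow_mem hbE i)) ?_ v hv0 hv
      intro h
      apply hab
      rw [eq_inv_of_mul_eq_one_left h]
      exact inv_mem (pow_mem (mem_zpowers b) i)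
  have hox : orderOf x = p := orderOf_eq_prime (hEp x hxE) hx1
  -- x has a conjugate outside its span
  obtain ⟨g, hg⟩ : ∃ g : G, g * x * g⁻¹ ∉ zpowers x := by
    by_contra hcon
    push Not at hcon
    have hn : (zpowers x).Normal := by
      refine ⟨fun y hy g => ?_⟩
      obtain ⟨m, rfl⟩ := mem_zpowers_iff.1 hy
      rw [← conj_zpow]
      exact zpow_mem (hcon g) m
    have hZ : zpowers x ≤ center G := by
      apply H23.le_center_of_card_le hG
      rw [Nat.card_zpowers, hox]
    have hxZ := hZ (mem_zpowers x)
    rcases hirr (C x) (by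
      intro g w hw
      show ρ x (ρ g w) = ρ g w
      have h1 : ρ x (ρ g w) = ρ g (ρ x w) := by
        rw [← Module.End.mul_apply, ← Module.End.mul_apply, ← map_mul, ← map_mul,
          (mem_center_iff.1 hxZ g)]
      rw [h1, show ρ x w = w from hw]) with h | h
    · have : v₀ ∈ C x := hv₀x
      rw [h] at this
      exact hv₀ ((Submodule.mem_bot F).1 this)
    · exact hx1 (hCtop x h)
  set y := g * x * g⁻¹ with hy
  have hyE : y ∈ E := hEn.conj_mem x hxE g
  have hy1 : y ≠ 1 := by intro h; exact hg (h ▸ one_mem _)
  have hoy : orderOf y = p := orderOf_eq_prime (hEp y hyE) hy1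
  have hEgen : E = closure ({x, y} : Set G) := by
    symm
    apply eq_of_le_of_card_ge
    · rw [closure_le]
      rintro z (rfl | rfl)
      · exact hxE
      · exact hyE
    · rw [hEc]
      have h1 : zpowers x < closure ({x, y} : Set G) := by
        refine lt_of_le_of_ne (by rw [zpowers_le]; exact subset_closure (by simp)) ?_
        intro h
        apply hg
        rw [h]; exact subset_closure (by simp)
      obtain ⟨j, hj⟩ := IsPGroup.iff_card.1 (hG.to_subgroup (closure ({x, y} : Set G)))
      have h2 : Nat.card (zpowers x) < Nat.card (closure ({x, y} : Set G)) := by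
        by_contra h3
        exact h1.ne (eq_of_le_of_card_ge h1.le (not_lt.1 h3))
      rw [Nat.card_zpowers, hox, hj] at h2
      rw [hj]
      apply Nat.pow_le_pow_right hp.out.pos
      by_contra h3
      have h4 : p ^ j ≤ p ^ 1 := Nat.pow_le_pow_right hp.out.pos (by omega)
      rw [pow_one] at h4
      omega
  have hfixE : ∀ v, v ∈ C x ⊓ C y ↔ ∀ z ∈ E, ρ z v = v := by
    intro v
    constructor
    · intro hv z hz
      obtain ⟨hv1, hv2⟩ := Submodule.mem_inf.1 hv
      let S : Subgroup G :=
        { carrier := {z | ρ z v = v}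
          mul_mem' := by
            intro a b ha hb
            show ρ (a * b) v = v
            rw [map_mul, Module.End.mul_apply, show ρ b v = v from hb, show ρ a v = v from ha]
          one_mem' := by show ρ 1 v = v; rw [map_one]; rfl
          inv_mem' := by
            intro a ha
            show ρ a⁻¹ v = v
            have h1 : ρ a⁻¹ (ρ a v) = v := by
              rw [← Module.End.mul_apply, ← map_mul, inv_mul_cancel, map_one]; rfl
            rwa [show ρ a v = v from ha] at h1 }
      have : E ≤ S := by
        rw [hEgen, closure_le]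
        rintro z (rfl | rfl)
        · exact hv1
        · exact hv2
      exact this hz
    · intro h
      exact Submodule.mem_inf.2 ⟨h x hxE, h y hyE⟩
  have hdisj : C x ⊓ C y = ⊥ := by
    rcases hirr (C x ⊓ C y) (by
      intro g w hw
      rw [hfixE] at hw ⊢
      intro z hz
      have h1 : ρ z (ρ g w) = ρ g (ρ (g⁻¹ * z * g) w) := by
        rw [← Module.End.mul_apply, ← Module.End.mul_apply, ← map_mul, ← map_mul]
        congr 2; group
      rw [h1, hw]
      have := hEn.conj_mem z hz g⁻¹
      rwa [inv_inv] at this) with h | h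
    · exact h
    · exfalso
      apply hx1
      apply hCtop
      rw [eq_top_iff, ← h]
      exact inf_le_left
  have hfr : Module.finrank F (C x) = Module.finrank F (C y) := by
    have h1 : C y = (C x).map (ρ g) := by
      ext v
      rw [Submodule.mem_map]
      constructor
      · intro hv
        refine ⟨ρ g⁻¹ v, ?_, ?_⟩
        · rw [hC]
          have : ρ x (ρ g⁻¹ v) = ρ g⁻¹ (ρ y v) := by
            rw [← Module.End.mul_apply, ← Module.End.mul_apply, ← map_mul, ← map_mul]
            congr 2; rw [hy]; group
          rw [this, show ρ y v = v from hv]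
        · rw [← Module.End.mul_apply, ← map_mul, mul_inv_cancel, map_one]; rfl
      · rintro ⟨w, hw, rfl⟩
        rw [hC]
        have : ρ y (ρ g w) = ρ g (ρ x w) := by
          rw [← Module.End.mul_apply, ← Module.End.mul_apply, ← map_mul, ← map_mul]
          congr 2; rw [hy]; group
        rw [this, show ρ x w = w from hw]
    rw [h1]
    have h2 : Function.Injective (ρ g) := by
      intro v w hvw
      have h3 : ∀ v, ρ g⁻¹ (ρ g v) = v := by
        intro v
        rw [← Module.End.mul_apply, ← map_mul, inv_mul_cancel, map_one]; rfl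
      rw [← h3 v, hvw, h3 w]
    exact (Submodule.equivMapOfInjective (ρ g) h2 (C x)).finrank_eq
  have hfr2 : Module.finrank F (C x) < orderOf (q : ZMod p) * 2 ^ k := by
    have h1 := Submodule.finrank_sup_add_finrank_inf_eq (C x) (C y)
    rw [hdisj, finrank_bot, ← hfr, add_zero] at h1
    have h2 := Submodule.finrank_le (C x ⊔ C y)
    rw [pow_succ] at hd
    nlinarith
  -- apply the induction hypothesis to N acting on C x
  have hNC : ∀ h : N, C x ≤ (C x).comap (ρ (h : G)) := by
    intro h w hw
    show ρ x (ρ (h : G) w) = ρ (h : G) w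
    have h1 : ρ x (ρ (h : G) w) = ρ (h : G) (ρ x w) := by
      rw [← Module.End.mul_apply, ← Module.End.mul_apply, ← map_mul, ← map_mul,
        mem_centralizer_iff.1 h.2 x hxE]
    rw [h1, show ρ x w = w from hw]
  have hI := IH (C x) N (Representation.subrepresentation (ρ.comp N.subtype : Representation F N V) (C x) hNC)
    (hG.to_subgroup N) hfr2
  set D : Subgroup G := (derivedSeries N k).map N.subtype with hD
  haveI hDn : D.Normal := by
    haveI : (derivedSeries N k).Characteristic := inferInstance
    exact ConjAct.normal_of_characteristic_of_normal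
  have hDfix : ∀ h ∈ D, ∀ w ∈ C x, ρ h w = w := by
    rintro _ ⟨h, hh, rfl⟩ w hw
    have h1 := hI h hh
    have h2 := congrArg (fun T : Module.End F (C x) => T ⟨w, hw⟩) h1
    exact congrArg Subtype.val h2
  let W : Submodule F V :=
    { carrier := {v | ∀ z ∈ D, ρ z v = v}
      add_mem' := by
        intro a b ha hb z hz
        rw [map_add, ha z hz, hb z hz]
      zero_mem' := fun z _ => map_zero _
      smul_mem' := by
        intro c a ha z hz
        rw [map_smul, ha z hz] }
  have hDbot : D = ⊥ := by
    rcases hirr W (by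
      intro g w hw z hz
      have h1 : ρ z (ρ g w) = ρ g (ρ (g⁻¹ * z * g) w) := by
        rw [← Module.End.mul_apply, ← Module.End.mul_apply, ← map_mul, ← map_mul]
        congr 2; group
      rw [h1, hw]
      have := hDn.conj_mem z hz g⁻¹
      rwa [inv_inv] at this) with h | h
    · exfalso
      have : v₀ ∈ W := fun z hz => hDfix z hz v₀ hv₀x
      rw [h] at this
      exact hv₀ ((Submodule.mem_bot F).1 this)
    · rw [eq_bot_iff]
      intro z hz
      rw [mem_bot]
      apply hinj
      apply LinearMap.ext
      intro v
      have : v ∈ W := by rw [h]; trivial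
      rw [map_one, Module.End.one_apply]
      exact this z hz
  rw [eq_bot_iff, ← hDbot]
  exact derived_le hGN k

theorem dl_main {F : Type u} [Field F] [Fintype F] {p : ℕ} [hp : Fact p.Prime] {q : ℕ}
    (hq : Fintype.card F = q) (hpF : (p : F) ≠ 0) (hpq : ¬ p ∣ q) (k : ℕ) :
    ∀ (V : Type u) [AddCommGroup V] [Module F V] [FiniteDimensional F V] (G : Type u) [Group G]
      [Finite G] (ρ : Representation F G V), IsPGroup p G →
      Module.finrank F V < orderOf (q : ZMod p) * 2 ^ k → ∀ g ∈ derivedSeries G k, ρ g = 1 := by
  induction k with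
  | zero =>
    intro V _ _ _ G _ _ ρ hG hd g hg
    refine dl_red hpF 0 (orderOf (q : ZMod p) * 2 ^ 0) ?_ _ V G ρ hG rfl hd g hg
    intro V _ _ _ G _ _ ρ hG hd hinj hV hirr g _
    exact dl_zero hq ρ hG (by simpa using hd) hinj hV hirr g
  | succ k ih =>
    intro V _ _ _ G _ _ ρ hG hd g hg
    refine dl_red hpF (k + 1) (orderOf (q : ZMod p) * 2 ^ (k + 1)) ?_ _ V G ρ hG rfl hd g hg
    intro V _ _ _ G _ _ ρ hG hd hinj hV hirr g hg
    rw [dl_succ hpF hpq k ih ρ hG hd hinj hV hirr, mem_bot] at hg
    exact hg

end Cfsg.Agent.H18
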