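import Cfsg.Agent.H18.SL23b
import Cfsg.Agent.H18.S4Inv2
import Cfsg.Agent.H1.Chief
import Cfsg.Agent.H4.OddAut
import Cfsg.Agent.H19.HSub2

/-!
# Solvable groups with dihedral-like Sylow 2-subgroups (helper18)
-/

set_option autoImplicit false
set_option linter.style.haveILetI false
open Cfsg

namespace Cfsg.Agent.H18

universe u v

/-- odd order elements centralizing a subgroup of index `≤ 2` -/
theorem odd_fix {G : Type u} [Group G] [Finite G] {Q A : Subgroup G} {ρ : G} (hρ : Odd (orderOf ρ))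
    (hQ : IsPGroup 2 Q) (hρQ : ρ ∈ Subgroup.normalizer (Q : Set G)) (hAQ : A ≤ Q)
    (hfix : ∀ a ∈ A, ρ * a * ρ⁻¹ = a)
    (hidx : ∀ q ∈ Q, ∀ q' ∈ Q, q ∉ A → q' ∉ A → q⁻¹ * q' ∈ A) : ∀ q ∈ Q, ρ * q * ρ⁻¹ = q := by
  intro q hq
  by_cases hqA : q ∈ A
  · exact hfix q hqA
  have hq' : ρ * q * ρ⁻¹ ∈ Q := (Subgroup.mem_normalizer_iff.1 hρQ q).1 hq
  have hq'A : ρ * q * ρ⁻¹ ∉ A := by
    intro h
    have h1 := hfix _ h
    have h2 : ρ * q * ρ⁻¹ = q := by
      have : ρ⁻¹ * (ρ * (ρ * q * ρ⁻¹) * ρ⁻¹) * ρ = ρ⁻¹ * (ρ * q * ρ⁻¹) * ρ := by rw [h1]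
      calc ρ * q * ρ⁻¹ = ρ⁻¹ * (ρ * (ρ * q * ρ⁻¹) * ρ⁻¹) * ρ := by group
        _ = ρ⁻¹ * (ρ * q * ρ⁻¹) * ρ := this
        _ = q := by group
    rw [h2] at h
    exact hqA h
  have hn := hidx q hq _ hq' hqA hq'A
  set n := q⁻¹ * (ρ * q * ρ⁻¹) with hndef
  obtain ⟨j, hj⟩ := hQ ⟨n, hAQ hn⟩
  have := H4.fix_of_mul (β := MulAut.conj ρ) (m := orderOf ρ) (a := q) (n := n) (j := j) hρ
    (by rw [← map_pow, pow_orderOf_eq_one, map_one]) (congrArg Subtype.val hj)
    (by show ρ * n * ρ⁻¹ = n; exact hfix n hn)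
    (by show ρ * q * ρ⁻¹ = q * n; rw [hndef]; group)
  exact this

theorem odd_mem_zpowers_sq {G : Type u} [Group G] [Finite G] {ρ : G} (hρ : Odd (orderOf ρ)) :
    ρ ∈ Subgroup.zpowers (ρ ^ 2) := by
  obtain ⟨k, hk⟩ := hρ
  refine ⟨((k + 1 : ℕ) : ℤ), ?_⟩
  show (ρ ^ 2) ^ ((k + 1 : ℕ) : ℤ) = ρ
  rw [zpow_natCast, ← pow_mul]
  have : 2 * (k + 1) = orderOf ρ + 1 := by omega
  rw [this, pow_succ, pow_orderOf_eq_one, one_mul]

theorem eq_one_of_odd_of_two {G : Type u} [Group G] [Finite G] {Q : Subgroup G} {ρ : G} (hρ : Odd (orderOf ρ))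
    (hQ : IsPGroup 2 Q) (h : ρ ∈ Q) : ρ = 1 := by
  obtain ⟨k, hk⟩ := hQ ⟨ρ, h⟩
  have h1 : ρ ^ 2 ^ k = 1 := congrArg Subtype.val hk
  have h2 := orderOf_dvd_of_pow_eq_one h1
  have h3 : (orderOf ρ).Coprime (2 ^ k) := Nat.Coprime.pow_right k (Nat.coprime_two_right.2 hρ)
  exact orderOf_eq_one_iff.1 (Nat.eq_one_of_dvd_coprimes h3 dvd_rfl h2)

/-- the main step -/
theorem dihcore {G : Type u} [Group G] [Finite G] (Q : Subgroup G) [hQn : Q.Normal] (hQ2 : IsPGroup 2 Q)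
    (hCQ : Subgroup.centralizer (Q : Set G) ≤ Q) (hodd : ¬ IsPGroup 2 G)
    (R Z : Subgroup G) (hR : IsCyclic R) (hR2 : IsPGroup 2 R) [hZn : Z.Normal] (hZQ : Z ≤ Q) (hZR : Z ≤ R) (hZ1 : Z ≠ ⊥)
    (D1 : ∀ t ∈ Q, ∀ t' ∈ Q, t ∉ R → t' ∉ R → t⁻¹ * t' ∈ R)
    (D2 : ∀ t ∈ Q, t ∉ R → (t * t) * (t * t) = 1 ∧ t * t ∈ R)
    (D3 : ∀ t ∈ Q, t ∉ R → ∀ c ∈ Q ⊓ R, c ^ 4 = 1 → t * c * t⁻¹ = c⁻¹) :
    ∃ U : Subgroup G, U.Normal ∧ Nonempty (U ≃* Matrix.SpecialLinearGroup (Fin 2) (ZMod 3)) := by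
  haveI : Fact (Nat.Prime 2) := ⟨Nat.prime_two⟩
  have hρQ : ∀ g : G, g ∈ Subgroup.normalizer (Q : Set G) := fun g => by
    rw [Subgroup.normalizer_eq_top]; exact Subgroup.mem_top _
  -- odd order elements are nontrivial on `Q`
  have hfaith : ∀ ρ : G, Odd (orderOf ρ) → (∀ q ∈ Q, ρ * q * ρ⁻¹ = q) → ρ = 1 := by
    intro ρ hρ h
    apply eq_one_of_odd_of_two hρ hQ2
    apply hCQ
    rw [Subgroup.mem_centralizer_iff]
    intro q hq
    have := h q hq
    rw [mul_inv_eq_iff_eq_mul] at this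
    exact this.symm
  -- an element of odd order
  obtain ⟨ρ, hρ, hρ1⟩ : ∃ ρ : G, Odd (orderOf ρ) ∧ ρ ≠ 1 := by
    by_contra hcon
    push Not at hcon
    apply hodd
    intro g
    have hpos := orderOf_pos g
    obtain ⟨a, m, hm, h⟩ := Nat.exists_eq_pow_mul_and_not_dvd hpos.ne' 2 (by norm_num)
    refine ⟨a, ?_⟩
    apply hcon
    rw [orderOf_pow_of_dvd (pow_ne_zero _ (by norm_num)) (by rw [h]; exact dvd_mul_right _ _), h,
      Nat.mul_div_cancel_left _ (pow_pos (by norm_num) a)]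
    exact Nat.not_even_iff_odd.1 (fun he => hm he.two_dvd)
  set C : Subgroup G := Q ⊓ R with hC
  haveI := hR
  haveI hCcyc : IsCyclic C := Subgroup.isCyclic_of_le inf_le_right
  have hC2 : IsPGroup 2 C := hQ2.to_le inf_le_left
  have hidxC : ∀ q ∈ Q, ∀ q' ∈ Q, q ∉ C → q' ∉ C → q⁻¹ * q' ∈ C := by
    intro q hq q' hq' h1 h2
    exact Subgroup.mem_inf.2 ⟨Q.mul_mem (Q.inv_mem hq) hq', D1 q hq q' hq'
      (fun h => h1 (Subgroup.mem_inf.2 ⟨hq, h⟩)) (fun h => h2 (Subgroup.mem_inf.2 ⟨hq', h⟩))⟩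
  have hcop : (orderOf ρ).Coprime 2 := Nat.coprime_two_right.2 hρ
  have hfixcyc : ∀ E : Subgroup G, IsCyclic E → IsPGroup 2 E → ρ ∈ Subgroup.normalizer (E : Set G) →
      ∀ a ∈ E, ρ * a * ρ⁻¹ = a := by
    intro E hE hE2 hn a ha
    have h1 := H19.le_centralizer_of_isCyclic hE hE2 hcop (by norm_num) hn ha
    have h2 := Subgroup.mem_centralizer_iff.1 h1 ρ (Subgroup.mem_zpowers ρ)
    rw [h2, mul_inv_cancel_right]
  have hCn : ρ ∉ Subgroup.normalizer (C : Set G) := by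
    intro hn
    exact hρ1 (hfaith ρ hρ (odd_fix hρ hQ2 (hρQ ρ) inf_le_left (hfixcyc C hCcyc hC2 hn) hidxC))
  -- the generator of `C`
  obtain ⟨c, hcgen⟩ : ∃ c : G, C = Subgroup.zpowers c := by
    obtain ⟨c, hc⟩ := IsCyclic.exists_generator (α := C)
    refine ⟨c, le_antisymm ?_ ((Subgroup.zpowers_le).2 c.2)⟩
    intro x hx
    obtain ⟨k, hk⟩ := hc ⟨x, hx⟩
    exact ⟨k, congrArg Subtype.val hk⟩
  have hcC : c ∈ C := by rw [hcgen]; exact Subgroup.mem_zpowers c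
  have hcQ : c ∈ Q := (Subgroup.mem_inf.1 hcC).1
  have hnormC : ∀ g : G, g * c * g⁻¹ ∈ C → g ∈ Subgroup.normalizer (C : Set G) := by
    intro g hg
    apply H10.mem_normalizer_of_conj_le
    intro x hx
    rw [hcgen] at hx
    obtain ⟨k, rfl⟩ := hx
    show g * c ^ k * g⁻¹ ∈ C
    rw [← conj_zpow]
    exact C.zpow_mem hg k
  set t := ρ * c * ρ⁻¹ with ht
  have htC : t ∉ C := fun h => hCn (hnormC ρ h)
  have htQ : t ∈ Q := hQn.conj_mem c hcQ ρ
  have htR : t ∉ R := fun h => htC (Subgroup.mem_inf.2 ⟨htQ, h⟩)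
  obtain ⟨htt4, httR⟩ := D2 t htQ htR
  have hc4' : c ^ 4 = c * c * (c * c) := by
    simp only [pow_succ, pow_zero, one_mul, mul_assoc]
  have hc4 : c ^ 4 = 1 := by
    have h1 : ρ * (c ^ 4) * ρ⁻¹ = 1 := by
      rw [← htt4, ht, hc4']
      group
    rwa [conj_eq_one_iff] at h1
  have hc2 : c * c ≠ 1 := by
    intro h
    have hcard : Nat.card C ≤ 2 := by
      rw [hcgen, Nat.card_zpowers]
      exact Nat.le_of_dvd (by norm_num) (orderOf_dvd_of_pow_eq_one (by rw [pow_two]; exact h))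
    have hZC : Z ≤ C := le_inf hZQ hZR
    have hZ2 : 2 ≤ Nat.card Z := by
      have : 1 < Nat.card Z := by rw [Subgroup.one_lt_card_iff_ne_bot]; exact hZ1
      omega
    have h1 : Z = C := Subgroup.eq_of_le_of_card_ge hZC (by omega)
    apply hCn
    rw [← h1, Subgroup.normalizer_eq_top]
    exact Subgroup.mem_top _
  have hcc : (c * c) * (c * c) = 1 := by rw [← hc4, hc4']
  have hc2' : c * c = (c * c)⁻¹ := (inv_eq_of_mul_eq_one_left hcc).symm
  -- powers of `c`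
  have hCmem : ∀ x ∈ C, x = 1 ∨ x = c ∨ x = c * c ∨ x = c⁻¹ := by
    intro x hx
    rw [hcgen] at hx
    obtain ⟨k, hk⟩ := mem_powers_iff_mem_zpowers.2 hx
    have h1 : c ^ k = c ^ (k % 4) := by
      conv_lhs => rw [← Nat.div_add_mod k 4, pow_add, pow_mul, hc4, one_pow, one_mul]
    have h2 : k % 4 < 4 := Nat.mod_lt _ (by norm_num)
    change c ^ k = x at hk
    rw [← hk, h1]
    interval_cases h3 : k % 4
    · left; rw [pow_zero]
    · right; left; rw [pow_one]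
    · right; right; left; rw [pow_two]
    · right; right; right
      rw [eq_inv_iff_mul_eq_one, ← hc4]; group
  have httC : t * t ∈ C := Subgroup.mem_inf.2 ⟨Q.mul_mem htQ htQ, httR⟩
  have htt1 : t * t ≠ 1 := by
    intro h
    apply hc2
    have h1 : ρ * (c * c) * ρ⁻¹ = 1 := by
      rw [← h, ht]; group
    rwa [conj_eq_one_iff] at h1
  have htt : t * t = c * c := by
    rcases hCmem _ httC with h | h | h | h
    · exact absurd h htt1
    · rw [h] at htt4; exact absurd htt4 hc2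
    · exact h
    · exfalso
      rw [h, ← mul_inv_rev, inv_eq_one] at htt4
      exact hc2 htt4
  have htc : t * c * t⁻¹ = c⁻¹ := D3 t htQ htR c hcC hc4
  have htc' : t * c = c⁻¹ * t := by rw [← htc]; group
  -- the third
  set k := ρ * t * ρ⁻¹ with hk
  have hkQ : k ∈ Q := hQn.conj_mem t htQ ρ
  have hkC : k ∉ C := by
    intro h
    apply hCn
    have h1 : ρ ^ 2 ∈ Subgroup.normalizer (C : Set G) := by
      apply hnormC
      have : ρ ^ 2 * c * (ρ ^ 2)⁻¹ = k := by rw [hk, ht, pow_two]; group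
      rw [this]; exact h
    exact ((Subgroup.zpowers_le).2 h1) (odd_mem_zpowers_sq hρ)
  have htk := hidxC t htQ k hkQ htC hkC
  have hkt : k ≠ t := by
    intro h
    rw [hk] at h
    nth_rewrite 2 [ht] at h
    have h1 : t = c := mul_left_cancel (mul_right_cancel h)
    exact htC (h1 ▸ hcC)
  have hkt' : k ≠ t⁻¹ := by
    intro h
    have h1 : ρ * t * ρ⁻¹ = ρ * c⁻¹ * ρ⁻¹ := by
      rw [← hk, h, ht]; group
    have h2 : t = c⁻¹ := mul_left_cancel (mul_right_cancel h1)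
    exact htC (h2 ▸ C.inv_mem hcC)
  have htinv : t⁻¹ = t * (c * c) := by
    rw [← htt, inv_eq_iff_mul_eq_one, ← htt4]; group
  have hcinv : c⁻¹ = c * (c * c) := by
    rw [inv_eq_iff_mul_eq_one, ← hcc]; group
  have hcases : k = t * c ∨ k = c * t := by
    rcases hCmem _ htk with h | h | h | h
    · exact absurd (inv_mul_eq_one.1 h).symm hkt
    · left; rw [← h]; group
    · exfalso; apply hkt'
      rw [htinv, ← h]; group
    · right
      have h1 : k = t * c⁻¹ := by rw [← h]; group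
      rw [h1]
      have h2 : t * c⁻¹ * t⁻¹ = c := by
        calc t * c⁻¹ * t⁻¹ = (t * c * t⁻¹)⁻¹ := by group
          _ = c := by rw [htc, inv_inv]
      rw [mul_inv_eq_iff_eq_mul] at h2
      exact h2
  -- `ρ k ρ⁻¹ = c`
  have hρk : ρ * k * ρ⁻¹ = c := by
    rcases hcases with h | h
    · have h1 : ρ * k * ρ⁻¹ = k * t := by
        calc ρ * k * ρ⁻¹ = ρ * (t * c) * ρ⁻¹ := by rw [h]
          _ = (ρ * t * ρ⁻¹) * (ρ * c * ρ⁻¹) := by group
      rw [h1, h, htc', mul_assoc, htt]; group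
    · have h1 : ρ * k * ρ⁻¹ = t * k := by
        calc ρ * k * ρ⁻¹ = ρ * (c * t) * ρ⁻¹ := by rw [h]
          _ = (ρ * c * ρ⁻¹) * (ρ * t * ρ⁻¹) := by group
      rw [h1, h, ← mul_assoc, htc', mul_assoc, htt]; group
  -- `Q` is generated
  have hgenQ : ∀ y ∈ Q, y ∉ C → Q = Subgroup.zpowers c ⊔ Subgroup.zpowers y := by
    intro y hy hyC
    apply le_antisymm
    · intro q hq
      by_cases hqC : q ∈ C
      · rw [hcgen] at hqC
        exact Subgroup.mem_sup_left hqC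
      · have h1 := hidxC y hy q hq hyC hqC
        rw [hcgen] at h1
        have h2 : q = y * (y⁻¹ * q) := by group
        rw [h2]
        exact Subgroup.mul_mem _ (Subgroup.mem_sup_right (Subgroup.mem_zpowers y)) (Subgroup.mem_sup_left h1)
    · exact sup_le ((Subgroup.zpowers_le).2 hcQ) ((Subgroup.zpowers_le).2 hy)
  have hρ3c : ρ ^ 3 * c * (ρ ^ 3)⁻¹ = c := by
    calc ρ ^ 3 * c * (ρ ^ 3)⁻¹ = ρ * (ρ * (ρ * c * ρ⁻¹) * ρ⁻¹) * ρ⁻¹ := by rw [pow_succ, pow_two]; group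
      _ = c := by rw [← ht, ← hk, hρk]
  have hρ3t : ρ ^ 3 * t * (ρ ^ 3)⁻¹ = t := by
    calc ρ ^ 3 * t * (ρ ^ 3)⁻¹ = ρ * (ρ ^ 3 * c * (ρ ^ 3)⁻¹) * ρ⁻¹ := by rw [ht, pow_succ, pow_two]; group
      _ = t := by rw [hρ3c]
  have hρ3 : ρ ^ 3 = 1 := by
    have hcen : Q ≤ Subgroup.centralizer ({ρ ^ 3} : Set G) := by
      rw [hgenQ t htQ htC]
      refine sup_le ((Subgroup.zpowers_le).2 ?_) ((Subgroup.zpowers_le).2 ?_)
      · rw [Subgroup.mem_centralizer_singleton_iff]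
        rw [mul_inv_eq_iff_eq_mul] at hρ3c
        exact hρ3c.symm
      · rw [Subgroup.mem_centralizer_singleton_iff]
        rw [mul_inv_eq_iff_eq_mul] at hρ3t
        exact hρ3t.symm
    apply hfaith
    · obtain ⟨m, hm⟩ := (orderOf_pow_dvd (x := ρ) 3)
      rw [hm] at hρ
      exact Nat.Odd.of_mul_right (by rwa [mul_comm] at hρ)
    · intro q hq
      rw [mul_inv_eq_iff_eq_mul]
      exact (Subgroup.mem_centralizer_singleton_iff.1 (hcen hq)).symm
  rcases hcases with h | h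
  · -- use `ρ⁻¹` and `k`
    have hBT : BT c k ρ⁻¹ := by
      refine ⟨hc4, ?_, ?_, ?_, ?_, by rw [inv_pow, hρ3, inv_one]⟩
      · calc k * k = t * c * (t * c) := by rw [h]
          _ = c⁻¹ * (t * t) * c := by rw [htc']; rw [mul_assoc (c⁻¹) t (c⁻¹ * t), ← mul_assoc t c⁻¹ t]
                                      have : t * c⁻¹ = c * t := by
                                        have h2 : t * c⁻¹ * t⁻¹ = c := by
                                          calc t * c⁻¹ * t⁻¹ = (t * c * t⁻¹)⁻¹ := by group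
                                            _ = c := by rw [htc, inv_inv]
                                        rw [mul_inv_eq_iff_eq_mul] at h2
                                        exact h2
                                      rw [this, mul_assoc c t t, htt]; group
          _ = c * c := by rw [htt]; group
      · rw [h]
        calc t * c * c * (t * c)⁻¹ = t * c * t⁻¹ := by group
          _ = c⁻¹ := htc
      · rw [inv_inv]
        rw [← hρk]; group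
      · rw [inv_inv]
        have h1 : ρ⁻¹ * k * ρ = t := by rw [hk]; group
        rw [h1, h, ← mul_assoc]
        have h2 : c * t * c = t := by rw [mul_assoc, htc']; group
        exact h2.symm
    have hQeq := hgenQ k hkQ hkC
    refine hBT.exists_normal_SL23 hc2 ?_ ?_
    · rw [← hQeq]; exact hQn
    · rw [← hQeq]; exact hCQ
  · have hBT : BT c t ρ := ⟨hc4, htt, htc, rfl, h, hρ3⟩
    have hQeq := hgenQ t htQ htC
    refine hBT.exists_normal_SL23 hc2 ?_ ?_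
    · rw [← hQeq]; exact hQn
    · rw [← hQeq]; exact hCQ

end Cfsg.Agent.H18
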