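import Cfsg.Agent.H18.DihCore
import Cfsg.Agent.H4.QDih

/-!
# Solvable groups with dihedral-like Sylow 2-subgroups, II (helper18)
-/

set_option autoImplicit false
set_option linter.style.haveILetI false
open Cfsg

namespace Cfsg.Agent.H18

universe u v

/-- common properties of dihedral and semidihedral 2-groups -/
structure DihLike (S : Type u) [Group S] (R : Subgroup S) : Prop where
  cyc : IsCyclic R
  d1 : ∀ t t', t ∉ R → t' ∉ R → t⁻¹ * t' ∈ R
  d2 : ∀ t, t ∉ R → (t * t) * (t * t) = 1 ∧ t * t ∈ R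
  d3 : ∀ t, t ∉ R → ∀ c ∈ R, c ^ 4 = 1 → t * c * t⁻¹ = c⁻¹
  d4 : ∃ c ∈ R, c ^ 4 = 1 ∧ c * c ≠ 1

theorem dihLike_dihedral {m : ℕ} (hm : 0 < m) : DihLike (DihedralGroup (4 * m)) (Rot (4 * m)) := by
  refine ⟨?_, ?_, ?_, ?_, ?_⟩
  · unfold Rot; infer_instance
  · rintro (i | i) (j | j) hi hj
    · exact absurd (mem_Rot.2 ⟨i, rfl⟩) hi
    · exact absurd (mem_Rot.2 ⟨i, rfl⟩) hi
    · exact absurd (mem_Rot.2 ⟨j, rfl⟩) hj
    · rw [mem_Rot]
      exact ⟨j - i, by rw [DihedralGroup.inv_sr, DihedralGroup.sr_mul_sr]⟩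
  · rintro (i | i) hi
    · exact absurd (mem_Rot.2 ⟨i, rfl⟩) hi
    · rw [DihedralGroup.sr_mul_self]
      exact ⟨one_mul 1, Subgroup.one_mem _⟩
  · rintro (i | i) hi c hc -
    · exact absurd (mem_Rot.2 ⟨i, rfl⟩) hi
    · obtain ⟨j, rfl⟩ := mem_Rot.1 hc
      rw [DihedralGroup.inv_sr, DihedralGroup.sr_mul_r, DihedralGroup.sr_mul_sr, DihedralGroup.inv_r]
      congr 1; ring
  · refine ⟨(DihedralGroup.r 1) ^ m, Subgroup.pow_mem _ (Subgroup.mem_zpowers _) m, ?_, ?_⟩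
    · rw [← pow_mul, mul_comm m 4]
      rw [← orderOf_dvd_iff_pow_eq_one, DihedralGroup.orderOf_r_one]
    · rw [← pow_add, Ne, ← orderOf_dvd_iff_pow_eq_one, DihedralGroup.orderOf_r_one]
      intro h
      have := Nat.le_of_dvd (by omega) h
      omega

theorem dihLike_quasi {S : Type u} [Group S] (h : IsQuasiDihedral S) : ∃ R, DihLike S R := by
  obtain ⟨k, x, y, z, hq⟩ := H4.exists_QD h
  set e := 2 ^ k with he
  have hi := Subgroup.index_eq_two_iff'.1 hq.zpowers_index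
  refine ⟨Subgroup.zpowers x, ?_, ?_, ?_, ?_, ?_⟩
  · infer_instance
  · intro t t' ht ht'
    rw [Subgroup.mul_mem_iff_of_index_two hq.zpowers_index, Subgroup.inv_mem_iff]
    exact iff_of_false ht ht'
  · intro t ht
    refine ⟨?_, Subgroup.mul_self_mem_of_index_two hq.zpowers_index t⟩
    rcases hq.cover t with ⟨a, rfl⟩ | ⟨a, rfl⟩
    · exact absurd (Subgroup.zpow_mem_zpowers x a) ht
    · rw [hq.refl_sq, ← zpow_add]
      have : a + a = 2 * a := by ring
      rw [this, hq.zpow_z_even]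
  · intro t ht c hc hc4
    rcases hq.cover t with ⟨a, rfl⟩ | ⟨a, rfl⟩
    · exact absurd (Subgroup.zpow_mem_zpowers x a) ht
    · obtain ⟨b, rfl⟩ := Subgroup.mem_zpowers_iff.1 hc
      have h1 : x ^ a * y * x ^ b * (x ^ a * y)⁻¹ = x ^ a * (y * x ^ b * y⁻¹) * (x ^ a)⁻¹ := by group
      rw [h1, hq.conj_zpow, ← zpow_neg, ← zpow_add, ← zpow_add, ← zpow_neg]
      rw [hq.zpow_eq]
      have h2 : (8 * e : ℤ) ∣ b * 4 := by
        rw [← hq.zpow_eq_one_iff, zpow_mul]
        exact_mod_cast hc4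
      obtain ⟨c, hc⟩ := h2
      exact ⟨e * c, by linear_combination (e : ℤ) * hc⟩
  · refine ⟨x ^ (2 * e : ℤ), Subgroup.zpow_mem_zpowers x _, ?_, ?_⟩
    · rw [← orderOf_dvd_iff_pow_eq_one, hq.u_ord]
    · rw [hq.u_sq]; exact hq.z_ne

theorem DihLike.equiv {S : Type u} [Group S] {S' : Type v} [Group S'] {R' : Subgroup S'} (h : DihLike S' R')
    (e : S ≃* S') : DihLike S (R'.comap e.toMonoidHom) := by
  refine ⟨?_, ?_, ?_, ?_, ?_⟩
  · haveI := h.cyc
    exact isCyclic_of_injective (e.toMonoidHom.subgroupComap R') (by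
      intro a b hab
      exact Subtype.ext (e.injective (congrArg Subtype.val hab)))
  · intro t t' ht ht'
    show e (t⁻¹ * t') ∈ R'
    rw [map_mul, map_inv]
    exact h.d1 _ _ ht ht'
  · intro t ht
    obtain ⟨h1, h2⟩ := h.d2 (e t) ht
    refine ⟨e.injective ?_, ?_⟩
    · rw [map_mul, map_mul, map_one]; exact h1
    · show e (t * t) ∈ R'
      rw [map_mul]; exact h2
  · intro t ht c hc hc4
    apply e.injective
    rw [map_mul, map_mul, map_inv, map_inv]
    exact h.d3 _ ht _ hc (by rw [← map_pow, hc4, map_one])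
  · obtain ⟨c, hc, hc4, hc2⟩ := h.d4
    refine ⟨e.symm c, ?_, ?_, ?_⟩
    · show e (e.symm c) ∈ R'
      rw [e.apply_symm_apply]; exact hc
    · rw [← map_pow, hc4, map_one]
    · intro h1
      apply hc2
      rw [← map_mul, map_eq_one_iff _ e.symm.injective] at h1
      exact h1

theorem dihLike_sylow {G : Type u} [Group G] [Finite G] (T : Sylow 2 G)
    (hT : (∃ n : ℕ, 4 ≤ n ∧ Nonempty (↥(T : Subgroup G) ≃* DihedralGroup n)) ∨
      Cfsg.IsQuasiDihedral ↥(T : Subgroup G)) : ∃ R, DihLike (T : Subgroup G) R := by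
  haveI : Fact (Nat.Prime 2) := ⟨Nat.prime_two⟩
  rcases hT with ⟨n, hn, ⟨e⟩⟩ | h
  · have h1 : ∃ m : ℕ, 0 < m ∧ n = 4 * m := by
      obtain ⟨k, hk⟩ := IsPGroup.iff_card.1 T.isPGroup'
      have h2 := Nat.card_congr e.toEquiv
      rw [DihedralGroup.nat_card] at h2
      change Nat.card (T : Subgroup G) = 2 ^ k at hk
      rw [hk] at h2
      have h3 : 3 ≤ k := by
        by_contra hcon
        push Not at hcon
        have : 2 ^ k ≤ 2 ^ 2 := Nat.pow_le_pow_right (by norm_num) (by omega)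
        omega
      obtain ⟨l, rfl⟩ := Nat.exists_eq_add_of_le h3
      refine ⟨2 ^ l, by positivity, ?_⟩
      rw [pow_add] at h2
      omega
    obtain ⟨m, hm, rfl⟩ := h1
    exact ⟨_, (dihLike_dihedral hm).equiv e⟩
  · exact dihLike_quasi h

theorem dihLike_main {G : Type u} [Group G] [Finite G] (hsol : Group.IsSolvable G) (hO : Cfsg.oddCore G = ⊥)
    (T : Sylow 2 G) {R' : Subgroup (T : Subgroup G)} (h : DihLike (T : Subgroup G) R')
    (hne : (T : Subgroup G) ≠ ⊤)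
    (hZ : ((T : Subgroup G) ⊓ Subgroup.centralizer ((T : Subgroup G) : Set G)).Normal) :
    ∃ U : Subgroup G, U.Normal ∧ Nonempty (↥U ≃* Matrix.SpecialLinearGroup (Fin 2) (ZMod 3)) := by
  haveI : Fact (Nat.Prime 2) := ⟨Nat.prime_two⟩
  have hT2 : IsPGroup 2 (T : Subgroup G) := T.isPGroup'
  set Q : Subgroup G := Cfsg.pCore 2 G with hQ
  haveI hQn : Q.Normal := inferInstance
  have hQT : Q ≤ T := pCore_le_sylow T
  have hCQ : Subgroup.centralizer (Q : Set G) ≤ Q := H1.centralizer_pCore_le hsol 2 hO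
  set R : Subgroup G := R'.map (T : Subgroup G).subtype with hR
  have hmemR : ∀ t (ht : t ∈ (T : Subgroup G)), t ∈ R ↔ (⟨t, ht⟩ : (T : Subgroup G)) ∈ R' := by
    intro t ht
    constructor
    · rintro ⟨w, hw, hwt⟩
      have : w = ⟨t, ht⟩ := Subtype.ext hwt
      rwa [← this]
    · intro h1
      exact ⟨_, h1, rfl⟩
  have hRT : R ≤ T := Subgroup.map_subtype_le _
  haveI hRc : IsCyclic R := by
    haveI := h.cyc
    exact isCyclic_of_surjective _ (R'.equivMapOfInjective _ (T : Subgroup G).subtype_injective).surjective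
  set Z : Subgroup G := (T : Subgroup G) ⊓ Subgroup.centralizer ((T : Subgroup G) : Set G) with hZdef
  haveI := hZ
  have hZR : Z ≤ R := by
    intro z hz
    obtain ⟨hz1, hz2⟩ := Subgroup.mem_inf.1 hz
    rw [hmemR z hz1]
    by_contra hzR
    obtain ⟨c, hc, hc4, hc2⟩ := h.d4
    have h1 := h.d3 _ hzR c hc hc4
    have h2 : (⟨z, hz1⟩ : (T : Subgroup G)) * c * (⟨z, hz1⟩ : (T : Subgroup G))⁻¹ = c := by
      apply Subtype.ext
      show z * (c : G) * z⁻¹ = c
      rw [← Subgroup.mem_centralizer_iff.1 hz2 c c.2, mul_inv_cancel_right]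
    rw [h2] at h1
    apply hc2
    nth_rewrite 1 [h1]
    exact inv_mul_cancel c
  have hZ1 : Z ≠ ⊥ := by
    intro hZbot
    obtain ⟨c, hc, hc4, hc2⟩ := h.d4
    haveI : Nontrivial (T : Subgroup G) := ⟨⟨c, 1, by
      rintro rfl; exact hc2 (one_mul 1)⟩⟩
    have h1 := hT2.bot_lt_center
    apply h1.ne'
    rw [eq_bot_iff]
    intro z hz
    have : (z : G) ∈ Z := by
      refine Subgroup.mem_inf.2 ⟨z.2, ?_⟩
      rw [Subgroup.mem_centralizer_iff]
      intro t ht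
      exact congrArg Subtype.val (Subgroup.mem_center_iff.1 hz ⟨t, ht⟩)
    rw [hZbot, Subgroup.mem_bot] at this
    exact Subtype.ext this
  refine dihcore Q (isPGroup_pCore 2 G) hCQ ?_ R Z hRc (hT2.to_le hRT)
    (le_pCore hZ (hT2.to_le inf_le_left)) hZR hZ1 ?_ ?_ ?_
  · intro hG
    apply hne
    have h1 := T.3 (Q := ⊤) (hG.of_equiv Subgroup.topEquiv.symm) le_top
    exact h1.symm
  · intro t ht t' ht' h1 h2
    rw [hmemR _ (hQT ht)] at h1
    rw [hmemR _ (hQT ht')] at h2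
    rw [hmemR _ (Subgroup.mul_mem _ (Subgroup.inv_mem _ (hQT ht)) (hQT ht'))]
    exact h.d1 _ _ h1 h2
  · intro t ht h1
    rw [hmemR _ (hQT ht)] at h1
    obtain ⟨h2, h3⟩ := h.d2 _ h1
    refine ⟨congrArg Subtype.val h2, ?_⟩
    rw [hmemR _ (Subgroup.mul_mem _ (hQT ht) (hQT ht))]
    exact h3
  · intro t ht h1 c hc hc4
    rw [hmemR _ (hQT ht)] at h1
    obtain ⟨hcQ, hcR⟩ := Subgroup.mem_inf.1 hc
    rw [hmemR _ (hQT hcQ)] at hcR
    exact congrArg Subtype.val (h.d3 _ h1 _ hcR (Subtype.ext hc4))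

end Cfsg.Agent.H18
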