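import Cfsg.Agent.H18.DihInv
import Cfsg.Prelude.Def_LocalEven

/-!
# `G/O₂(G)` dihedral (helper18)
-/

set_option autoImplicit false
set_option linter.style.haveILetI false
open Cfsg
open scoped commutatorElement

namespace Cfsg.Agent.H18

universe u

variable {G : Type u} [Group G] [Finite G] {r : ℕ} [hrp : Fact r.Prime]

theorem dih_orderOf_two_eq_sr {r : ℕ} [hrp : Fact r.Prime] (hr : r ≠ 2) {g : DihedralGroup r} (hg : g * g = 1) (h1 : g ≠ 1) :
    ∃ i, g = DihedralGroup.sr i := by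
  rcases g with i | i
  · exfalso
    apply h1
    rw [DihedralGroup.r_mul_r, DihedralGroup.one_def, DihedralGroup.r.injEq] at hg
    have h2 : (2 : ZMod r) * i = 0 := by rw [two_mul]; exact hg
    haveI : Fact (r.Prime) := hrp
    rcases mul_eq_zero.1 h2 with h3 | h3
    · exfalso
      have h4 : ((2 : ℕ) : ZMod r) = 0 := by exact_mod_cast h3
      rw [ZMod.natCast_eq_zero_iff] at h4
      exact hr ((Nat.prime_dvd_prime_iff_eq hrp.out Nat.prime_two).1 h4)
    · rw [h3]; rfl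
  · exact ⟨i, rfl⟩

section core

variable (hr : r ≠ 2) (f : G →* DihedralGroup r) (hf : Function.Surjective f) (hO : IsPGroup 2 f.ker)
    (R : Sylow r G) (hC : f.ker ⊓ Subgroup.centralizer ((R : Subgroup G) : Set G) = ⊥)

include hr hO hC in
theorem dq_norm_inf_ker : Subgroup.normalizer ((R : Subgroup G) : Set G) ⊓ f.ker = ⊥ := by
  haveI : Fact (Nat.Prime 2) := ⟨Nat.prime_two⟩
  rw [eq_bot_iff, ← hC]
  intro x hx
  obtain ⟨hx1, hx2⟩ := Subgroup.mem_inf.1 hx
  refine Subgroup.mem_inf.2 ⟨hx2, ?_⟩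
  rw [Subgroup.mem_centralizer_iff]
  intro g hg
  have hdis : (R : Subgroup G) ⊓ f.ker = ⊥ :=
    (IsPGroup.disjoint_of_ne r 2 hr _ _ R.isPGroup' hO).eq_bot
  have h1 : x * g * x⁻¹ * g⁻¹ ∈ (R : Subgroup G) ⊓ f.ker := by
    refine ⟨Subgroup.mul_mem _ ((Subgroup.mem_normalizer_iff.1 hx1 g).1 hg) (Subgroup.inv_mem _ hg), ?_⟩
    have h2 : g * x⁻¹ * g⁻¹ ∈ f.ker := f.normal_ker.conj_mem _ (Subgroup.inv_mem _ hx2) g
    have := Subgroup.mul_mem _ hx2 h2
    simpa [mul_assoc] using this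
  rw [hdis, Subgroup.mem_bot, mul_inv_eq_one, mul_inv_eq_iff_eq_mul] at h1
  exact h1.symm

include hr hf in
theorem dq_map_R : (R : Subgroup G).map f = Rot r := by
  have hle : (R : Subgroup G).map f ≤ Rot r := by
    rintro _ ⟨g, hg, rfl⟩
    rw [mem_Rot]
    obtain ⟨k, hk⟩ := R.isPGroup' ⟨g, hg⟩
    have h1 : g ^ r ^ k = 1 := congrArg Subtype.val hk
    have h2 : (f g) ^ r ^ k = 1 := by rw [← map_pow, h1, map_one]
    rcases h : f g with i | i
    · exact ⟨i, rfl⟩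
    · exfalso
      rw [h, sr_pow_odd i (Odd.pow (hrp.out.odd_of_ne_two hr))] at h2
      cases h2
  have h2 : ((R.mapSurjective hf : Sylow r (DihedralGroup r)) : Subgroup (DihedralGroup r)) =
      (R : Subgroup G).map f := Sylow.coe_mapSurjective _ _
  have h3 : Nat.card ((R : Subgroup G).map f) ∣ r := by
    have := Subgroup.card_dvd_of_le hle
    rwa [card_Rot] at this
  rcases (Nat.dvd_prime hrp.out).1 h3 with h4 | h4
  · exfalso
    have h5 := (R.mapSurjective hf).card_eq_multiplicity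
    rw [h2, h4, DihedralGroup.nat_card] at h5
    have h6 : r ∣ r ^ (2 * r).factorization r := by
      refine dvd_pow_self r ?_
      rw [Ne, Nat.factorization_eq_zero_iff]
      push Not
      exact ⟨hrp.out, dvd_mul_left _ _, mul_ne_zero two_ne_zero hrp.out.ne_zero⟩
    rw [← h5] at h6
    exact hrp.out.one_lt.ne' (Nat.dvd_one.1 h6)
  · exact Subgroup.eq_of_le_of_card_ge hle (by rw [h4, card_Rot])

include hr hf in
theorem dq_map_norm : (Subgroup.normalizer ((R : Subgroup G) : Set G)).map f = ⊤ := by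
  set C : Subgroup G := (Rot r).comap f with hCdef
  haveI : C.Normal := (Rot_normal r).comap f
  have hRC : (R : Subgroup G) ≤ C := by
    rw [hCdef, ← dq_map_R hr f hf R]
    exact Subgroup.le_comap_map _ _
  have h1 := H2.normalizer_inf_sup_eq_top R C
  rw [inf_eq_left.2 hRC] at h1
  rw [eq_top_iff, ← Subgroup.map_top_of_surjective f hf, ← h1, Subgroup.map_sup]
  refine sup_le le_rfl ?_
  refine (Subgroup.map_comap_le _ _).trans ?_
  rw [← dq_map_R hr f hf R]
  exact Subgroup.map_mono Subgroup.le_normalizer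

include hr hf hO hC in
theorem dq_norm_equiv : ∃ e : (Subgroup.normalizer ((R : Subgroup G) : Set G)) ≃* DihedralGroup r,
    ∀ n, e n = f n := by
  set N := Subgroup.normalizer ((R : Subgroup G) : Set G) with hN
  refine ⟨MulEquiv.ofBijective (f.comp N.subtype) ⟨?_, ?_⟩, fun n => rfl⟩
  · rw [← MonoidHom.ker_eq_bot_iff, eq_bot_iff]
    intro n hn
    have : (n : G) ∈ N ⊓ f.ker := ⟨n.2, hn⟩
    rw [dq_norm_inf_ker hr f hO R hC, Subgroup.mem_bot] at this
    exact Subtype.ext this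
  · intro d
    have : d ∈ N.map f := by rw [dq_map_norm hr f hf R]; exact Subgroup.mem_top _
    obtain ⟨n, hn, rfl⟩ := this
    exact ⟨⟨n, hn⟩, rfl⟩

include hr hf hO hC in
theorem dq_main (a : G) (haN : a ∈ Subgroup.normalizer ((R : Subgroup G) : Set G)) (ha : orderOf a = 2) :
    (∀ b : G, orderOf b = 2 → b ∉ f.ker → ∃ g : G, g * a * g⁻¹ = b) ∧
    Nat.card ↥(f.ker ⊓ Subgroup.centralizer ({a} : Set G)) ^ 2 = Nat.card f.ker := by
  set N := Subgroup.normalizer ((R : Subgroup G) : Set G) with hN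
  obtain ⟨e, he⟩ : ∃ e : N ≃* DihedralGroup r, ∀ n, e n = f n := dq_norm_equiv hr f hf hO R hC
  set O : Subgroup G := f.ker with hOdef
  haveI hOn : O.Normal := f.normal_ker
  have hNO := dq_norm_inf_ker hr f hO R hC
  have ha1 : a ≠ 1 := by rintro rfl; rw [orderOf_one] at ha; norm_num at ha
  have haa : a * a = 1 := by rw [← pow_two, ← ha, pow_orderOf_eq_one]
  have hinj : ∀ x ∈ N, f x = 1 → x = 1 := by
    intro x hx h
    have : x ∈ N ⊓ O := ⟨hx, h⟩
    rw [hNO, Subgroup.mem_bot] at this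
    exact this
  obtain ⟨i, hi⟩ := dih_orderOf_two_eq_sr hr (g := f a) (by rw [← map_mul, haa, map_one])
    (fun h => ha1 (hinj a haN h))
  -- the second involution
  obtain ⟨⟨a', ha'N⟩, ha'⟩ := e.surjective (DihedralGroup.sr (i + 1))
  rw [he] at ha'
  have ha' : f a' = DihedralGroup.sr (i + 1) := ha'
  have haa' : a' * a' = 1 := by
    apply hinj _ (Subgroup.mul_mem _ ha'N ha'N)
    rw [map_mul, ha', DihedralGroup.sr_mul_self]
  set ρ := a * a' with hρ
  have hρN : ρ ∈ N := Subgroup.mul_mem _ haN ha'N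
  have hfρ : f ρ = DihedralGroup.r 1 := by
    rw [hρ, map_mul, hi, ha', DihedralGroup.sr_mul_sr]; congr 1; ring
  have ainv : a⁻¹ = a := inv_eq_of_mul_eq_one_left haa
  have a'inv : a'⁻¹ = a' := inv_eq_of_mul_eq_one_left haa'
  have haρ : a * ρ * a⁻¹ = ρ⁻¹ := by
    rw [hρ, mul_inv_rev, a'inv, ainv, ← mul_assoc, haa, one_mul]
  -- centralizer of `ρ`
  have hRρ : (R : Subgroup G) ≤ Subgroup.zpowers ρ := by
    intro g hg
    have h1 : f g ∈ Rot r := by
      rw [← dq_map_R hr f hf R]; exact ⟨g, hg, rfl⟩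
    obtain ⟨k, hk⟩ := h1
    refine ⟨k, ?_⟩
    have h2 : ρ ^ k * g⁻¹ = 1 := by
      apply hinj
      · exact Subgroup.mul_mem _ (Subgroup.zpow_mem _ hρN k) (Subgroup.inv_mem _ (Subgroup.le_normalizer hg))
      · rw [map_mul, map_zpow, hfρ, map_inv, mul_inv_eq_one]
        exact hk
    exact mul_inv_eq_one.1 h2
  have hCρ : ∀ u ∈ O, u * ρ * u⁻¹ = ρ → u = 1 := by
    intro u hu h
    have : u ∈ O ⊓ Subgroup.centralizer ((R : Subgroup G) : Set G) := by
      refine Subgroup.mem_inf.2 ⟨hu, ?_⟩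
      rw [Subgroup.mem_centralizer_iff]
      intro g hg
      obtain ⟨k, rfl⟩ := hRρ hg
      have h1 : Commute u ρ := mul_inv_eq_iff_eq_mul.1 h
      exact (h1.zpow_right k).eq.symm
    rw [hC, Subgroup.mem_bot] at this
    exact this
  -- all elements of `ρO` are conjugate to `ρ`
  have hconj : ∀ x : G, f x = f ρ → ∃ w ∈ O, w * ρ * w⁻¹ = x := by
    have hmem : ∀ u : O, ρ⁻¹ * ((u : G) * ρ * (u : G)⁻¹) ∈ O := by
      intro u
      show f (ρ⁻¹ * ((u : G) * ρ * (u : G)⁻¹)) = 1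
      rw [map_mul, map_mul, map_mul, map_inv, map_inv]
      have : f u = 1 := u.2
      rw [this]; group
    let Φ : O → O := fun u => ⟨ρ⁻¹ * ((u : G) * ρ * (u : G)⁻¹), hmem u⟩
    have hΦ : Function.Injective Φ := by
      intro u v huv
      have h1 : ρ⁻¹ * ((u : G) * ρ * (u : G)⁻¹) = ρ⁻¹ * ((v : G) * ρ * (v : G)⁻¹) := congrArg Subtype.val huv
      have h2 := mul_left_cancel h1
      have h3 := hCρ ((v : G)⁻¹ * u) (Subgroup.mul_mem _ (Subgroup.inv_mem _ v.2) u.2) (by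
        calc (v : G)⁻¹ * u * ρ * ((v : G)⁻¹ * u)⁻¹ = (v : G)⁻¹ * (u * ρ * (u : G)⁻¹) * v := by group
          _ = (v : G)⁻¹ * (v * ρ * (v : G)⁻¹) * v := by rw [h2]
          _ = ρ := by group)
      exact Subtype.ext (inv_mul_eq_one.1 h3).symm
    have hΦs := Finite.surjective_of_injective hΦ
    intro x hx
    have hx' : ρ⁻¹ * x ∈ O := by
      rw [hOdef, MonoidHom.mem_ker, map_mul, map_inv, hx, inv_mul_cancel]
    obtain ⟨w, hw⟩ := hΦs ⟨_, hx'⟩
    refine ⟨w, w.2, ?_⟩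
    exact mul_left_cancel (congrArg Subtype.val hw)
  -- Lemma A
  have hA : ∀ b b' : G, b * b = 1 → b' * b' = 1 → f b = f a → f b' = f a' →
      ∃ w ∈ O, w * a * w⁻¹ = b ∧ w * a' * w⁻¹ = b' := by
    intro b b' hb hb' hfb hfb'
    obtain ⟨w, hw, hwx⟩ := hconj (b * b') (by rw [map_mul, hfb, hfb', hρ, map_mul])
    have binv : b⁻¹ = b := inv_eq_of_mul_eq_one_left hb
    have b'inv : b'⁻¹ = b' := inv_eq_of_mul_eq_one_left hb'
    have hfw : f w = 1 := hw
    -- `c = w⁻¹ b w a`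
    have hc : w⁻¹ * b * w * a = 1 := by
      apply hCρ
      · rw [hOdef, MonoidHom.mem_ker, map_mul, map_mul, map_mul, map_inv, hfw, hfb]
        rw [inv_one, one_mul, mul_one, ← map_mul, haa, map_one]
      · have h1 : a * ρ * a⁻¹ = ρ⁻¹ := haρ
        have h2 : w * ρ⁻¹ * w⁻¹ = b' * b := by
          calc w * ρ⁻¹ * w⁻¹ = (w * ρ * w⁻¹)⁻¹ := by group
            _ = b' * b := by rw [hwx, mul_inv_rev, binv, b'inv]
        calc w⁻¹ * b * w * a * ρ * (w⁻¹ * b * w * a)⁻¹ = w⁻¹ * (b * (w * (a * ρ * a⁻¹) * w⁻¹) * b⁻¹) * w := by group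
          _ = w⁻¹ * (b * (b' * b) * b⁻¹) * w := by rw [h1, h2]
          _ = w⁻¹ * (b * b') * w := by group
          _ = ρ := by rw [← hwx]; group
    have h3 : w * a * w⁻¹ = b := by
      have : w⁻¹ * b * w = a := by
        calc w⁻¹ * b * w = w⁻¹ * b * w * a * a⁻¹ := by group
          _ = a := by rw [hc, one_mul, ainv]
      rw [← this]; group
    refine ⟨w, hw, h3, ?_⟩
    calc w * a' * w⁻¹ = (w * a * w⁻¹)⁻¹ * (w * ρ * w⁻¹) := by rw [hρ]; group
      _ = b⁻¹ * (b * b') := by rw [h3, hwx]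
      _ = b' := by group
  have hconjinv : ∀ b : G, b * b = 1 → f b ≠ 1 → ∃ g : G, g * a * g⁻¹ = b := by
    intro b hbb hb
    obtain ⟨j, hj⟩ := dih_orderOf_two_eq_sr hr (g := f b) (by rw [← map_mul, hbb, map_one]) hb
    -- conjugate into `f a`
    obtain ⟨k, hk⟩ : ∃ k : ZMod r, k + k = i - j := by
      have h2 : (2 : ZMod r) ≠ 0 := by
        intro h3
        have h4 : ((2 : ℕ) : ZMod r) = 0 := by exact_mod_cast h3
        rw [ZMod.natCast_eq_zero_iff] at h4
        exact hr ((Nat.prime_dvd_prime_iff_eq hrp.out Nat.prime_two).1 h4)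
      refine ⟨(i - j) / 2, ?_⟩
      field_simp
      ring
    obtain ⟨g, hg⟩ := hf (DihedralGroup.r (-k))
    have h1 : f (g * b * g⁻¹) = f a := by
      rw [map_mul, map_mul, map_inv, hg, hj, hi, DihedralGroup.inv_r, DihedralGroup.r_mul_sr,
        DihedralGroup.sr_mul_r]
      congr 1
      have : i = j + (k + k) := by rw [hk]; ring
      rw [this]; ring
    obtain ⟨w, -, hw, -⟩ := hA (g * b * g⁻¹) a' (by
      calc g * b * g⁻¹ * (g * b * g⁻¹) = g * (b * b) * g⁻¹ := by group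
        _ = 1 := by rw [hbb]; group) haa' h1 rfl
    refine ⟨g⁻¹ * w, ?_⟩
    calc g⁻¹ * w * a * (g⁻¹ * w)⁻¹ = g⁻¹ * (w * a * w⁻¹) * g := by group
      _ = b := by rw [hw]; group
  refine ⟨fun b hb hbO => hconjinv b (by rw [← pow_two, ← hb, pow_orderOf_eq_one]) hbO, ?_⟩
  -- counting
  have hmemC : ∀ (c x : G), x ∈ O ⊓ Subgroup.centralizer ({c} : Set G) ↔ x ∈ O ∧ x * c * x⁻¹ = c := by
    intro c x
    rw [Subgroup.mem_inf, Subgroup.mem_centralizer_singleton_iff, mul_inv_eq_iff_eq_mul]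
  have hcard1 : Nat.card ↥(O ⊓ Subgroup.centralizer ({a'} : Set G)) =
      Nat.card ↥(O ⊓ Subgroup.centralizer ({a} : Set G)) := by
    obtain ⟨g, hg⟩ := hconjinv a' haa' (by rw [ha']; intro h; cases h)
    have h1 : O ⊓ Subgroup.centralizer ({a'} : Set G) =
        (O ⊓ Subgroup.centralizer ({a} : Set G)).map (MulAut.conj g).toMonoidHom := by
      ext x
      rw [Subgroup.mem_map]
      constructor
      · intro hx
        obtain ⟨hx1, hx2⟩ := (hmemC _ _).1 hx
        refine ⟨g⁻¹ * x * g, (hmemC _ _).2 ⟨?_, ?_⟩, ?_⟩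
        · have := hOn.conj_mem x hx1 g⁻¹
          rwa [inv_inv] at this
        · calc g⁻¹ * x * g * a * (g⁻¹ * x * g)⁻¹ = g⁻¹ * (x * (g * a * g⁻¹) * x⁻¹) * g := by group
            _ = g⁻¹ * (g * a * g⁻¹) * g := by rw [hg, hx2]
            _ = a := by group
        · show g * (g⁻¹ * x * g) * g⁻¹ = x
          group
      · rintro ⟨y, hy, rfl⟩
        obtain ⟨hy1, hy2⟩ := (hmemC _ _).1 hy
        refine (hmemC _ _).2 ⟨hOn.conj_mem y hy1 g, ?_⟩
        show g * y * g⁻¹ * a' * (g * y * g⁻¹)⁻¹ = a'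
        rw [← hg]
        calc g * y * g⁻¹ * (g * a * g⁻¹) * (g * y * g⁻¹)⁻¹ = g * (y * a * y⁻¹) * g⁻¹ := by group
          _ = g * a * g⁻¹ := by rw [hy2]
    rw [h1]
    exact (Nat.card_congr ((O ⊓ Subgroup.centralizer ({a} : Set G)).equivMapOfInjective _
      (MulAut.conj g).injective).toEquiv).symm
  let Ψ : O × (↥(O ⊓ Subgroup.centralizer ({a} : Set G)) × ↥(O ⊓ Subgroup.centralizer ({a'} : Set G))) →
      O × O := fun t => (⟨(t.1 : G) * (t.2.1 : G), Subgroup.mul_mem _ t.1.2 t.2.1.2.1⟩,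
        ⟨(t.1 : G) * (t.2.2 : G), Subgroup.mul_mem _ t.1.2 t.2.2.2.1⟩)
  have hΨ : Function.Bijective Ψ := by
    constructor
    · rintro ⟨w, c, d⟩ ⟨w1, c1, d1⟩ h
      rw [Prod.mk.injEq] at h
      obtain ⟨h1, h2⟩ := h
      have h1 : (w : G) * c = w1 * c1 := congrArg Subtype.val h1
      have h2 : (w : G) * d = w1 * d1 := congrArg Subtype.val h2
      obtain ⟨-, hc⟩ := (hmemC _ _).1 c.2
      obtain ⟨-, hc1⟩ := (hmemC _ _).1 c1.2
      obtain ⟨-, hd⟩ := (hmemC _ _).1 d.2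
      obtain ⟨-, hd1⟩ := (hmemC _ _).1 d1.2
      set v : G := (w : G)⁻¹ * w1 with hv
      have hv1 : v = c * (c1 : G)⁻¹ := by
        rw [hv, eq_mul_inv_iff_mul_eq, mul_assoc, ← h1, inv_mul_cancel_left]
      have hv2 : v = d * (d1 : G)⁻¹ := by
        rw [hv, eq_mul_inv_iff_mul_eq, mul_assoc, ← h2, inv_mul_cancel_left]
      have hva : v * a * v⁻¹ = a := by
        have h3 : v ∈ O ⊓ Subgroup.centralizer ({a} : Set G) := by
          rw [hv1]; exact Subgroup.mul_mem _ c.2 (Subgroup.inv_mem _ c1.2)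
        exact ((hmemC _ _).1 h3).2
      have hva' : v * a' * v⁻¹ = a' := by
        have h3 : v ∈ O ⊓ Subgroup.centralizer ({a'} : Set G) := by
          rw [hv2]; exact Subgroup.mul_mem _ d.2 (Subgroup.inv_mem _ d1.2)
        exact ((hmemC _ _).1 h3).2
      have hv3 : v = 1 := by
        apply hCρ v (Subgroup.mul_mem _ (Subgroup.inv_mem _ w.2) w1.2)
        calc v * ρ * v⁻¹ = (v * a * v⁻¹) * (v * a' * v⁻¹) := by rw [hρ]; group
          _ = ρ := by rw [hva, hva']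
      have hw : w = w1 := Subtype.ext (inv_mul_eq_one.1 hv3)
      rw [hv3] at hv1 hv2
      have hc' : c = c1 := Subtype.ext (mul_inv_eq_one.1 hv1.symm)
      have hd' : d = d1 := Subtype.ext (mul_inv_eq_one.1 hv2.symm)
      rw [hw, hc', hd']
    · rintro ⟨u, v⟩
      have hfu : f (u : G) = 1 := u.2
      have hfv : f (v : G) = 1 := v.2
      obtain ⟨w, hw, hw1, hw2⟩ := hA ((u : G) * a * (u : G)⁻¹) ((v : G) * a' * (v : G)⁻¹)
        (by
          calc (u : G) * a * (u : G)⁻¹ * ((u : G) * a * (u : G)⁻¹) = u * (a * a) * (u : G)⁻¹ := by group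
            _ = 1 := by rw [haa]; group)
        (by
          calc (v : G) * a' * (v : G)⁻¹ * ((v : G) * a' * (v : G)⁻¹) = v * (a' * a') * (v : G)⁻¹ := by group
            _ = 1 := by rw [haa']; group)
        (by rw [map_mul, map_mul, map_inv, hfu]; group)
        (by rw [map_mul, map_mul, map_inv, hfv]; group)
      refine ⟨(⟨w, hw⟩, ⟨w⁻¹ * u, (hmemC _ _).2 ⟨Subgroup.mul_mem _ (Subgroup.inv_mem _ hw) u.2, ?_⟩⟩,
        ⟨w⁻¹ * v, (hmemC _ _).2 ⟨Subgroup.mul_mem _ (Subgroup.inv_mem _ hw) v.2, ?_⟩⟩), ?_⟩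
      · calc w⁻¹ * u * a * (w⁻¹ * u)⁻¹ = w⁻¹ * (u * a * (u : G)⁻¹) * w := by group
          _ = w⁻¹ * (w * a * w⁻¹) * w := by rw [hw1]
          _ = a := by group
      · calc w⁻¹ * v * a' * (w⁻¹ * v)⁻¹ = w⁻¹ * (v * a' * (v : G)⁻¹) * w := by group
          _ = w⁻¹ * (w * a' * w⁻¹) * w := by rw [hw2]
          _ = a' := by group
      · rw [Prod.mk.injEq]
        refine ⟨Subtype.ext ?_, Subtype.ext ?_⟩
        · show w * (w⁻¹ * u) = u
          group
        · show w * (w⁻¹ * v) = v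
          group
  have hcard := Nat.card_congr (Equiv.ofBijective Ψ hΨ)
  rw [Nat.card_prod, Nat.card_prod, Nat.card_prod, hcard1] at hcard
  have hpos : 0 < Nat.card O := Nat.card_pos
  rw [pow_two]
  exact Nat.eq_of_mul_eq_mul_left hpos hcard

end core

end Cfsg.Agent.H18
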