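import Mathlib
import Cfsg.Prelude
import Cfsg.Agent.H23.RankOne2
import Cfsg.Agent.H23.CycSelf2
import Cfsg.Agent.H23.ActLem
import Cfsg.Agent.H23.Coprime3
import Cfsg.Agent.H23.PGroup4

/-!
# 2-groups without noncyclic abelian subgroups of order 8 (helper18, for S4409)
-/

set_option autoImplicit false
set_option linter.all false

namespace Cfsg.Agent.H18.E8

open Subgroup

/-- abelian DQS is impossible -/
theorem DQS_not_comm {G : Type*} [Group G] {n : ℕ} (h : H23.DQS G n) (hc : ∀ a b : G, a * b = b * a) : False := by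
  obtain ⟨hn, u, x, hu, hi, hx, h⟩ := h
  have hconj : x * u * x⁻¹ = u := by rw [hc x u, mul_inv_cancel_right]
  rw [hconj] at h
  have h4 : ∀ k : ℕ, u ^ k = 1 → 2 ^ (n + 1) ∣ k := fun k hk => by
    rw [← hu]; exact orderOf_dvd_of_pow_eq_one hk
  have hle : 2 ^ 2 ≤ 2 ^ (n + 1) := Nat.pow_le_pow_right (by norm_num) (by omega)
  rcases h with h | h | h
  · have h1 : u ^ 2 = 1 := by
      rw [pow_two]
      nth_rewrite 2 [h.1]
      exact mul_inv_cancel u
    have := Nat.le_of_dvd (by norm_num) (h4 2 h1)
    omega
  · have h1 : u ^ 2 = 1 := by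
      rw [pow_two]
      nth_rewrite 2 [h.1]
      exact mul_inv_cancel u
    have := Nat.le_of_dvd (by norm_num) (h4 2 h1)
    omega
  · obtain ⟨hn2, h1, -⟩ := h
    have h5 : 2 ^ 2 ≤ 2 ^ n := Nat.pow_le_pow_right (by norm_num) hn2
    have h2 : u ^ (2 ^ n - 2) = 1 := by
      have h3 : u ^ (2 ^ n - 1) = u ^ (2 ^ n - 2) * u := by
        rw [← pow_succ]; congr 1; omega
      rw [h3] at h1
      exact (mul_eq_right.1 h1.symm)
    have h3 := Nat.le_of_dvd (by omega) (h4 _ h2)
    have h6 : 2 ^ (n + 1) = 2 * 2 ^ n := pow_succ' _ _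
    omega

theorem exists_eight {B : Type*} [Group B] [Finite B] (hB : IsPGroup 2 B) (hcomm : ∀ a b : B, a * b = b * a)
    (hnc : ¬ IsCyclic B) (h8 : 4 < Nat.card B) :
    ∃ A : Subgroup B, Nat.card A = 8 ∧ ¬ IsCyclic A := by
  have hE : ∃ E : Subgroup B, E.Normal ∧ Nat.card E = 2 ^ 2 ∧ ∀ a ∈ E, a ^ 2 = 1 := by
    by_contra hcon
    push Not at hcon
    rcases H23.cyclic_or_dqs hB (fun E hE hc => by
      intro h
      obtain ⟨a, ha, ha2⟩ := hcon E hE hc
      exact ha2 (h a ha)) with h | ⟨-, n, h⟩
    · exact hnc h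
    · exact DQS_not_comm h hcomm
  obtain ⟨E, hEn, hE4, hE2⟩ := hE
  obtain ⟨k, hk⟩ := IsPGroup.iff_card.1 hB
  have hk3 : 3 ≤ k := by
    by_contra h
    have : 2 ^ k ≤ 2 ^ 2 := Nat.pow_le_pow_right (by norm_num) (by omega)
    rw [hk] at h8
    omega
  obtain ⟨A, hA, hEA⟩ := Sylow.exists_subgroup_card_pow_prime_le 2 (n := 2) (m := 3)
    (by rw [hk]; exact pow_dvd_pow 2 hk3) E hE4 (by norm_num)
  refine ⟨A, hA, ?_⟩
  intro hcyc
  have h1 : IsCyclic E := isCyclic_of_injective (Subgroup.inclusion hEA) (Subgroup.inclusion_injective hEA)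
  exact H23.not_isCyclic_of_exponent (p := 2) (by rw [hE4]; norm_num) hE2 h1

/-- classification -/
theorem classL {R : Type*} [Group R] [Finite R] (hR : IsPGroup 2 R)
    (hL : ∀ A : Subgroup R, (∀ a ∈ A, ∀ b ∈ A, a * b = b * a) → Nat.card A = 8 → IsCyclic A) :
    IsCyclic R ∨ (Nat.card R = 4 ∧ ∀ a : R, a ^ 2 = 1) ∨ ∃ n, H23.DQS R n := by
  by_cases hE : ∃ E : Subgroup R, E.Normal ∧ Nat.card E = 2 ^ 2 ∧ ∀ a ∈ E, a ^ 2 = 1
  · obtain ⟨E, hEn, hE4, hE2⟩ := hE
    haveI := hEn
    have hEc := H23.comm_of_card_sq hE4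
    -- `E` is self-centralizing
    have hC : centralizer (E : Set R) ≤ E := by
      intro c hc
      by_contra hcE
      obtain ⟨j, h1, h2⟩ := H23.exists_pow_notMem_mem hR hcE
      set y := c ^ 2 ^ j with hy
      have hyc : y ∈ centralizer (E : Set R) := pow_mem hc _
      have hEab : IsMulCommutative E := ⟨⟨fun a b => Subtype.ext (hEc a a.2 b b.2)⟩⟩
      have hcard : Nat.card (E ⊔ zpowers y : Subgroup R) = 8 := by
        rw [H23.card_sup_zpowers_of_pow_mem h1 h2, hE4]; norm_num
      have hab : ∀ a ∈ E ⊔ zpowers y, ∀ b ∈ E ⊔ zpowers y, a * b = b * a := by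
        have := H23.isMulCommutative_sup_zpowers (A := E) (x := y) hEab hyc
        intro a ha b hb
        exact congrArg Subtype.val (this.is_comm.comm ⟨a, ha⟩ ⟨b, hb⟩)
      have hcyc := hL _ hab hcard
      have h3 : IsCyclic E := isCyclic_of_injective (Subgroup.inclusion (le_sup_left : E ≤ E ⊔ zpowers y))
        (Subgroup.inclusion_injective _)
      exact H23.not_isCyclic_of_exponent (p := 2) (by rw [hE4]; norm_num) hE2 h3
    have hle := H23.card_le_of_normal_sq hR hE4 hC
    obtain ⟨k, hk⟩ := IsPGroup.iff_card.1 hR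
    have hEle : Nat.card E ≤ Nat.card R := Subgroup.card_le_card_group E
    rw [hE4, hk] at hEle
    rw [hk] at hle
    have hk2 : 2 ≤ k := (Nat.pow_le_pow_iff_right (by norm_num)).1 hEle
    have hk3 : k ≤ 3 := (Nat.pow_le_pow_iff_right (by norm_num)).1 hle
    by_cases hk' : k = 2
    · right; left
      subst hk'
      have hET : E = ⊤ := Subgroup.eq_top_of_card_eq E (by rw [hE4, hk])
      exact ⟨by rw [hk]; norm_num, fun a => hE2 a (by rw [hET]; exact mem_top a)⟩
    · have hk8 : k = 3 := by omega
      subst hk8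
      right; right
      have hnab : ¬ ∀ a b : R, a * b = b * a := by
        intro hab
        have h1 : E = ⊤ := by
          rw [eq_top_iff]
          intro x _
          apply hC
          rw [mem_centralizer_iff]
          intro y _
          exact hab y x
        rw [h1, Subgroup.card_top, hk] at hE4
        norm_num at hE4
      -- an element of order 4
      have hex : ∃ u : R, u ^ 2 ≠ 1 := by
        by_contra hcon
        push Not at hcon
        apply hnab
        intro a b
        have h1 : ∀ c : R, c⁻¹ = c := fun c => inv_eq_of_mul_eq_one_left (by rw [← pow_two]; exact hcon c)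
        have h2 := h1 (a * b)
        rw [mul_inv_rev, h1, h1] at h2
        exact h2.symm
      obtain ⟨u, hu⟩ := hex
      have hord : orderOf u = 4 := by
        have h1 : orderOf u ∣ 2 ^ 3 := by rw [← hk]; exact orderOf_dvd_natCard u
        obtain ⟨j, hj, hj2⟩ := (Nat.dvd_prime_pow Nat.prime_two).1 h1
        have h2 : ¬ j ≤ 1 := by
          intro h
          apply hu
          apply orderOf_dvd_iff_pow_eq_one.1
          rw [hj2]
          exact (pow_dvd_pow 2 h).trans (by norm_num)
        have h3 : j ≠ 3 := by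
          rintro rfl
          apply hnab
          have h4 : orderOf u = Nat.card R := by rw [hj2, hk]
          have h5 : IsCyclic R := isCyclic_of_orderOf_eq_card u h4
          letI := IsCyclic.commGroup (α := R)
          exact fun a b => mul_comm a b
        have h4 : j = 2 := by omega
        rw [hj2, h4]; norm_num
      have hi : (zpowers u).index = 2 := by
        have h1 := Subgroup.card_mul_index (zpowers u)
        rw [Nat.card_zpowers, hord, hk] at h1
        omega
      have hUn : (zpowers u).Normal := Subgroup.normal_of_index_eq_two hi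
      have hne : zpowers u ≠ ⊤ := by
        intro h; rw [h, Subgroup.index_top] at hi; norm_num at hi
      have hCU : centralizer (zpowers u : Set R) = zpowers u := by
        apply le_antisymm
        · intro c hc
          by_contra hcU
          apply hnab
          have h1 := H23.closure_pair_eq_top hi hcU
          have hcomm : ∀ g : R, g ∈ centralizer (zpowers u : Set R) → True := fun _ _ => trivial
          have hcu : c * u = u * c := (mem_centralizer_iff.1 hc u (mem_zpowers u)).symm
          have hab : IsMulCommutative (closure {u, c} : Subgroup R) := by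
            apply Subgroup.isMulCommutative_closure
            rintro x (rfl | rfl) y (rfl | rfl)
            · rfl
            · exact hcu.symm
            · exact hcu
            · rfl
          intro a b
          have ha : a ∈ (closure {u, c} : Subgroup R) := by rw [h1]; exact mem_top a
          have hb : b ∈ (closure {u, c} : Subgroup R) := by rw [h1]; exact mem_top b
          exact congrArg Subtype.val (hab.is_comm.comm ⟨a, ha⟩ ⟨b, hb⟩)
        · intro c hc
          rw [mem_centralizer_iff]
          intro d hd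
          obtain ⟨i, rfl⟩ := hc
          obtain ⟨j, rfl⟩ := hd
          show u ^ j * u ^ i = u ^ i * u ^ j
          rw [← zpow_add, ← zpow_add, add_comm]
      rcases H23.cyclic_selfcentralizing hR (u := u) (n := 2) (by rw [hord]; norm_num) hUn hCU hne with
        ⟨-, m, -, h⟩ | ⟨m, hm, -, h | h, -⟩
      · exact ⟨m, h⟩
      · exact absurd rfl h
      · omega
  · push Not at hE
    rcases H23.cyclic_or_dqs hR (fun E hE' hc => by
      intro h
      obtain ⟨a, ha, ha2⟩ := hE E hE' hc
      exact ha2 (h a ha)) with h | ⟨-, n, h⟩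
    · exact Or.inl h
    · exact Or.inr (Or.inr ⟨n, h⟩)

end Cfsg.Agent.H18.E8
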