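import Mathlib
import Cfsg.Prelude
import Cfsg.Agent.H18.E8a

set_option autoImplicit false
set_option linter.all false

namespace Cfsg.Agent.H18.E8

open Subgroup
open scoped commutatorElement

variable {S : Type*} [Group S] [Finite S]

def NoE (R : Subgroup S) : Prop :=
  ¬ ∃ A : Subgroup S, A ≤ R ∧ IsMulCommutative ↥A ∧ ¬ IsCyclic ↥A ∧ Nat.card ↥A = 8

theorem NoE.mono {R R' : Subgroup S} (h : NoE R) (hle : R' ≤ R) : NoE R' := by
  rintro ⟨A, hA, h1⟩
  exact h ⟨A, hA.trans hle, h1⟩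

theorem isMulComm_map {R : Subgroup S} {A : Subgroup R} (h : ∀ a ∈ A, ∀ b ∈ A, a * b = b * a) :
    IsMulCommutative ↥(A.map R.subtype) := by
  refine ⟨⟨?_⟩⟩
  rintro ⟨_, ⟨a, ha, rfl⟩⟩ ⟨_, ⟨b, hb, rfl⟩⟩
  apply Subtype.ext
  have h1 : ((a * b : R) : S) = ((b * a : R) : S) := congrArg Subtype.val (h a ha b hb)
  exact h1

theorem isCyclic_map {R : Subgroup S} {A : Subgroup R} : IsCyclic ↥(A.map R.subtype) ↔ IsCyclic A := by
  constructor
  · intro h
    exact isCyclic_of_injective (A.equivMapOfInjective R.subtype R.subtype_injective).toMonoidHom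
      (A.equivMapOfInjective R.subtype R.subtype_injective).injective
  · intro h
    exact isCyclic_of_surjective (A.equivMapOfInjective R.subtype R.subtype_injective).toMonoidHom
      (A.equivMapOfInjective R.subtype R.subtype_injective).surjective

theorem card_map' {R : Subgroup S} (A : Subgroup R) : Nat.card ↥(A.map R.subtype) = Nat.card A :=
  Nat.card_congr (A.equivMapOfInjective R.subtype R.subtype_injective).symm.toEquiv

theorem NoE.card_le {R B : Subgroup S} (hR : NoE R) (hB : IsPGroup 2 B) (hBR : B ≤ R)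
    (hcomm : ∀ a ∈ B, ∀ b ∈ B, a * b = b * a) (hnc : ¬ IsCyclic B) : Nat.card B ≤ 4 := by
  by_contra h
  push Not at h
  have hc : ∀ a b : B, a * b = b * a := fun a b => Subtype.ext (hcomm a a.2 b b.2)
  obtain ⟨A, hA, hAc⟩ := exists_eight hB hc hnc h
  apply hR
  refine ⟨A.map B.subtype, (map_subtype_le _).trans hBR, isMulComm_map (fun a _ b _ => hc a b), ?_, ?_⟩
  · rw [isCyclic_map]; exact hAc
  · rw [card_map', hA]

theorem NoE.classif {R : Subgroup S} (hR : NoE R) (hRp : IsPGroup 2 R) :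
    IsCyclic R ∨ (Nat.card R = 4 ∧ ∀ a ∈ R, a ^ 2 = 1) ∨ ∃ n, H23.DQS R n := by
  rcases classL hRp (fun A hA hA8 => by
    by_contra hc
    apply hR
    exact ⟨A.map R.subtype, map_subtype_le _, isMulComm_map hA, by rw [isCyclic_map]; exact hc,
      by rw [card_map', hA8]⟩) with h | h | h
  · exact Or.inl h
  · refine Or.inr (Or.inl ⟨h.1, fun a ha => ?_⟩)
    exact congrArg Subtype.val (h.2 ⟨a, ha⟩)
  · exact Or.inr (Or.inr h)

theorem coprime_of {K R : Subgroup S} (hK : (Nat.card K).Coprime 2) (hR : IsPGroup 2 R) :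
    (Nat.card K).Coprime (Nat.card R) := by
  obtain ⟨k, hk⟩ := IsPGroup.iff_card.1 hR
  rw [hk]
  exact Nat.Coprime.pow_right k hK

theorem cyc_cent {U K : Subgroup S} (hUc : IsCyclic U) (hU : IsPGroup 2 U)
    (hKU : K ≤ normalizer (U : Set S)) (hK : (Nat.card K).Coprime 2) : U ≤ centralizer (K : Set S) := by
  intro u hu
  rw [mem_centralizer_iff]
  intro k hk
  have h1 : (orderOf k).Coprime 2 := by
    have := orderOf_dvd_natCard (⟨k, hk⟩ : K)
    rw [Subgroup.orderOf_mk] at this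
    exact Nat.Coprime.coprime_dvd_left this hK
  exact H23.commute_of_cyclic_two hUc hU (hKU hk) h1 u hu

theorem cent_of_index_two {U R K : Subgroup S} (hUR : U ≤ R) (hUc : IsCyclic U) (hR : IsPGroup 2 R)
    (hi : U.relIndex R = 2) (hKR : K ≤ normalizer (R : Set S)) (hKU : K ≤ normalizer (U : Set S))
    (hK : (Nat.card K).Coprime 2) : R ≤ centralizer (K : Set S) := by
  refine H23.le_centralizer_of_commutator_le hKR (coprime_of hK hR) (N := U) ?_
    (cyc_cent hUc (hR.to_le hUR) hKU hK)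
  rw [Subgroup.commutator_le]
  intro r hr k hk
  have hmem : k * r⁻¹ * k⁻¹ ∈ R := (mem_normalizer_iff.1 (hKR hk) r⁻¹).1 (inv_mem hr)
  have h1 := Subgroup.mul_mem_iff_of_index_two (H := U.subgroupOf R) hi (a := ⟨r, hr⟩)
    (b := ⟨k * r⁻¹ * k⁻¹, hmem⟩)
  have h2 : r * (k * r⁻¹ * k⁻¹) ∈ U ↔ (r ∈ U ↔ k * r⁻¹ * k⁻¹ ∈ U) := h1
  have h3 : ⁅r, k⁆ = r * (k * r⁻¹ * k⁻¹) := by rw [commutatorElement_def]; group
  rw [h3, h2, ← mem_normalizer_iff.1 (hKU hk) r⁻¹, inv_mem_iff]

/-- quaternion structure -/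
def Q8 (R : Subgroup S) (u x : S) : Prop :=
  u ∈ R ∧ x ∈ R ∧ orderOf u = 4 ∧ (zpowers u).relIndex R = 2 ∧ x ∉ zpowers u ∧
    x * u * x⁻¹ = u⁻¹ ∧ x * x = u ^ 2

theorem lemmaQ {R K : Subgroup S} (hR : NoE R) (hRp : IsPGroup 2 R) (hK : (Nat.card K).Coprime 2)
    (hKR : K ≤ normalizer (R : Set S)) (hnc : ¬ R ≤ centralizer (K : Set S)) :
    (Nat.card R = 4 ∧ ∀ a ∈ R, a ^ 2 = 1) ∨ ∃ u x, Q8 R u x := by
  rcases hR.classif hRp with h | h | ⟨n, hn1, ⟨u, huR⟩, ⟨x, hxR⟩, hu, hi, hx, h⟩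
  · exact absurd (cyc_cent h hRp hKR hK) hnc
  · exact Or.inl h
  · right
    rw [Subgroup.orderOf_mk] at hu
    have hzu : (zpowers (⟨u, huR⟩ : R)).map R.subtype = zpowers u := by
      rw [MonoidHom.map_zpowers]; rfl
    have huRle : zpowers u ≤ R := by rw [zpowers_le]; exact huR
    have hsub : (zpowers u).subgroupOf R = zpowers (⟨u, huR⟩ : R) := by
      apply Subgroup.map_injective R.subtype_injective
      rw [hzu, Subgroup.subgroupOf_map_subtype, inf_of_le_left huRle]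
    have hri : (zpowers u).relIndex R = 2 := by
      show ((zpowers u).subgroupOf R).index = 2
      rw [hsub]; exact hi
    have hxu : x ∉ zpowers u := by
      intro hx'
      apply hx
      rw [← hsub, mem_subgroupOf]; exact hx'
    have hmemR : ∀ y ∈ R, ∀ z ∈ R, y * z ∈ zpowers u ↔ (y ∈ zpowers u ↔ z ∈ zpowers u) := by
      intro y hy z hz
      exact Subgroup.mul_mem_iff_of_index_two (H := (zpowers u).subgroupOf R) hri (a := ⟨y, hy⟩) (b := ⟨z, hz⟩)
    -- some conjugate of `u` lies outside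
    have hex : ∃ k ∈ K, k * u * k⁻¹ ∉ zpowers u := by
      by_contra hcon
      push Not at hcon
      apply hnc
      refine cent_of_index_two huRle inferInstance hRp hri hKR ?_ hK
      refine H23.le_normalizer_of_conj_mem ?_
      rintro k hk _ ⟨i, rfl⟩
      show k * u ^ i * k⁻¹ ∈ zpowers u
      rw [← conj_zpow]
      exact zpow_mem (hcon k hk) i
    obtain ⟨k, hk, hku⟩ := hex
    have hkuR : k * u * k⁻¹ ∈ R := (mem_normalizer_iff.1 (hKR hk) u).1 huR
    have hord : orderOf (k * u * k⁻¹) = 2 ^ (n + 1) := by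
      rw [← hu]
      exact orderOf_injective (MulAut.conj k).toMonoidHom (MulAut.conj k).injective u
    -- it is `w * x` with `w ∈ ⟨u⟩`
    have hw : k * u * k⁻¹ * x⁻¹ ∈ zpowers u := by
      rw [hmemR _ hkuR _ (inv_mem hxR)]
      constructor
      · intro h'; exact absurd h' hku
      · intro h'; exact absurd (inv_mem_iff.1 h') hxu
    obtain ⟨i, hi'⟩ := hw
    have hi2 : k * u * k⁻¹ = u ^ i * x := by
      have : u ^ i = k * u * k⁻¹ * x⁻¹ := hi'
      rw [this, inv_mul_cancel_right]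
    have hsq : (k * u * k⁻¹) ^ 2 = u ^ i * (x * u ^ i * x⁻¹) * (x * x) := by
      rw [hi2, pow_two]; group
    have hle : 2 ^ 2 ≤ 2 ^ (n + 1) := Nat.pow_le_pow_right (by norm_num) (by omega)
    have hdvd : ∀ m : ℕ, (k * u * k⁻¹) ^ m = 1 → 2 ^ (n + 1) ∣ m := fun m hm => by
      rw [← hord]; exact orderOf_dvd_of_pow_eq_one hm
    have hinv : x * u * x⁻¹ = u⁻¹ → (k * u * k⁻¹) ^ 2 = x * x := by
      intro h1
      rw [hsq, ← conj_zpow, h1, inv_zpow, mul_inv_cancel, one_mul]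
    rcases h with ⟨h1, h2⟩ | ⟨h1, h2⟩ | ⟨hn2, h1, h2⟩
    · exfalso
      have h1' : x * u * x⁻¹ = u⁻¹ := congrArg Subtype.val h1
      have h2' : x * x = 1 := congrArg Subtype.val h2
      have h3 := hinv h1'
      rw [h2'] at h3
      have := Nat.le_of_dvd (by norm_num) (hdvd 2 h3)
      omega
    · have h1' : x * u * x⁻¹ = u⁻¹ := congrArg Subtype.val h1
      have h2' : x * x = u ^ 2 ^ n := congrArg Subtype.val h2
      have h3 := hinv h1'
      rw [h2'] at h3
      have h4 : (k * u * k⁻¹) ^ 4 = 1 := by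
        have : (k * u * k⁻¹) ^ 4 = ((k * u * k⁻¹) ^ 2) ^ 2 := by rw [← pow_mul]
        rw [this, h3, ← pow_mul, ← pow_succ, ← hu, pow_orderOf_eq_one]
      have h5 := hdvd 4 h4
      have hn : n = 1 := by
        by_contra hne
        have h6 : 2 ^ 3 ≤ 2 ^ (n + 1) := Nat.pow_le_pow_right (by norm_num) (by omega)
        have := Nat.le_of_dvd (by norm_num) h5
        omega
      subst hn
      exact ⟨u, x, huR, hxR, by rw [hu]; norm_num, hri, hxu, h1', by rw [h2']; norm_num⟩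
    · exfalso
      have h1' : x * u * x⁻¹ = u ^ (2 ^ n - 1) := congrArg Subtype.val h1
      have h2' : x * x = 1 := congrArg Subtype.val h2
      have h7 : 1 ≤ 2 ^ n := Nat.one_le_two_pow
      have h3 : (k * u * k⁻¹) ^ 2 = (u ^ 2 ^ n) ^ i := by
        rw [hsq, ← conj_zpow, h1', h2', mul_one, ← zpow_natCast, ← zpow_natCast, ← zpow_mul, ← zpow_mul,
          ← zpow_add]
        congr 1
        push_cast [Nat.cast_sub h7]
        ring
      have h4 : (k * u * k⁻¹) ^ 4 = 1 := by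
        have h5 : (k * u * k⁻¹) ^ 4 = ((k * u * k⁻¹) ^ 2) ^ 2 := by rw [← pow_mul]
        have h6 : (u ^ 2 ^ n) ^ 2 = 1 := by rw [← pow_mul, ← pow_succ, ← hu, pow_orderOf_eq_one]
        rw [h5, h3, ← zpow_natCast, ← zpow_mul, mul_comm, zpow_mul, zpow_natCast, h6, one_zpow]
      have h5 := hdvd 4 h4
      have h6 : 2 ^ 3 ≤ 2 ^ (n + 1) := Nat.pow_le_pow_right (by norm_num) (by omega)
      have := Nat.le_of_dvd (by norm_num) h5
      omega

end Cfsg.Agent.H18.E8
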