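import Mathlib
import Cfsg.Prelude
import Cfsg.Agent.H18.E8b
import Cfsg.Agent.H23.Quat

set_option autoImplicit false
set_option linter.all false

namespace Cfsg.Agent.H18.E8

open Subgroup
open scoped commutatorElement

variable {S : Type*} [Group S] [Finite S]

section
variable {R : Subgroup S} {u x : S} (h : Q8 R u x)
include h

theorem Q8.hu : u ∈ R := h.1
theorem Q8.hx : x ∈ R := h.2.1
theorem Q8.ord : orderOf u = 4 := h.2.2.1
theorem Q8.ri : (zpowers u).relIndex R = 2 := h.2.2.2.1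
theorem Q8.xu : x ∉ zpowers u := h.2.2.2.2.1
theorem Q8.conj : x * u * x⁻¹ = u⁻¹ := h.2.2.2.2.2.1
theorem Q8.sq : x * x = u ^ 2 := h.2.2.2.2.2.2
theorem Q8.u4 : u ^ 4 = 1 := by rw [← h.ord]; exact pow_orderOf_eq_one u
theorem Q8.u2 : u ^ 2 ≠ 1 := by
  intro h1
  have := orderOf_dvd_of_pow_eq_one h1
  rw [h.ord] at this
  norm_num at this

theorem Q8.ule : zpowers u ≤ R := by rw [zpowers_le]; exact h.hu

theorem Q8.mem {y : S} (hy : y ∈ R) : y ∈ zpowers u ∨ ∃ w ∈ zpowers u, y = w * x := by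
  by_cases hyu : y ∈ zpowers u
  · exact Or.inl hyu
  · right
    have h1 : y * x⁻¹ ∈ zpowers u ↔ (y ∈ zpowers u ↔ x⁻¹ ∈ zpowers u) :=
      Subgroup.mul_mem_iff_of_index_two (H := (zpowers u).subgroupOf R) h.ri (a := ⟨y, hy⟩)
        (b := ⟨x⁻¹, inv_mem h.hx⟩)
    refine ⟨y * x⁻¹, ?_, by rw [inv_mul_cancel_right]⟩
    rw [h1]
    constructor
    · intro h'; exact absurd h' hyu
    · intro h'; exact absurd (inv_mem_iff.1 h') h.xu

theorem Q8.sq_out {w : S} (hw : w ∈ zpowers u) : (w * x) * (w * x) = u ^ 2 := by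
  obtain ⟨i, rfl⟩ := hw
  show u ^ i * x * (u ^ i * x) = u ^ 2
  have h1 : x * u ^ i * x⁻¹ = (u ^ i)⁻¹ := by rw [← conj_zpow, h.conj, inv_zpow]
  calc u ^ i * x * (u ^ i * x) = u ^ i * (x * u ^ i * x⁻¹) * (x * x) := by group
    _ = u ^ 2 := by rw [h1, mul_inv_cancel, one_mul, h.sq]

theorem Q8.invol {y : S} (hy : y ∈ R) (hy2 : y * y = 1) : y ∈ zpowers (u ^ 2) := by
  rcases h.mem hy with hyu | ⟨w, hw, rfl⟩
  · obtain ⟨i, rfl⟩ := hyu
    have h1 : u ^ (2 * i) = 1 := by
      rw [two_mul, zpow_add]; exact hy2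
    rw [← orderOf_dvd_iff_zpow_eq_one, h.ord] at h1
    obtain ⟨j, hj⟩ := h1
    have hij : i = 2 * j := by push_cast at hj; omega
    refine ⟨j, ?_⟩
    show (u ^ 2) ^ j = u ^ i
    rw [hij, zpow_mul]; norm_cast
  · exfalso
    rw [h.sq_out hw] at hy2
    exact h.u2 hy2

theorem Q8.card : Nat.card R = 8 := by
  have h2 : (zpowers u).relIndex R * Nat.card (zpowers u) = Nat.card R := by
    have h3 := Subgroup.index_mul_card ((zpowers u).subgroupOf R)
    rw [Nat.card_congr (Subgroup.subgroupOfEquivOfLe h.ule).toEquiv] at h3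
    exact h3
  rw [← h2, h.ri, Nat.card_zpowers, h.ord]

theorem Q8.not_comm : ¬ x * u = u * x := by
  intro h1
  have h2 := h.conj
  rw [h1, mul_inv_cancel_right] at h2
  apply h.u2
  rw [pow_two]
  nth_rewrite 2 [h2]
  exact mul_inv_cancel u

theorem Q8.isPGroup : IsPGroup 2 R := IsPGroup.of_card (n := 3) (by rw [h.card]; norm_num)

theorem Q8.zcard : Nat.card (zpowers (u ^ 2)) = 2 := by
  rw [Nat.card_zpowers, orderOf_pow_of_dvd (by norm_num) (by rw [h.ord]; norm_num), h.ord]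

theorem Q8.mem_z {y : S} : y ∈ zpowers (u ^ 2) ↔ y = 1 ∨ y = u ^ 2 := by
  constructor
  · rintro ⟨i, rfl⟩
    rcases Int.even_or_odd' i with ⟨j, rfl | rfl⟩
    · left
      show (u ^ 2) ^ (2 * j) = 1
      rw [zpow_mul]
      have : (u ^ 2 : S) ^ (2 : ℤ) = 1 := by
        rw [zpow_ofNat, ← pow_mul]; exact h.u4
      rw [this, one_zpow]
    · right
      show (u ^ 2) ^ (2 * j + 1) = u ^ 2
      rw [zpow_add, zpow_mul, zpow_one]
      have : (u ^ 2 : S) ^ (2 : ℤ) = 1 := by
        rw [zpow_ofNat, ← pow_mul]; exact h.u4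
      rw [this, one_zpow, one_mul]
  · rintro (rfl | rfl)
    · exact one_mem _
    · exact mem_zpowers _

theorem Q8.inv {M K : Subgroup S} (hK : (Nat.card K).Coprime 2) (hKR : K ≤ normalizer (R : Set S))
    (hnc : ¬ R ≤ centralizer (K : Set S)) (hMR : M ≤ R) (hKM : K ≤ normalizer (M : Set S)) (hne : M ≠ R) :
    M ≤ zpowers (u ^ 2) := by
  have hdvd : Nat.card M ∣ 2 ^ 3 := by
    have := Subgroup.card_dvd_of_le hMR
    rw [h.card] at this
    exact this
  obtain ⟨j, hj, hj2⟩ := (Nat.dvd_prime_pow Nat.prime_two).1 hdvd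
  have hj3 : j ≠ 3 := by
    rintro rfl
    apply hne
    apply Subgroup.eq_of_le_of_card_ge hMR
    rw [hj2, h.card]; norm_num
  by_cases hsq : ∀ y ∈ M, y * y = 1
  · intro y hy
    exact h.invol (hMR hy) (hsq y hy)
  · push Not at hsq
    obtain ⟨y, hy, hy2⟩ := hsq
    exfalso
    have hMc : Nat.card M = 4 ∧ orderOf y = 4 := by
      have h1 : orderOf y ∣ Nat.card M := by
        have := orderOf_dvd_natCard (⟨y, hy⟩ : M)
        rwa [Subgroup.orderOf_mk] at this
      rw [hj2] at h1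
      obtain ⟨i, hi, hi2⟩ := (Nat.dvd_prime_pow Nat.prime_two).1 h1
      have hi1 : ¬ i ≤ 1 := by
        intro h3
        apply hy2
        rw [← pow_two]
        apply orderOf_dvd_iff_pow_eq_one.1
        rw [hi2]
        exact (pow_dvd_pow 2 h3).trans (by norm_num)
      have hj4 : j = 2 := by omega
      have hi4 : i = 2 := by omega
      rw [hj2, hi2, hj4, hi4]; norm_num
    have hMz : M = zpowers y := by
      symm
      apply Subgroup.eq_of_le_of_card_ge (by rw [zpowers_le]; exact hy)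
      rw [Nat.card_zpowers, hMc.1, hMc.2]
    apply hnc
    have hri : M.relIndex R = 2 := by
      have h3 := Subgroup.index_mul_card (M.subgroupOf R)
      rw [Nat.card_congr (Subgroup.subgroupOfEquivOfLe hMR).toEquiv, hMc.1, h.card] at h3
      have h4 : M.relIndex R * 4 = 8 := h3
      omega
    refine cent_of_index_two hMR ?_ h.isPGroup hri hKR hKM hK
    rw [hMz]; infer_instance

theorem Q8.cent_of {g : S} (h1 : g * u = u * g) (h2 : g * x = x * g) : g ∈ centralizer (R : Set S) := by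
  have hle : R ≤ centralizer ({g} : Set S) := by
    intro y hy
    rcases h.mem hy with hyu | ⟨w, hw, rfl⟩
    · exact (zpowers_le.2 (mem_centralizer_singleton_iff.2 h1.symm)) hyu
    · exact mul_mem ((zpowers_le.2 (mem_centralizer_singleton_iff.2 h1.symm)) hw)
        (mem_centralizer_singleton_iff.2 h2.symm)
  rw [mem_centralizer_iff]
  intro y hy
  exact mem_centralizer_singleton_iff.1 (hle hy)

theorem Q8.inner {g : S} (h1 : g * u * g⁻¹ * u⁻¹ ∈ zpowers (u ^ 2))
    (h2 : g * x * g⁻¹ * x⁻¹ ∈ zpowers (u ^ 2)) : ∃ r ∈ R, r⁻¹ * g ∈ centralizer (R : Set S) := by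
  rw [h.mem_z] at h1 h2
  have hxu : x * u = u⁻¹ * x := by rw [← h.conj]; group
  have hu3 : u ^ 2 * u = u⁻¹ := by
    rw [eq_inv_iff_mul_eq_one]
    have := h.u4
    calc u ^ 2 * u * u = u ^ 4 := by group
      _ = 1 := this
  have hgu : g * u = u * g ∨ g * u = u⁻¹ * g := by
    rcases h1 with h1 | h1
    · left
      have := mul_inv_eq_one.1 h1
      exact mul_inv_eq_iff_eq_mul.1 this
    · right
      have := mul_inv_eq_iff_eq_mul.1 h1
      rw [hu3] at this
      exact mul_inv_eq_iff_eq_mul.1 this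
  have hgx : g * x = x * g ∨ g * x = u ^ 2 * x * g := by
    rcases h2 with h2 | h2
    · left
      have := mul_inv_eq_one.1 h2
      exact mul_inv_eq_iff_eq_mul.1 this
    · right
      have := mul_inv_eq_iff_eq_mul.1 h2
      exact mul_inv_eq_iff_eq_mul.1 this
  have hxiu : x⁻¹ * u⁻¹ = u * x⁻¹ := by
    have : x * u * x⁻¹ = u⁻¹ := h.conj
    rw [← this]; group
  have hxiu2 : x⁻¹ * u = u⁻¹ * x⁻¹ := by
    have h3 : x * u⁻¹ * x⁻¹ = u := by
      have := congrArg (·⁻¹) h.conj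
      simp only [mul_inv_rev, inv_inv] at this
      rw [← mul_assoc] at this
      exact this
    nth_rewrite 1 [← h3]; group
  rcases hgu with hgu | hgu <;> rcases hgx with hgx | hgx
  · exact ⟨1, one_mem _, by rw [inv_one, one_mul]; exact h.cent_of hgu hgx⟩
  · refine ⟨u, h.hu, h.cent_of ?_ ?_⟩
    · calc u⁻¹ * g * u = u⁻¹ * (g * u) := by group
        _ = u⁻¹ * (u * g) := by rw [hgu]
        _ = u * (u⁻¹ * g) := by group
    · calc u⁻¹ * g * x = u⁻¹ * (g * x) := by group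
        _ = u⁻¹ * (u ^ 2 * x * g) := by rw [hgx]
        _ = u * x * g := by group
        _ = x * (u⁻¹ * g) := by
          have : u * x = x * u⁻¹ := by
            have h4 : x * u⁻¹ * x⁻¹ = u := by
              have := congrArg (·⁻¹) h.conj
              simp only [mul_inv_rev, inv_inv] at this
              rw [← mul_assoc] at this
              exact this
            nth_rewrite 1 [← h4]; group
          rw [this]; group
  · refine ⟨x, h.hx, h.cent_of ?_ ?_⟩
    · calc x⁻¹ * g * u = x⁻¹ * (g * u) := by group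
        _ = x⁻¹ * (u⁻¹ * g) := by rw [hgu]
        _ = x⁻¹ * u⁻¹ * g := by group
        _ = u * (x⁻¹ * g) := by rw [hxiu]; group
    · calc x⁻¹ * g * x = x⁻¹ * (g * x) := by group
        _ = x⁻¹ * (x * g) := by rw [hgx]
        _ = x * (x⁻¹ * g) := by group
  · refine ⟨u * x, mul_mem h.hu h.hx, h.cent_of ?_ ?_⟩
    · calc (u * x)⁻¹ * g * u = x⁻¹ * u⁻¹ * (g * u) := by group
        _ = x⁻¹ * u⁻¹ * (u⁻¹ * g) := by rw [hgu]
        _ = u * x⁻¹ * (u⁻¹ * g) := by rw [hxiu]
        _ = u * (x⁻¹ * u⁻¹) * g := by group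
        _ = u * (u * x⁻¹) * g := by rw [hxiu]
        _ = u * (x⁻¹ * u⁻¹) * g := by rw [hxiu]
        _ = u * ((u * x)⁻¹ * g) := by group
    · calc (u * x)⁻¹ * g * x = x⁻¹ * u⁻¹ * (g * x) := by group
        _ = x⁻¹ * u⁻¹ * (u ^ 2 * x * g) := by rw [hgx]
        _ = x⁻¹ * u * x * g := by group
        _ = u⁻¹ * x⁻¹ * x * g := by rw [hxiu2]
        _ = x * (x⁻¹ * u⁻¹) * g := by group
        _ = x * ((u * x)⁻¹ * g) := by group

theorem Q8.iso : Nonempty (R ≃* QuaternionGroup (2 ^ (0 + 1))) := by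
  have hsub : (zpowers u).subgroupOf R = zpowers (⟨u, h.hu⟩ : R) := by
    apply Subgroup.map_injective R.subtype_injective
    rw [MonoidHom.map_zpowers, Subgroup.subgroupOf_map_subtype, inf_of_le_left h.ule]; rfl
  have hi : (zpowers (⟨u, h.hu⟩ : R)).index = 2 := by
    rw [← hsub]; exact h.ri
  have hxn : (⟨x, h.hx⟩ : R) ∉ zpowers (⟨u, h.hu⟩ : R) := by
    rw [← hsub, mem_subgroupOf]; exact h.xu
  exact H23.nonempty_mulEquiv_quaternionGroup (2 ^ (0 + 1)) (⟨u, h.hu⟩ : R) ⟨x, h.hx⟩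
    (by rw [Subgroup.orderOf_mk, h.ord]; norm_num) (Subtype.ext h.sq) (Subtype.ext h.conj) hxn
    (H23.closure_pair_eq_top hi hxn)

end

theorem V4_inv {R M K : Subgroup S} (hR4 : Nat.card R = 4) (hK : (Nat.card K).Coprime 2)
    (hKR : K ≤ normalizer (R : Set S)) (hnc : ¬ R ≤ centralizer (K : Set S)) (hMR : M ≤ R)
    (hKM : K ≤ normalizer (M : Set S)) (hne : M ≠ R) : M = ⊥ := by
  have hRp : IsPGroup 2 R := IsPGroup.of_card (n := 2) (by rw [hR4]; norm_num)
  have hdvd : Nat.card M ∣ 2 ^ 2 := by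
    have := Subgroup.card_dvd_of_le hMR
    rw [hR4] at this
    exact this
  obtain ⟨j, hj, hj2⟩ := (Nat.dvd_prime_pow Nat.prime_two).1 hdvd
  have hj3 : j ≠ 2 := by
    rintro rfl
    apply hne
    apply Subgroup.eq_of_le_of_card_ge hMR
    rw [hj2, hR4]; norm_num
  by_cases hj1 : j = 1
  · exfalso
    apply hnc
    have hM2 : Nat.card M = 2 := by rw [hj2, hj1]; norm_num
    have hri : M.relIndex R = 2 := by
      have h3 := Subgroup.index_mul_card (M.subgroupOf R)
      rw [Nat.card_congr (Subgroup.subgroupOfEquivOfLe hMR).toEquiv, hM2, hR4] at h3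
      have h4 : M.relIndex R * 2 = 4 := h3
      omega
    haveI : Fact (Nat.Prime 2) := ⟨Nat.prime_two⟩
    exact cent_of_index_two hMR (isCyclic_of_prime_card hM2) hRp hri hKR hKM hK
  · rw [← Subgroup.card_eq_one, hj2]
    have : j = 0 := by omega
    rw [this, pow_zero]

end Cfsg.Agent.H18.E8
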