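import Mathlib
import Cfsg.Agent.H29.XS3

set_option autoImplicit false
open Cfsg

namespace Cfsg.Agent.H18

variable {E : Type*} [Group E] [Finite E] {z : E}

theorem xs_selfcentralizing (h : H29.XS (⊤ : Subgroup E) z) {m : ℕ}
    (hcard : Nat.card E = 2 ^ (2 * m + 1)) {A : Subgroup E}
    (hA : ∀ a ∈ A, ∀ b ∈ A, a * b = b * a) (hAc : Nat.card A = 2 ^ (m + 1)) :
    ∀ x : E, (∀ a ∈ A, x * a = a * x) → x ∈ A := by
  have key : ∀ B : Subgroup E, z ∈ B → (∀ a ∈ B, ∀ b ∈ B, a * b = b * a) →
      Nat.card B ≤ 2 ^ (m + 1) := by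
    intro B hz hB
    have h1 := h.card_cent_mul hz le_top
    have h2 : B ≤ H29.XS.centIn ⊤ B := fun b hb => H29.XS.mem_centIn.2 ⟨Subgroup.mem_top _, hB b hb⟩
    have h3 : Nat.card B ≤ Nat.card (H29.XS.centIn ⊤ B) :=
      Nat.card_le_card_of_injective _ (Subgroup.inclusion_injective h2)
    rw [Subgroup.card_top, hcard] at h1
    by_contra hcon
    push Not at hcon
    have h4 : 2 ^ (m + 1) * 2 ^ (m + 1) < Nat.card B * Nat.card B := by
      exact Nat.mul_lt_mul'' hcon hcon
    have h5 : Nat.card B * Nat.card B ≤ Nat.card (H29.XS.centIn ⊤ B) * Nat.card B :=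
      Nat.mul_le_mul_right _ h3
    have h6 : (2 : ℕ) ^ (m + 1) * 2 ^ (m + 1) = 2 * 2 ^ (2 * m + 1) := by
      rw [← pow_add, ← pow_succ']; congr 1; ring
    omega
  have hzA : ∀ B : Subgroup E, (∀ a ∈ B, ∀ b ∈ B, a * b = b * a) → A ≤ B → B = A := by
    intro B hB hAB
    have hz' : ∀ b ∈ B ⊔ Subgroup.zpowers z, ∀ c ∈ B ⊔ Subgroup.zpowers z, b * c = c * b := by
      have hzc : ∀ x : E, x * z = z * x := fun x => h.z_comm x (Subgroup.mem_top _)
      have h1 : B ⊔ Subgroup.zpowers z ≤ Subgroup.centralizer (B : Set E) := by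
        refine sup_le ?_ ?_
        · intro b hb
          rw [Subgroup.mem_centralizer_iff]
          exact fun c hc => hB c hc b hb
        · rw [Subgroup.zpowers_le, Subgroup.mem_centralizer_iff]
          exact fun c _ => hzc c
      have h2 : B ⊔ Subgroup.zpowers z ≤
          Subgroup.centralizer ((B ⊔ Subgroup.zpowers z : Subgroup E) : Set E) := by
        rw [Subgroup.le_centralizer_iff]
        refine sup_le ?_ ?_
        · rw [Subgroup.le_centralizer_iff]; exact h1
        · rw [Subgroup.zpowers_le, Subgroup.mem_centralizer_iff]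
          exact fun c _ => hzc c
      intro b hb c hc
      exact (Subgroup.mem_centralizer_iff.1 (h2 hb) c hc).symm
    have h3 := key _ (Subgroup.mem_sup_right (Subgroup.mem_zpowers z)) hz'
    have h4 : A = B ⊔ Subgroup.zpowers z :=
      Subgroup.eq_of_le_of_card_ge (hAB.trans le_sup_left) (by rw [hAc]; exact h3)
    exact le_antisymm (h4 ▸ le_sup_left) hAB
  intro x hx
  have hxx : (A ⊔ Subgroup.zpowers x) = A := by
    apply hzA _ _ le_sup_left
    have h1 : A ⊔ Subgroup.zpowers x ≤ Subgroup.centralizer (A : Set E) := by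
      refine sup_le ?_ ?_
      · intro b hb
        rw [Subgroup.mem_centralizer_iff]
        exact fun c hc => hA c hc b hb
      · rw [Subgroup.zpowers_le, Subgroup.mem_centralizer_iff]
        exact fun c hc => (hx c hc).symm
    have h2 : A ⊔ Subgroup.zpowers x ≤
        Subgroup.centralizer ((A ⊔ Subgroup.zpowers x : Subgroup E) : Set E) := by
      rw [Subgroup.le_centralizer_iff]
      refine sup_le ?_ ?_
      · rw [Subgroup.le_centralizer_iff]; exact h1
      · rw [Subgroup.le_centralizer_iff]
        refine sup_le ?_ ?_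
        · intro a ha
          rw [Subgroup.mem_centralizer_iff]
          rintro _ ⟨k, rfl⟩
          have : Commute x a := hx a ha
          exact this.zpow_left k
        · rintro _ ⟨k, rfl⟩
          rw [Subgroup.mem_centralizer_iff]
          rintro _ ⟨l, rfl⟩
          exact (Commute.refl x).zpow_zpow l k
    intro b hb c hc
    exact (Subgroup.mem_centralizer_iff.1 (h2 hb) c hc).symm
  rw [← hxx]
  exact Subgroup.mem_sup_right (Subgroup.mem_zpowers x)

/-- S2880 -/
theorem card_order_four (hE : IsExtraspecial 2 E) {m : ℕ}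
    (hcard : Nat.card E = 2 ^ (2 * m + 1)) {A : Subgroup E}
    (hA : IsElementaryAbelian 2 A) (hAc : Nat.card A = 2 ^ (m + 1)) :
    Nat.card {x : E // orderOf x = 4} = 2 ^ (2 * m) - 2 ^ m := by
  classical
  obtain ⟨z, h⟩ := H29.xs_top hE
  have : Fintype E := Fintype.ofFinite E
  have : Fintype A := Fintype.ofFinite A
  have hAcomm : ∀ a ∈ A, ∀ b ∈ A, a * b = b * a := fun a ha b hb =>
    congrArg Subtype.val (hA.1.is_comm.comm (⟨a, ha⟩ : A) ⟨b, hb⟩)
  have hself := xs_selfcentralizing h hcard hAcomm hAc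
  have hz2 := h.z_sq
  have hzc : ∀ x : E, x * z = z * x := fun x => h.z_comm x (Subgroup.mem_top _)
  have hcomm : ∀ x y : E, x * y = y * x ∨ x * y = z * (y * x) := fun x y =>
    h.comm x (Subgroup.mem_top _) y (Subgroup.mem_top _)
  have hsq : ∀ x : E, x * x = 1 ∨ x * x = z := fun x => h.sq x (Subgroup.mem_top _)
  have hasq : ∀ a ∈ A, a * a = 1 := fun a ha => by rw [← pow_two]; exact hA.2 a ha
  let φ : E → (A →* ℤ) := fun x =>
    { toFun := fun a => if x * a = a * x then 1 else -1
      map_one' := by simp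
      map_mul' := by
        intro a b
        simp only [Subgroup.coe_mul]
        by_cases h1 : x * a = a * x
        · have e : (x * ((a : E) * b) = (a : E) * b * x) ↔ x * b = b * x := by
            rw [← mul_assoc, h1, mul_assoc, mul_assoc, mul_right_inj]
          simp only [e, h1, if_true, one_mul]
        · by_cases h2 : x * b = b * x
          · have e : (x * ((a : E) * b) = (a : E) * b * x) ↔ x * a = a * x := by
              rw [mul_assoc (a : E) b x, ← h2, ← mul_assoc, ← mul_assoc, mul_left_inj]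
            simp only [e, h1, h2, if_true, if_false, mul_one]
          · have e := h.comm_mul (Subgroup.mem_top x) (Subgroup.mem_top (a : E))
              (Subgroup.mem_top (b : E)) h1 h2
            rw [if_pos e, if_neg h1, if_neg h2]; norm_num }
  have hφ : ∀ x (a : A), φ x a = if x * a = a * x then 1 else -1 := fun _ _ => rfl
  have hsum : ∀ x : E, ∑ a : A, φ x a = if x ∈ A then (Fintype.card A : ℤ) else 0 := by
    intro x
    split_ifs with hx
    · have : ∀ a : A, φ x a = 1 := fun a => by rw [hφ, if_pos (hAcomm x hx a a.2)]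
      simp [this]
    · apply sum_hom_units_eq_zero
      intro h1
      apply hx
      apply hself
      intro a ha
      by_contra hne
      have h2 := DFunLike.congr_fun h1 (⟨a, ha⟩ : A)
      rw [hφ, if_neg hne] at h2
      norm_num at h2
  let s : E → ℤ := fun x => if x * x = 1 then 1 else -1
  have hs : ∀ x (a : A), s (x * a) = s x * φ x a := by
    intro x a
    have ha2 := hasq a a.2
    rw [hφ]
    rcases hcomm x a with h1 | h1
    · rw [if_pos h1, mul_one]
      have e : x * (a : E) * (x * a) = x * x := by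
        calc x * (a : E) * (x * a) = x * (a * x) * a := by group
          _ = x * (x * a) * a := by rw [h1]
          _ = x * x * (a * a) := by group
          _ = x * x := by rw [ha2, mul_one]
      simp only [s, e]
    · have h2 : ¬ x * (a : E) = a * x := by
        intro h3
        rw [h3] at h1
        exact h.z_ne (by simpa using h1.symm)
      rw [if_neg h2]
      have e : x * (a : E) * (x * a) = z * (x * x) := by
        have h4 : (a : E) * x = z * (x * a) := by
          rw [h1, ← mul_assoc, hz2, one_mul]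
        calc x * (a : E) * (x * a) = x * (a * x) * a := by group
          _ = x * (z * (x * a)) * a := by rw [h4]
          _ = (x * z) * x * (a * a) := by group
          _ = z * (x * x) := by rw [ha2, mul_one, hzc, mul_assoc]
      simp only [s, e]
      rcases hsq x with h5 | h5
      · rw [h5, mul_one, if_neg h.z_ne, if_pos rfl]; norm_num
      · rw [h5, hz2, if_pos rfl, if_neg h.z_ne]; norm_num
  have htot : (Fintype.card A : ℤ) * ∑ x : E, s x = (Fintype.card A : ℤ) * Fintype.card A := by
    have h1 : ∑ a : A, ∑ x : E, s (x * a) = (Fintype.card A : ℤ) * ∑ x : E, s x := by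
      have : ∀ a : A, ∑ x : E, s (x * a) = ∑ x : E, s x := fun a =>
        Fintype.sum_equiv (Equiv.mulRight (a : E)) _ _ (fun _ => rfl)
      rw [Finset.sum_congr rfl (fun a _ => this a)]
      simp
    rw [← h1, Finset.sum_comm]
    have h2 : ∀ x : E, ∑ a : A, s (x * a) = if x ∈ A then (Fintype.card A : ℤ) else 0 := by
      intro x
      rw [Finset.sum_congr rfl (fun a _ => hs x a), ← Finset.mul_sum, hsum]
      split_ifs with hx
      · simp only [s]; rw [if_pos (hasq x hx), one_mul]
      · rw [mul_zero]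
    rw [Finset.sum_congr rfl (fun x _ => h2 x), Finset.sum_ite, Finset.sum_const_zero, add_zero,
      Finset.sum_const, nsmul_eq_mul]
    congr 1
    rw [Fintype.card_subtype]
  have hApos : (0 : ℤ) < Fintype.card A := by exact_mod_cast Fintype.card_pos
  have htot2 : ∑ x : E, s x = Fintype.card A := mul_left_cancel₀ hApos.ne' htot
  have hs4 : ∀ x : E, s x = 1 - 2 * (if orderOf x = 4 then 1 else 0) := by
    intro x
    have horder : orderOf x = 4 ↔ x * x = z := by
      constructor
      · intro h4
        rcases hsq x with h5 | h5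
        · exfalso
          have : orderOf x ∣ 2 := orderOf_dvd_of_pow_eq_one (by rw [pow_two]; exact h5)
          rw [h4] at this
          omega
        · exact h5
      · intro h5
        have h6 : orderOf x = 2 ^ (1 + 1) := by
          apply orderOf_eq_prime_pow
          · rw [pow_one, pow_two, h5]; exact h.z_ne
          · have : x ^ 2 ^ (1 + 1) = (x * x) * (x * x) := by
              rw [← pow_two x, ← pow_two (x ^ 2), ← pow_mul]; norm_num
            rw [this, h5, hz2]
        rw [h6]; norm_num
    simp only [s]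
    rcases hsq x with h5 | h5
    · rw [if_pos h5, if_neg]
      · norm_num
      · rw [horder, h5]; exact h.z_ne.symm
    · rw [if_neg, if_pos (horder.2 h5)]
      · norm_num
      · rw [h5]; exact h.z_ne
  rw [Finset.sum_congr rfl (fun x _ => hs4 x), Finset.sum_sub_distrib, ← Finset.mul_sum,
    Finset.sum_boole] at htot2
  have hc1 : (Fintype.card E : ℤ) = 2 ^ (2 * m + 1) := by
    rw [← Nat.card_eq_fintype_card, hcard]; push_cast; rfl
  have hc2 : (Fintype.card A : ℤ) = 2 ^ (m + 1) := by
    rw [← Nat.card_eq_fintype_card, hAc]; push_cast; rfl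
  have hc3 : Nat.card {x : E // orderOf x = 4} =
      (Finset.univ.filter fun x : E => orderOf x = 4).card := by
    rw [Nat.card_eq_fintype_card, Fintype.card_subtype]
  rw [hc3]
  simp only [Finset.sum_const, Finset.card_univ, nsmul_eq_mul, mul_one] at htot2
  rw [hc1, hc2] at htot2
  have h7 : (2 : ℤ) ^ (2 * m + 1) = 2 * 2 ^ (2 * m) := by ring
  have h8 : (2 : ℤ) ^ (m + 1) = 2 * 2 ^ m := by ring
  generalize (Finset.univ.filter fun x : E => orderOf x = 4).card = c at htot2 ⊢
  have h9 : (c : ℤ) = 2 ^ (2 * m) - 2 ^ m := by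
    rw [h7, h8] at htot2; linarith
  have h10 : 2 ^ m ≤ 2 ^ (2 * m) := Nat.pow_le_pow_right (by norm_num) (by omega)
  have h11 : c + 2 ^ m = 2 ^ (2 * m) := by
    have h12 : ((c + 2 ^ m : ℕ) : ℤ) = ((2 ^ (2 * m) : ℕ) : ℤ) := by
      push_cast; linarith
    exact_mod_cast h12
  omega

theorem four_dvd_of_five_dvd {m : ℕ} (h4 : 5 ∣ 2 ^ m * (2 ^ m - 1)) : 4 ∣ m := by
  have h6 : 5 ∣ 2 ^ m - 1 := by
    rcases (Nat.Prime.dvd_mul (by norm_num)).1 h4 with h | h
    · exfalso
      have := Nat.Prime.dvd_of_dvd_pow (by norm_num : Nat.Prime 5) h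
      omega
    · exact h
  have h7 : m = 4 * (m / 4) + m % 4 := (Nat.div_add_mod m 4).symm
  have h8 : 2 ^ m % 5 = 2 ^ (m % 4) % 5 := by
    conv_lhs => rw [h7, pow_add, pow_mul]
    rw [Nat.mul_mod, Nat.pow_mod]
    norm_num
  have h9 : 1 ≤ 2 ^ m := Nat.one_le_two_pow
  have h10 : 2 ^ m % 5 = 1 := by
    obtain ⟨k, hk⟩ := h6
    omega
  rw [h8] at h10
  have h11 : m % 4 < 4 := Nat.mod_lt _ (by norm_num)
  rw [Nat.dvd_iff_mod_eq_zero]
  generalize m % 4 = r at h10 h11
  clear h4 h6 h7 h8 h9
  interval_cases r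
  · rfl
  · norm_num at h10
  · norm_num at h10
  · norm_num at h10

/-- S2881 -/
theorem four_dvd_of_aut {m : ℕ} (hE : IsExtraspecial 2 E)
    (hcard : Nat.card E = 2 ^ (2 * m + 1)) {A : Subgroup E}
    (hA : IsElementaryAbelian 2 A) (hAc : Nat.card A = 2 ^ (m + 1))
    (ω : E ≃* E) (hω : orderOf ω = 5) (hfix : ∀ x : E, ω x = x ↔ x ∈ Subgroup.center E) :
    4 ∣ m := by
  classical
  have : Fintype E := Fintype.ofFinite E
  have h1 := card_order_four hE hcard hA hAc
  have : Fact (Nat.Prime 5) := ⟨by norm_num⟩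
  let f : Function.End {x : E // orderOf x = 4} := fun x =>
    ⟨ω x, by rw [MulEquiv.orderOf_eq]; exact x.2⟩
  have hfn : ∀ (n : ℕ) (x : {x : E // orderOf x = 4}), (((f ^ n) x : {x : E // orderOf x = 4}) : E) =
      (ω ^ n) x := by
    intro n
    induction n with
    | zero => intro x; rfl
    | succ n ih =>
      intro x
      rw [pow_succ', pow_succ']
      change ω (((f ^ n) x : {x : E // orderOf x = 4}) : E) = ω ((ω ^ n) x)
      rw [ih]
  have hf : f ^ 5 ^ 1 = 1 := by
    funext x
    apply Subtype.ext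
    rw [hfn, pow_one, ← hω, pow_orderOf_eq_one]
    rfl
  have h2 := Equiv.Perm.card_fixedPoints_modEq (p := 5) (n := 1) hf
  have h3 : Fintype.card f.fixedPoints = 0 := by
    rw [Fintype.card_eq_zero_iff]
    refine ⟨fun ⟨x, hx⟩ => ?_⟩
    have h4 : ω x = x := congrArg Subtype.val hx
    have h5 := (hfix x).1 h4
    have h6 : orderOf (x : E) ∣ 2 := by
      rw [← hE.2, ← Subgroup.orderOf_mk (x : E) h5]
      exact orderOf_dvd_natCard _
    rw [x.2] at h6
    omega
  rw [h3, ← Nat.card_eq_fintype_card, h1] at h2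
  have h4 : 5 ∣ 2 ^ (2 * m) - 2 ^ m := (Nat.modEq_zero_iff_dvd).1 h2
  have h5 : 2 ^ (2 * m) - 2 ^ m = 2 ^ m * (2 ^ m - 1) := by
    rw [Nat.mul_sub, mul_one, ← pow_add]; congr 2; ring
  rw [h5] at h4
  exact four_dvd_of_five_dvd h4

end Cfsg.Agent.H18
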