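import Mathlib
import Cfsg.Agent.H2.Conj

/-!
# Modules for groups generated by two conjugates of a quadratic subgroup (helper18)
-/

set_option autoImplicit false
set_option linter.style.haveILetI false

namespace Cfsg.Agent.H18

/-- the conjugate subgroup -/
def cj {E : Type*} [Group E] (x : E) (Y : Subgroup E) : Subgroup E := Y.map (MulAut.conj x).toMonoidHom

theorem mem_cj {E : Type*} [Group E] {x g : E} {Y : Subgroup E} : g ∈ cj x Y ↔ x⁻¹ * g * x ∈ Y :=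
  H2.mem_map_conj

/-- `Y`-minimality data -/
structure NS {E : Type*} [Group E] (Y A : Subgroup E) : Prop where
  nA : A.Normal
  ab : ∀ x ∈ Y, ∀ y ∈ Y, x * y = y * x
  AN : A ≤ Subgroup.normalizer (Y : Set E)
  ncl : A ≤ Subgroup.normalClosure ((Y ⊓ A : Subgroup E) : Set E)
  max : ∀ X : Subgroup E, Y ≤ X → X ≠ ⊤ → X ≤ Subgroup.normalizer (Y : Set E)
  nn : Subgroup.normalizer (Y : Set E) ≠ ⊤
  gen : Subgroup.normalClosure (Y : Set E) = ⊤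

/-- two conjugates, in the quotient where they intersect trivially -/
structure Pr {E : Type*} [Group E] (Y₁ Y₂ A : Subgroup E) : Prop where
  nA : ∀ a ∈ A, ∀ g : E, g * a * g⁻¹ ∈ A
  ab1 : ∀ x ∈ Y₁, ∀ y ∈ Y₁, x * y = y * x
  ab2 : ∀ x ∈ Y₂, ∀ y ∈ Y₂, x * y = y * x
  AN1 : ∀ a ∈ A, ∀ y ∈ Y₁, a * y * a⁻¹ ∈ Y₁
  AN2 : ∀ a ∈ A, ∀ y ∈ Y₂, a * y * a⁻¹ ∈ Y₂
  disj : ∀ g, g ∈ Y₁ → g ∈ Y₂ → g = 1
  dec : ∀ a ∈ A, ∃ u v, u ∈ Y₁ ∧ u ∈ A ∧ v ∈ Y₂ ∧ v ∈ A ∧ a = u * v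
  inj1 : ∀ y ∈ Y₁, y ∉ A → ∀ v, v ∈ Y₂ → v ∈ A → y * v = v * y → v = 1
  inj2 : ∀ y ∈ Y₂, y ∉ A → ∀ v, v ∈ Y₁ → v ∈ A → y * v = v * y → v = 1

namespace Pr

variable {E : Type*} [Group E] {Y₁ Y₂ A : Subgroup E}

theorem symm (h : Pr Y₁ Y₂ A) : Pr Y₂ Y₁ A where
  nA := h.nA
  ab1 := h.ab2
  ab2 := h.ab1
  AN1 := h.AN2
  AN2 := h.AN1
  disj := fun g h1 h2 => h.disj g h2 h1
  dec := by
    intro a ha
    obtain ⟨u, v, h1, h2, h3, h4, h5⟩ := h.dec a⁻¹ (A.inv_mem ha)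
    refine ⟨v⁻¹, u⁻¹, Y₂.inv_mem h3, A.inv_mem h4, Y₁.inv_mem h1, A.inv_mem h2, ?_⟩
    rw [← mul_inv_rev, ← h5, inv_inv]
  inj1 := h.inj2
  inj2 := h.inj1

theorem comm12 (h : Pr Y₁ Y₂ A) {u v : E} (hu : u ∈ Y₁) (hu' : u ∈ A) (hv : v ∈ Y₂) (hv' : v ∈ A) :
    u * v = v * u := by
  have h1 : u * v * u⁻¹ * v⁻¹ = 1 := by
    apply h.disj
    · have : u * v * u⁻¹ * v⁻¹ = u * (v * u⁻¹ * v⁻¹) := by group
      rw [this]
      exact Y₁.mul_mem hu (h.AN1 v hv' _ (Y₁.inv_mem hu))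
    · exact Y₂.mul_mem (h.AN2 u hu' v hv) (Y₂.inv_mem hv)
  have h2 := mul_inv_eq_one.1 h1
  exact mul_inv_eq_iff_eq_mul.1 h2

theorem comm (h : Pr Y₁ Y₂ A) {a b : E} (ha : a ∈ A) (hb : b ∈ A) : a * b = b * a := by
  obtain ⟨u, v, h1, h2, h3, h4, rfl⟩ := h.dec a ha
  obtain ⟨s, t, k1, k2, k3, k4, rfl⟩ := h.dec b hb
  have c1 : Commute u s := h.ab1 u h1 s k1
  have c2 : Commute v t := h.ab2 v h3 t k3
  have c3 : Commute u t := h.comm12 h1 h2 k3 k4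
  have c4 : Commute v s := (h.comm12 k1 k2 h3 h4).symm
  exact ((c1.mul_right c3).mul_left (c4.mul_right c2))

/-- the commutator with an element of `Y₁` lies in `Y₁ ∩ A` -/
theorem com_mem (h : Pr Y₁ Y₂ A) {y v : E} (hy : y ∈ Y₁) (hv : v ∈ A) :
    y * v * y⁻¹ * v⁻¹ ∈ Y₁ ∧ y * v * y⁻¹ * v⁻¹ ∈ A := by
  constructor
  · have : y * v * y⁻¹ * v⁻¹ = y * (v * y⁻¹ * v⁻¹) := by group
    rw [this]
    exact Y₁.mul_mem hy (h.AN1 v hv _ (Y₁.inv_mem hy))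
  · exact A.mul_mem (h.nA v hv y) (A.inv_mem hv)

theorem key (h : Pr Y₁ Y₂ A) {s t z b : E} (hs : s ∈ Y₁) (ht : t ∈ Y₁) (hz : z ∈ Y₂) (hzA : z ∉ A)
    (hb : b ∈ A) {a : E} (ha : a ∈ A) (hc : (s * z * t * b) * a = a * (s * z * t * b)) :
    a = 1 ∨ s * t ∈ A := by
  obtain ⟨u, v, hu, huA, hv, hvA, rfl⟩ := h.dec a ha
  set ct := t * v * t⁻¹ * v⁻¹ with hct
  set cs := s⁻¹ * v * s⁻¹⁻¹ * v⁻¹ with hcs
  obtain ⟨hct1, hctA⟩ := h.com_mem ht hvA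
  obtain ⟨hcs1, hcsA⟩ := h.com_mem (Y₁.inv_mem hs) hvA
  rw [← hct] at hct1 hctA
  rw [← hcs] at hcs1 hcsA
  set u' := u * ct with hu'
  have hu'1 : u' ∈ Y₁ := Y₁.mul_mem hu hct1
  have hu'A : u' ∈ A := A.mul_mem huA hctA
  obtain ⟨hd2, hdA⟩ := h.symm.com_mem hz hu'A
  set d := z * u' * z⁻¹ * u'⁻¹ with hd
  -- compute
  have e1 : b * (u * v) * b⁻¹ = u * v := by rw [h.comm hb ha]; group
  have e2 : t * (u * v) * t⁻¹ = u' * v := by
    have : t * (u * v) * t⁻¹ = (t * u * t⁻¹) * (t * v * t⁻¹ * v⁻¹) * v := by group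
    rw [this, h.ab1 t ht u hu, ← hct, hu']; group
  have e3 : z * (u' * v) * z⁻¹ = d * u' * v := by
    have h1 : z * (u' * v) * z⁻¹ = (z * u' * z⁻¹ * u'⁻¹) * u' * (z * v * z⁻¹) := by group
    rw [h1, h.ab2 z hz v hv, ← hd]; group
  have e4 : s⁻¹ * (u * v) * s = u * cs * v := by
    have h1 : s⁻¹ * (u * v) * s = (s⁻¹ * u * s) * (s⁻¹ * v * s⁻¹⁻¹ * v⁻¹) * v := by group
    rw [h1, h.ab1 s⁻¹ (Y₁.inv_mem hs) u hu, ← hcs]; group
  have e5 : z * (t * (b * (u * v) * b⁻¹) * t⁻¹) * z⁻¹ = s⁻¹ * (u * v) * s := by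
    have h1 : (s * z * t * b) * (u * v) * (s * z * t * b)⁻¹ = u * v := by rw [hc]; group
    calc z * (t * (b * (u * v) * b⁻¹) * t⁻¹) * z⁻¹ =
          s⁻¹ * ((s * z * t * b) * (u * v) * (s * z * t * b)⁻¹) * s := by group
      _ = s⁻¹ * (u * v) * s := by rw [h1]
  rw [e1, e2, e3, e4] at e5
  have e6 : d * u' = u * cs := mul_right_cancel e5
  have hd1 : d = 1 := by
    apply h.disj _ _ hd2
    have : d = u * cs * u'⁻¹ := by rw [← e6]; group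
    rw [this]
    exact Y₁.mul_mem (Y₁.mul_mem hu hcs1) (Y₁.inv_mem hu'1)
  have hu1 : u' = 1 := by
    apply h.inj2 z hz hzA u' hu'1 hu'A
    rw [hd, mul_inv_eq_one] at hd1
    exact mul_inv_eq_iff_eq_mul.1 hd1
  rw [hd1, one_mul] at e6
  by_cases hst : s * t ∈ A
  · exact Or.inr hst
  · left
    have hcc : ct = cs := by
      rw [hu'] at e6
      exact mul_left_cancel e6
    have hv1 : v = 1 := by
      apply h.inj1 (s * t) (Y₁.mul_mem hs ht) hst v hv hvA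
      rw [hct, hcs] at hcc
      have h1 : t * v * t⁻¹ = s⁻¹ * v * s⁻¹⁻¹ := mul_right_cancel hcc
      have h2 : s * (t * v * t⁻¹) * t = s * (s⁻¹ * v * s⁻¹⁻¹) * t := by rw [h1]
      calc s * t * v = s * (t * v * t⁻¹) * t := by group
        _ = s * (s⁻¹ * v * s⁻¹⁻¹) * t := h2
        _ = v * (s * t) := by group
    have hct2 : ct = 1 := by rw [hct, hv1]; group
    rw [hu', hct2, mul_one] at hu1
    rw [hu1, hv1, one_mul]

/-- elements centralized by elements of both -/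
theorem two (h : Pr Y₁ Y₂ A) {s t b : E} (hs : s ∈ Y₁) (ht : t ∈ Y₂) (hsA : s ∉ A) (htA : t ∉ A)
    (hb : b ∈ A) (hs2 : s * s ∈ A) {a : E} (ha : a ∈ A) (hc : (s * t * b) * a = a * (s * t * b)) :
    a = 1 := by
  obtain ⟨h1, h1A⟩ := h.com_mem hs ha
  obtain ⟨h2, h2A⟩ := h.symm.com_mem ht ha
  have e1 : b * a * b⁻¹ = a := by rw [h.comm hb ha]; group
  have hsi : s⁻¹ * a * s = s * a * s⁻¹ := by
    have h3 := h.comm hs2 ha
    calc s⁻¹ * a * s = s⁻¹ * (a * (s * s)) * s⁻¹ := by group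
      _ = s⁻¹ * (s * s * a) * s⁻¹ := by rw [h3]
      _ = s * a * s⁻¹ := by group
  have e2 : t * a * t⁻¹ = s * a * s⁻¹ := by
    have h3 : (s * t * b) * a * (s * t * b)⁻¹ = a := by rw [hc]; group
    have h4 : t * (b * a * b⁻¹) * t⁻¹ = s⁻¹ * a * s := by
      calc t * (b * a * b⁻¹) * t⁻¹ = s⁻¹ * ((s * t * b) * a * (s * t * b)⁻¹) * s := by group
        _ = s⁻¹ * a * s := by rw [h3]
    rw [e1] at h4
    rw [h4, hsi]
  rw [e2] at h2 h2A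
  have h3 := h.disj _ h1 h2
  have h4 : s * a = a * s := by
    rw [mul_inv_eq_one] at h3
    exact mul_inv_eq_iff_eq_mul.1 h3
  have h5 : t * a = a * t := by
    rw [h3] at h2
    have h6 : t * a * t⁻¹ = a := by
      rw [e2]
      exact mul_inv_eq_one.1 h3
    exact mul_inv_eq_iff_eq_mul.1 h6
  obtain ⟨u, v, hu, huA, hv, hvA, rfl⟩ := h.dec a ha
  have hv1 : v = 1 := by
    apply h.inj1 s hs hsA v hv hvA
    have h6 := h.ab1 s hs u hu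
    have h7 : u * (s * v) = u * (v * s) := by
      rw [← mul_assoc, ← h6, mul_assoc, h4, mul_assoc]
    exact mul_left_cancel h7
  have hu1 : u = 1 := by
    apply h.inj2 t ht htA u hu huA
    rw [hv1, mul_one] at h5
    exact h5
  rw [hu1, hv1, one_mul]

end Pr

end Cfsg.Agent.H18
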