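import Cfsg.Agent.H18.FL1

/-!
# Modules for groups generated by two conjugates of a quadratic subgroup, part 2 (helper18)
-/

set_option autoImplicit false
set_option linter.style.haveILetI false

namespace Cfsg.Agent.H18

namespace NS

variable {E : Type*} [Group E] {Y A : Subgroup E}

theorem mem_norm_iff {Y : Subgroup E} {x : E} : x ∈ Subgroup.normalizer (Y : Set E) ↔ cj x Y = Y :=
  H2.map_conj_eq_self_iff.symm

theorem cj_le_iff {Y X : Subgroup E} {x : E} : cj x Y ≤ X ↔ Y ≤ cj x⁻¹ X := by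
  constructor
  · intro h y hy
    rw [mem_cj]
    apply h
    rw [mem_cj]
    have : x⁻¹ * (x⁻¹⁻¹ * y * x⁻¹) * x = y := by group
    rw [this]; exact hy
  · intro h y hy
    rw [mem_cj] at hy
    have := h hy
    rw [mem_cj] at this
    have h2 : x⁻¹⁻¹ * (x⁻¹ * y * x) * x⁻¹ = y := by group
    rw [h2] at this
    exact this

theorem cj_top (x : E) : cj x (⊤ : Subgroup E) = ⊤ := by
  rw [eq_top_iff]
  intro y _
  rw [mem_cj]; trivial

theorem cj_cj (x y : E) (Y : Subgroup E) : cj x (cj y Y) = cj (x * y) Y := (H2.map_conj_mul Y x y).symm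

theorem cj_sup (x : E) (X Y : Subgroup E) : cj x (X ⊔ Y) = cj x X ⊔ cj x Y := Subgroup.map_sup _ _ _

theorem cj_one (Y : Subgroup E) : cj 1 Y = Y := H2.map_conj_one Y

/-- two distinct conjugates generate -/
theorem sup [Finite E] (h : NS Y A) {x : E} (hx : x ∉ Subgroup.normalizer (Y : Set E)) :
    Y ⊔ cj x Y = ⊤ := by
  by_contra hne
  set N := Subgroup.normalizer (Y : Set E) with hN
  have hYN : Y ≤ N := Subgroup.le_normalizer
  have h1 : Y ⊔ cj x Y ≤ N := h.max _ le_sup_left hne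
  -- conjugate back
  have h2 : Y ⊔ cj x⁻¹ Y ≤ N := by
    apply h.max _ le_sup_left
    intro htop
    apply hne
    have h3 : cj x (Y ⊔ cj x⁻¹ Y) = ⊤ := by rw [htop, cj_top]
    rw [cj_sup, cj_cj, mul_inv_cancel, cj_one, sup_comm] at h3
    exact h3
  have h3 : cj x N ≤ N := by
    apply h.max
    · have h4 := le_sup_right.trans h2
      rw [cj_le_iff, inv_inv] at h4
      exact h4
    · intro htop
      apply h.nn
      rw [← hN]
      have h5 : cj x⁻¹ (cj x N) = ⊤ := by rw [htop, cj_top]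
      rwa [cj_cj, inv_mul_cancel, cj_one] at h5
  have h4 : cj x N = N := Subgroup.eq_of_le_of_card_ge h3 (by
    unfold cj
    rw [Subgroup.card_map_of_injective (MulAut.conj x).injective])
  have h5 : x ∈ Subgroup.normalizer (N : Set E) := mem_norm_iff.2 h4
  have h6 : Subgroup.normalizer (N : Set E) = ⊤ := by
    by_contra h7
    exact hx (h.max _ (hYN.trans Subgroup.le_normalizer) h7 h5)
  haveI : N.Normal := Subgroup.normalizer_eq_top_iff.1 h6
  apply h.nn
  rw [eq_top_iff, ← h.gen]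
  exact Subgroup.normalClosure_le_normal hYN

theorem inf_le_center [Finite E] (h : NS Y A) {x : E} (hx : x ∉ Subgroup.normalizer (Y : Set E)) :
    Y ⊓ cj x Y ≤ Subgroup.center E := by
  intro g hg
  obtain ⟨h1, h2⟩ := Subgroup.mem_inf.1 hg
  have h3 : Y ⊔ cj x Y ≤ Subgroup.centralizer {g} := by
    refine sup_le ?_ ?_
    · intro y hy
      rw [Subgroup.mem_centralizer_singleton_iff]
      exact h.ab y hy g h1
    · intro y hy
      rw [Subgroup.mem_centralizer_singleton_iff]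
      rw [mem_cj] at hy h2
      have h4 := h.ab _ hy _ h2
      have h5 : x * (x⁻¹ * y * x * (x⁻¹ * g * x)) * x⁻¹ = x * (x⁻¹ * g * x * (x⁻¹ * y * x)) * x⁻¹ := by
        rw [h4]
      calc y * g = x * (x⁻¹ * y * x * (x⁻¹ * g * x)) * x⁻¹ := by group
        _ = x * (x⁻¹ * g * x * (x⁻¹ * y * x)) * x⁻¹ := h5
        _ = g * y := by group
  rw [h.sup hx] at h3
  rw [Subgroup.mem_center_iff]
  intro y
  have := h3 (Subgroup.mem_top y)
  rw [Subgroup.mem_centralizer_singleton_iff] at this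
  exact this

/-- the pair -/
theorem pr [Finite E] (h : NS Y A)
    (hd : ∀ x, x ∉ Subgroup.normalizer (Y : Set E) → ∀ g, g ∈ Y → g ∈ cj x Y → g = 1)
    (hTI : ∀ y ∈ Y, y ∉ A → ∀ x, x ∉ Subgroup.normalizer (Y : Set E) →
      y ∉ Subgroup.normalizer ((cj x Y : Subgroup E) : Set E))
    {x : E} (hx : x ∉ Subgroup.normalizer (Y : Set E)) : Pr Y (cj x Y) A := by
  have hnA := h.nA
  have hcjA : ∀ a ∈ A, ∀ g : E, g * a * g⁻¹ ∈ A := fun a ha g => hnA.conj_mem a ha g
  have hcjA' : ∀ a ∈ A, ∀ g : E, g⁻¹ * a * g ∈ A := fun a ha g => by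
    have := hcjA a ha g⁻¹
    rwa [inv_inv] at this
  have hAN : ∀ a ∈ A, ∀ y ∈ Y, a * y * a⁻¹ ∈ Y := fun a ha y hy =>
    (Subgroup.mem_normalizer_iff.1 (h.AN ha) y).1 hy
  have hAN2 : ∀ a ∈ A, ∀ y ∈ cj x Y, a * y * a⁻¹ ∈ cj x Y := by
    intro a ha y hy
    rw [mem_cj] at hy ⊢
    have := hAN _ (hcjA' a ha x) _ hy
    have e : x⁻¹ * a * x * (x⁻¹ * y * x) * (x⁻¹ * a * x)⁻¹ = x⁻¹ * (a * y * a⁻¹) * x := by group
    rwa [e] at this
  -- the inverse is not in the normalizer either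
  have hx' : x⁻¹ ∉ Subgroup.normalizer (Y : Set E) := fun h1 => hx (by
    have := inv_mem h1
    rwa [inv_inv] at this)
  have hsup := h.sup hx
  -- centralized elements
  have hinj : ∀ x, x ∉ Subgroup.normalizer (Y : Set E) → ∀ y ∈ Y, y ∉ A → ∀ v, v ∈ cj x Y →
      y * v = v * y → v = 1 := by
    intro x hx y hy hyA v hv hyv
    have h1 : Subgroup.zpowers y ⊔ cj x Y = ⊤ := by
      by_contra hne
      have hmax2 : cj x⁻¹ (Subgroup.zpowers y ⊔ cj x Y) ≤ Subgroup.normalizer (Y : Set E) := by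
        apply h.max
        · rw [cj_sup, cj_cj, inv_mul_cancel, cj_one]; exact le_sup_right
        · intro htop
          apply hne
          have := congrArg (cj x) htop
          rwa [cj_cj, mul_inv_cancel, cj_one, cj_top] at this
      have h2 : y ∈ Subgroup.zpowers y ⊔ cj x Y := Subgroup.mem_sup_left (Subgroup.mem_zpowers y)
      have h3 : x⁻¹ * y * x ∈ cj x⁻¹ (Subgroup.zpowers y ⊔ cj x Y) := by
        rw [mem_cj]
        have : x⁻¹⁻¹ * (x⁻¹ * y * x) * x⁻¹ = y := by group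
        rw [this]; exact h2
      have h4 := hmax2 h3
      apply hTI y hy hyA x hx
      rw [mem_norm_iff] at h4 ⊢
      rw [cj_cj]
      have h5 : cj x (cj (x⁻¹ * y * x) Y) = cj x Y := by rw [h4]
      rw [cj_cj] at h5
      have e : x * (x⁻¹ * y * x) = y * x := by group
      rwa [e] at h5
    have h2 : Subgroup.zpowers y ⊔ cj x Y ≤ Subgroup.centralizer {v} := by
      refine sup_le ?_ ?_
      · rw [Subgroup.zpowers_le, Subgroup.mem_centralizer_singleton_iff]; exact hyv
      · intro w hw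
        rw [Subgroup.mem_centralizer_singleton_iff]
        rw [mem_cj] at hw hv
        have h4 := h.ab _ hw _ hv
        calc w * v = x * (x⁻¹ * w * x * (x⁻¹ * v * x)) * x⁻¹ := by group
          _ = x * (x⁻¹ * v * x * (x⁻¹ * w * x)) * x⁻¹ := by rw [h4]
          _ = v * w := by group
    rw [h1] at h2
    have hvx : x * v = v * x := by
      have := h2 (Subgroup.mem_top x)
      rwa [Subgroup.mem_centralizer_singleton_iff] at this
    have hvY : v ∈ Y := by
      have := mem_cj.1 hv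
      have e : x⁻¹ * v * x = v := by rw [mul_assoc, ← hvx]; group
      rwa [e] at this
    exact hd x hx v hvY hv
  refine ⟨hcjA, h.ab, ?_, hAN, hAN2, hd x hx, ?_, ?_, ?_⟩
  · intro a ha b hb
    rw [mem_cj] at ha hb
    have h4 := h.ab _ ha _ hb
    calc a * b = x * (x⁻¹ * a * x * (x⁻¹ * b * x)) * x⁻¹ := by group
      _ = x * (x⁻¹ * b * x * (x⁻¹ * a * x)) * x⁻¹ := by rw [h4]
      _ = b * a := by group
  · -- decomposition
    set B := (Y ⊓ A) ⊔ (cj x Y ⊓ A) with hB
    have hBA : B ≤ A := sup_le inf_le_right inf_le_right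
    -- commutators
    have hcom : ∀ y ∈ Y, ∀ v ∈ A, y * v * y⁻¹ * v⁻¹ ∈ Y ⊓ A := by
      intro y hy v hv
      refine Subgroup.mem_inf.2 ⟨?_, A.mul_mem (hcjA v hv y) (A.inv_mem hv)⟩
      have : y * v * y⁻¹ * v⁻¹ = y * (v * y⁻¹ * v⁻¹) := by group
      rw [this]
      exact Y.mul_mem hy (hAN v hv _ (Y.inv_mem hy))
    have hcom2 : ∀ y ∈ cj x Y, ∀ v ∈ A, y * v * y⁻¹ * v⁻¹ ∈ cj x Y ⊓ A := by
      intro y hy v hv
      refine Subgroup.mem_inf.2 ⟨?_, A.mul_mem (hcjA v hv y) (A.inv_mem hv)⟩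
      have : y * v * y⁻¹ * v⁻¹ = y * (v * y⁻¹ * v⁻¹) := by group
      rw [this]
      exact (cj x Y).mul_mem hy (hAN2 v hv _ ((cj x Y).inv_mem hy))
    have hn1 : Y ≤ Subgroup.normalizer (B : Set E) := by
      intro y hy
      rw [mem_norm_iff]
      apply Subgroup.eq_of_le_of_card_ge
      · rintro _ ⟨b, hb, rfl⟩
        change y * b * y⁻¹ ∈ B
        have h1 : y * b * y⁻¹ = (y * b * y⁻¹ * b⁻¹) * b := by group
        rw [h1]
        exact B.mul_mem (Subgroup.mem_sup_left (hcom y hy b (hBA hb))) hb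
      · unfold cj
        rw [Subgroup.card_map_of_injective (MulAut.conj y).injective]
    have hn2 : cj x Y ≤ Subgroup.normalizer (B : Set E) := by
      intro y hy
      rw [mem_norm_iff]
      apply Subgroup.eq_of_le_of_card_ge
      · rintro _ ⟨b, hb, rfl⟩
        change y * b * y⁻¹ ∈ B
        have h1 : y * b * y⁻¹ = (y * b * y⁻¹ * b⁻¹) * b := by group
        rw [h1]
        exact B.mul_mem (Subgroup.mem_sup_right (hcom2 y hy b (hBA hb))) hb
      · unfold cj
        rw [Subgroup.card_map_of_injective (MulAut.conj y).injective]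
    have hnt : Subgroup.normalizer (B : Set E) = ⊤ := by
      rw [eq_top_iff, ← hsup]; exact sup_le hn1 hn2
    haveI : B.Normal := Subgroup.normalizer_eq_top_iff.1 hnt
    have hAB : A ≤ B := h.ncl.trans (Subgroup.normalClosure_le_normal (by
      intro g hg; exact Subgroup.mem_sup_left hg))
    intro a ha
    have h1 := hAB ha
    have hnorm : cj x Y ⊓ A ≤ Subgroup.normalizer ((Y ⊓ A : Subgroup E) : Set E) := by
      intro v hv
      have hvA := (Subgroup.mem_inf.1 hv).2
      rw [mem_norm_iff]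
      apply Subgroup.eq_of_le_of_card_ge
      · rintro _ ⟨b, hb, rfl⟩
        change v * b * v⁻¹ ∈ Y ⊓ A
        exact Subgroup.mem_inf.2 ⟨hAN v hvA b (Subgroup.mem_inf.1 hb).1,
          hcjA b (Subgroup.mem_inf.1 hb).2 v⟩
      · unfold cj
        rw [Subgroup.card_map_of_injective (MulAut.conj v).injective]
    rw [← SetLike.mem_coe, hB, Subgroup.coe_mul_of_right_le_normalizer_left _ _ hnorm] at h1
    obtain ⟨u, hu, v, hv, huv⟩ := h1
    obtain ⟨hu1, hu2⟩ := Subgroup.mem_inf.1 hu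
    obtain ⟨hv1, hv2⟩ := Subgroup.mem_inf.1 hv
    exact ⟨u, v, hu1, hu2, hv1, hv2, huv.symm⟩
  · intro y hy hyA v hv _ hyv
    exact hinj x hx y hy hyA v hv hyv
  · intro y hy hyA v hv _ hyv
    -- conjugate by `x⁻¹`
    have h1 := hinj x⁻¹ hx' (x⁻¹ * y * x) (mem_cj.1 hy) (fun h1 => hyA (by
      have := hcjA _ h1 x
      have e : x * (x⁻¹ * y * x) * x⁻¹ = y := by group
      rwa [e] at this)) (x⁻¹ * v * x) (by
        rw [mem_cj]
        have e : x⁻¹⁻¹ * (x⁻¹ * v * x) * x⁻¹ = v := by group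
        rwa [e]) (by
        calc x⁻¹ * y * x * (x⁻¹ * v * x) = x⁻¹ * (y * v) * x := by group
          _ = x⁻¹ * (v * y) * x := by rw [hyv]
          _ = x⁻¹ * v * x * (x⁻¹ * y * x) := by group)
    calc v = x * (x⁻¹ * v * x) * x⁻¹ := by group
      _ = 1 := by rw [h1]; group

end NS

end Cfsg.Agent.H18
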