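import Cfsg.Agent.H18.FL2

/-!
# Modules for groups generated by two conjugates of a quadratic subgroup, part 3 (helper18)
-/

set_option autoImplicit false
set_option linter.style.haveILetI false

universe u v

namespace Cfsg.Agent.H18

namespace NS

theorem map_cj {E M : Type*} [Group E] [Group M] (f : E →* M) (x : E) (Y : Subgroup E) :
    (cj x Y).map f = cj (f x) (Y.map f) := by
  ext g
  rw [mem_cj]
  constructor
  · rintro ⟨y, hy, rfl⟩
    exact ⟨x⁻¹ * y * x, mem_cj.1 hy, by simp⟩
  · rintro ⟨y, hy, hyg⟩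
    refine ⟨x * y * x⁻¹, ?_, ?_⟩
    · rw [SetLike.mem_coe, mem_cj]
      have : x⁻¹ * (x * y * x⁻¹) * x = y := by group
      rw [this]; exact hy
    · rw [map_mul, map_mul, map_inv, hyg]; group

theorem map_norm_le {E M : Type*} [Group E] [Group M] (f : E →* M) (Y : Subgroup E) {x : E}
    (hx : x ∈ Subgroup.normalizer (Y : Set E)) :
    f x ∈ Subgroup.normalizer ((Y.map f : Subgroup M) : Set M) := by
  rw [mem_norm_iff] at hx ⊢
  rw [← map_cj, hx]

variable {E : Type*} [Group E] {Y A : Subgroup E}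

/-- the normalizer of the image -/
theorem norm_of_map {M : Type*} [Group M] (h : NS Y A) (π : E →* M) (hs : Function.Surjective π)
    (hker : π.ker = A) {x : E} (hx : π x ∈ Subgroup.normalizer ((Y.map π : Subgroup M) : Set M)) :
    x ∈ Subgroup.normalizer (Y : Set E) := by
  have h1 : (Subgroup.normalizer ((Y.map π : Subgroup M) : Set M)).comap π ≤
      Subgroup.normalizer (Y : Set E) := by
    apply h.max
    · intro y hy
      exact Subgroup.le_normalizer (Subgroup.mem_map_of_mem π hy)
    · intro htop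
      have h2 : Subgroup.normalizer ((Y.map π : Subgroup M) : Set M) = ⊤ := by
        rw [← Subgroup.comap_top π] at htop
        exact Subgroup.comap_injective hs htop
      haveI : (Y.map π).Normal := Subgroup.normalizer_eq_top_iff.1 h2
      have h3 : (Y.map π).comap π = ⊤ := by
        rw [eq_top_iff, ← h.gen]
        exact Subgroup.normalClosure_le_normal (Subgroup.le_comap_map π Y)
      rw [Subgroup.comap_map_eq, hker] at h3
      apply h.nn
      rw [eq_top_iff, ← h3]
      exact sup_le Subgroup.le_normalizer h.AN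
  exact h1 hx

/-- TI condition from the quotient -/
theorem ti_of {M : Type*} [Group M] (h : NS Y A) (π : E →* M) (hs : Function.Surjective π)
    (hker : π.ker = A) (hTI : ∀ y ∈ Y.map π, y ≠ 1 → ∀ x,
      x ∉ Subgroup.normalizer ((Y.map π : Subgroup M) : Set M) →
      y ∉ Subgroup.normalizer ((cj x (Y.map π) : Subgroup M) : Set M)) :
    ∀ y ∈ Y, y ∉ A → ∀ x, x ∉ Subgroup.normalizer (Y : Set E) →
      y ∉ Subgroup.normalizer ((cj x Y : Subgroup E) : Set E) := by
  intro y hy hyA x hx hcon
  apply hTI (π y) (Subgroup.mem_map_of_mem π hy) (fun h1 => hyA (by rw [← hker]; exact h1)) (π x)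
    (fun h1 => hx (h.norm_of_map π hs hker h1))
  rw [← map_cj]
  exact map_norm_le π _ hcon

end NS

/-- reduction to trivial intersections -/
theorem frakL_transfer {L : Type u} {M : Type v} [Group L] [Finite L] [Group M] {Y A : Subgroup L}
    (h : NS Y A) (hCA : Y ⊓ Subgroup.center L ≤ A) (π : L →* M) (hs : Function.Surjective π)
    (hker : π.ker = A) (p : ℕ)
    (H : ∀ (E : Type u) [Group E] [Finite E] (Y' A' : Subgroup E) (π' : E →* M), NS Y' A' →
      (∀ x, x ∉ Subgroup.normalizer (Y' : Set E) → ∀ g, g ∈ Y' → g ∈ cj x Y' → g = 1) →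
      Function.Surjective π' → π'.ker = A' → Y'.map π' = Y.map π →
      ∀ h a, a ∈ A' → h * a = a * h → a = 1 ∨ ∃ n : ℕ, (π' h) ^ (p ^ n) = 1) :
    ∀ g : L, ∀ a ∈ A, g * a * g⁻¹ * a⁻¹ ∈ Y ⊓ Subgroup.center L →
      a ∈ Y ⊓ Subgroup.center L ∨ ∃ n : ℕ, (π g) ^ (p ^ n) = 1 := by
  set C := Y ⊓ Subgroup.center L with hC
  have hCn : C.Normal := by
    constructor
    intro c hc g
    have h1 := (Subgroup.mem_inf.1 hc).2
    rw [Subgroup.mem_center_iff] at h1
    rw [h1 g]
    simpa using hc
  let q := QuotientGroup.mk' C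
  have hq : Function.Surjective q := QuotientGroup.mk'_surjective C
  have hqk : q.ker = C := QuotientGroup.ker_mk' C
  have hCY : C ≤ Y := inf_le_left
  have hcomY : (Y.map q).comap q = Y := by
    rw [Subgroup.comap_map_eq, hqk]; exact sup_eq_left.2 hCY
  have hcomA : (A.map q).comap q = A := by
    rw [Subgroup.comap_map_eq, hqk]; exact sup_eq_left.2 hCA
  have hnA := h.nA
  have hnorm : ∀ x, q x ∈ Subgroup.normalizer ((Y.map q : Subgroup (L ⧸ C)) : Set (L ⧸ C)) →
      x ∈ Subgroup.normalizer (Y : Set L) := by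
    intro x hx
    rw [Subgroup.mem_normalizer_iff] at hx ⊢
    intro y
    have h1 := hx (q y)
    rw [← map_inv, ← map_mul, ← map_mul] at h1
    have e1 : q y ∈ Y.map q ↔ y ∈ Y := by
      constructor
      · intro h2; rw [← hcomY]; exact h2
      · intro h2; exact Subgroup.mem_map_of_mem q h2
    have e2 : q (x * y * x⁻¹) ∈ Y.map q ↔ x * y * x⁻¹ ∈ Y := by
      constructor
      · intro h2; rw [← hcomY]; exact h2
      · intro h2; exact Subgroup.mem_map_of_mem q h2
    exact e1.symm.trans (h1.trans e2)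
  have hNS : NS (Y.map q) (A.map q) := by
    refine ⟨hnA.map q hq, ?_, ?_, ?_, ?_, ?_, ?_⟩
    · rintro _ ⟨x, hx, rfl⟩ _ ⟨y, hy, rfl⟩
      rw [← map_mul, h.ab x hx y hy, map_mul]
    · rintro _ ⟨a, ha, rfl⟩
      exact NS.map_norm_le q Y (h.AN ha)
    · rintro _ ⟨a, ha, rfl⟩
      have h1 : A.map q ≤ (Subgroup.normalClosure ((Y ⊓ A : Subgroup L) : Set L)).map q :=
        Subgroup.map_mono h.ncl
      refine (h1.trans ?_) (Subgroup.mem_map_of_mem q ha)
      rw [Subgroup.map_normalClosure _ _ hq]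
      apply Subgroup.normalClosure_mono
      rintro _ ⟨y, hy, rfl⟩
      exact ⟨Subgroup.mem_map_of_mem q (Subgroup.mem_inf.1 hy).1,
        Subgroup.mem_map_of_mem q (Subgroup.mem_inf.1 hy).2⟩
    · intro X hX hne
      have h1 : X.comap q ≤ Subgroup.normalizer (Y : Set L) := by
        apply h.max
        · intro y hy; exact hX (Subgroup.mem_map_of_mem q hy)
        · intro htop
          apply hne
          rw [← Subgroup.comap_top q] at htop
          exact Subgroup.comap_injective hq htop
      intro x hx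
      obtain ⟨y, rfl⟩ := hq x
      exact NS.map_norm_le q Y (h1 hx)
    · intro htop
      apply h.nn
      rw [eq_top_iff]
      intro x _
      exact hnorm x (by rw [htop]; trivial)
    · have h1 := congrArg (Subgroup.map q) h.gen
      rw [Subgroup.map_normalClosure _ _ hq, Subgroup.map_top_of_surjective q hq] at h1
      exact h1
  have hd : ∀ x, x ∉ Subgroup.normalizer ((Y.map q : Subgroup (L ⧸ C)) : Set (L ⧸ C)) →
      ∀ g, g ∈ Y.map q → g ∈ cj x (Y.map q) → g = 1 := by
    intro x hx g hg hgx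
    obtain ⟨x, rfl⟩ := hq x
    obtain ⟨y, hy, rfl⟩ := hg
    have hx' : x ∉ Subgroup.normalizer (Y : Set L) := fun h1 => hx (NS.map_norm_le q Y h1)
    have h1 : y ∈ cj x Y := by
      rw [mem_cj] at hgx ⊢
      rw [← map_inv, ← map_mul, ← map_mul] at hgx
      rw [← hcomY]; exact hgx
    have h2 := h.inf_le_center hx' (Subgroup.mem_inf.2 ⟨hy, h1⟩)
    have h3 : y ∈ q.ker := by rw [hqk]; exact Subgroup.mem_inf.2 ⟨hy, h2⟩
    exact h3
  have hCk : C ≤ π.ker := by rw [hker]; exact hCA
  let π' : L ⧸ C →* M := QuotientGroup.lift C π hCk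
  have hπ' : ∀ x, π' (q x) = π x := fun x => rfl
  have hs' : Function.Surjective π' := by
    intro m
    obtain ⟨x, rfl⟩ := hs m
    exact ⟨q x, rfl⟩
  have hk' : π'.ker = A.map q := by
    ext g
    obtain ⟨x, rfl⟩ := hq g
    rw [MonoidHom.mem_ker, hπ', ← MonoidHom.mem_ker, hker]
    constructor
    · intro h1; exact Subgroup.mem_map_of_mem q h1
    · intro h1; rw [← hcomA]; exact h1
  have hm' : (Y.map q).map π' = Y.map π := by
    rw [Subgroup.map_map]; rfl
  intro g a ha hga
  have h1 : q g * q a = q a * q g := by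
    have h2 : q (g * a * g⁻¹ * a⁻¹) = 1 := by
      have h3 : g * a * g⁻¹ * a⁻¹ ∈ q.ker := by rw [hqk]; exact hga
      exact h3
    rw [map_mul, map_inv, mul_inv_eq_one, map_mul, map_inv] at h2
    rw [← mul_inv_eq_iff_eq_mul]
    rw [map_mul] at h2
    exact h2
  rcases H (L ⧸ C) (Y.map q) (A.map q) π' hNS hd hs' hk' hm' (q g) (q a)
    (Subgroup.mem_map_of_mem q ha) h1 with h2 | ⟨n, h2⟩
  · left
    have : a ∈ q.ker := h2
    rwa [hqk] at this
  · right; exact ⟨n, h2⟩

end Cfsg.Agent.H18
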