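import Cfsg.Agent.H18.FL3
import Cfsg.Agent.H5.SL2

/-!
# Modules for groups generated by two conjugates of a quadratic subgroup: SL₂ (helper18)
-/

set_option autoImplicit false
set_option linter.style.haveILetI false

universe u v

namespace Cfsg.Agent.H18

open Matrix

namespace FLS

variable {F : Type*} [Field F]

/-- upper unitriangular -/
def Xu (t : F) : SpecialLinearGroup (Fin 2) F := ⟨!![1, t; 0, 1], by simp [Matrix.det_fin_two_of]⟩
/-- lower unitriangular -/
def Xl (t : F) : SpecialLinearGroup (Fin 2) F := ⟨!![1, 0; t, 1], by simp [Matrix.det_fin_two_of]⟩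
/-- Weyl element -/
def Wy : SpecialLinearGroup (Fin 2) F := ⟨!![0, 1; -1, 0], by simp [Matrix.det_fin_two_of]⟩

theorem ext2 {g h : SpecialLinearGroup (Fin 2) F} (h1 : g.1 0 0 = h.1 0 0) (h2 : g.1 0 1 = h.1 0 1)
    (h3 : g.1 1 0 = h.1 1 0) (h4 : g.1 1 1 = h.1 1 1) : g = h := by
  apply Subtype.ext
  ext i j
  fin_cases i <;> fin_cases j <;> assumption

theorem det2 (g : SpecialLinearGroup (Fin 2) F) : g.1 0 0 * g.1 1 1 - g.1 0 1 * g.1 1 0 = 1 := by
  have := g.2
  rwa [Matrix.det_fin_two] at this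

theorem mul00 (g h : SpecialLinearGroup (Fin 2) F) :
    (g * h).1 0 0 = g.1 0 0 * h.1 0 0 + g.1 0 1 * h.1 1 0 := by
  simp [SpecialLinearGroup.coe_mul, Matrix.mul_apply, Fin.sum_univ_two]
theorem mul01 (g h : SpecialLinearGroup (Fin 2) F) :
    (g * h).1 0 1 = g.1 0 0 * h.1 0 1 + g.1 0 1 * h.1 1 1 := by
  simp [SpecialLinearGroup.coe_mul, Matrix.mul_apply, Fin.sum_univ_two]
theorem mul10 (g h : SpecialLinearGroup (Fin 2) F) :
    (g * h).1 1 0 = g.1 1 0 * h.1 0 0 + g.1 1 1 * h.1 1 0 := by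
  simp [SpecialLinearGroup.coe_mul, Matrix.mul_apply, Fin.sum_univ_two]
theorem mul11 (g h : SpecialLinearGroup (Fin 2) F) :
    (g * h).1 1 1 = g.1 1 0 * h.1 0 1 + g.1 1 1 * h.1 1 1 := by
  simp [SpecialLinearGroup.coe_mul, Matrix.mul_apply, Fin.sum_univ_two]

theorem inv_entries (g : SpecialLinearGroup (Fin 2) F) : (g⁻¹).1 0 0 = g.1 1 1 ∧
    (g⁻¹).1 0 1 = - g.1 0 1 ∧ (g⁻¹).1 1 0 = - g.1 1 0 ∧ (g⁻¹).1 1 1 = g.1 0 0 := by
  rw [SpecialLinearGroup.SL2_inv_expl]
  exact ⟨rfl, rfl, rfl, rfl⟩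

theorem Xu_mul (s t : F) : Xu s * Xu t = Xu (s + t) := by
  apply ext2
  · rw [mul00]; simp [Xu]
  · rw [mul01]; simp [Xu]; ring
  · rw [mul10]; simp [Xu]
  · rw [mul11]; simp [Xu]

theorem Xl_mul (s t : F) : Xl s * Xl t = Xl (s + t) := by
  apply ext2
  · rw [mul00]; simp [Xl]
  · rw [mul01]; simp [Xl]
  · rw [mul10]; simp [Xl]
  · rw [mul11]; simp [Xl]

theorem Xu_eq_one {t : F} : Xu t = 1 ↔ t = 0 := by
  constructor
  · intro h
    have := congrArg (fun g : SpecialLinearGroup (Fin 2) F => g.1 0 1) h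
    simpa [Xu] using this
  · rintro rfl
    apply ext2 <;> simp [Xu]

theorem Xl_eq_one {t : F} : Xl t = 1 ↔ t = 0 := by
  constructor
  · intro h
    have := congrArg (fun g : SpecialLinearGroup (Fin 2) F => g.1 1 0) h
    simpa [Xl] using this
  · rintro rfl
    apply ext2 <;> simp [Xl]

theorem Wy_conj (t : F) : Wy⁻¹ * Xl t * Wy = Xu (-t) := by
  obtain ⟨h1, h2, h3, h4⟩ := inv_entries (Wy : SpecialLinearGroup (Fin 2) F)
  apply ext2
  · rw [mul00, mul00, mul01, h1, h2]; simp [Xl, Xu, Wy]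
  · rw [mul01, mul00, mul01, h1, h2]; simp [Xl, Xu, Wy]
  · rw [mul10, mul10, mul11, h3, h4]; simp [Xl, Xu, Wy]
  · rw [mul11, mul10, mul11, h3, h4]; simp [Xl, Xu, Wy]

theorem factor_u {g : SpecialLinearGroup (Fin 2) F} (hg : g.1 1 0 ≠ 0) :
    g = Xu ((g.1 0 0 - 1) / g.1 1 0) * Xl (g.1 1 0) * Xu ((g.1 1 1 - 1) / g.1 1 0) := by
  have hd := det2 g
  apply ext2
  · rw [mul00, mul00, mul01]; simp [Xl, Xu]; field_simp; ring
  · rw [mul01, mul00, mul01]; simp [Xl, Xu]; field_simp; linear_combination -hd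
  · rw [mul10, mul10, mul11]; simp [Xl, Xu]
  · rw [mul11, mul10, mul11]; simp [Xl, Xu]; field_simp; ring

theorem factor_l {g : SpecialLinearGroup (Fin 2) F} (hg : g.1 0 1 ≠ 0) :
    g = Xl ((g.1 1 1 - 1) / g.1 0 1) * Xu (g.1 0 1) * Xl ((g.1 0 0 - 1) / g.1 0 1) := by
  have hd := det2 g
  apply ext2
  · rw [mul00, mul00, mul01]; simp [Xl, Xu]; field_simp; ring
  · rw [mul01, mul00, mul01]; simp [Xl, Xu]
  · rw [mul10, mul10, mul11]; simp [Xl, Xu]; field_simp; linear_combination -hd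
  · rw [mul11, mul10, mul11]; simp [Xl, Xu]; field_simp; ring

/-- the group of upper unitriangular matrices -/
def UU : Subgroup (SpecialLinearGroup (Fin 2) F) where
  carrier := {g | ∃ t, g = Xu t}
  one_mem' := ⟨0, (Xu_eq_one.2 rfl).symm⟩
  mul_mem' := by rintro _ _ ⟨s, rfl⟩ ⟨t, rfl⟩; exact ⟨s + t, Xu_mul s t⟩
  inv_mem' := by
    rintro _ ⟨s, rfl⟩
    exact ⟨-s, inv_eq_of_mul_eq_one_right (by rw [Xu_mul, add_neg_cancel]; exact Xu_eq_one.2 rfl)⟩

theorem conj_Xu10 (g : SpecialLinearGroup (Fin 2) F) (t : F) :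
    (g * Xu t * g⁻¹).1 1 0 = - (t * (g.1 1 0) ^ 2) := by
  obtain ⟨h1, h2, h3, h4⟩ := inv_entries g
  rw [mul10, mul10, mul11, h1, h3]; simp [Xu]; ring

theorem conj_Xu (g : SpecialLinearGroup (Fin 2) F) (hg : g.1 1 0 = 0) (t : F) :
    g * Xu t * g⁻¹ = Xu (t * (g.1 0 0) ^ 2) := by
  obtain ⟨h1, h2, h3, h4⟩ := inv_entries g
  have hd := det2 g
  rw [hg] at hd
  simp only [mul_zero, sub_zero] at hd
  apply ext2
  · rw [mul00, mul00, mul01, h1, h3, hg]; simp [Xu, hd]
  · rw [mul01, mul00, mul01, h2, h4]; simp [Xu]; ring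
  · rw [conj_Xu10, hg]; simp [Xu]
  · rw [mul11, mul10, mul11, h2, h4, hg]; simp [Xu]; linear_combination hd

theorem mem_norm_UU {g : SpecialLinearGroup (Fin 2) F} :
    g ∈ Subgroup.normalizer ((UU : Subgroup (SpecialLinearGroup (Fin 2) F)) : Set _) ↔ g.1 1 0 = 0 := by
  constructor
  · intro h
    rw [Subgroup.mem_normalizer_iff] at h
    obtain ⟨t, ht⟩ := (h (Xu 1)).1 ⟨1, rfl⟩
    have h1 := conj_Xu10 g 1
    rw [ht] at h1
    simp [Xu] at h1
    exact h1
  · intro h
    rw [Subgroup.mem_normalizer_iff]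
    have hinv : (g⁻¹).1 1 0 = 0 := by rw [(inv_entries g).2.2.1, h, neg_zero]
    intro x
    constructor
    · rintro ⟨t, rfl⟩
      exact ⟨_, conj_Xu g h t⟩
    · rintro ⟨t, ht⟩
      refine ⟨t * ((g⁻¹).1 0 0) ^ 2, ?_⟩
      have : x = g⁻¹ * Xu t * g⁻¹⁻¹ := by rw [← ht]; group
      rw [this]
      exact conj_Xu g⁻¹ hinv t

/-- TI condition -/
theorem ti_UU : ∀ y ∈ (UU : Subgroup (SpecialLinearGroup (Fin 2) F)), y ≠ 1 → ∀ x,
    x ∉ Subgroup.normalizer ((UU : Subgroup (SpecialLinearGroup (Fin 2) F)) : Set _) →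
    y ∉ Subgroup.normalizer ((cj x UU : Subgroup (SpecialLinearGroup (Fin 2) F)) : Set _) := by
  rintro _ ⟨t, rfl⟩ ht x hx hcon
  rw [mem_norm_UU] at hx
  have ht0 : t ≠ 0 := fun h => ht (Xu_eq_one.2 h)
  rw [NS.mem_norm_iff, NS.cj_cj] at hcon
  have h1 : cj (x⁻¹ * Xu t * x) (UU : Subgroup (SpecialLinearGroup (Fin 2) F)) = UU := by
    have h2 := congrArg (cj x⁻¹) hcon
    rw [NS.cj_cj, NS.cj_cj, inv_mul_cancel, NS.cj_one, ← mul_assoc] at h2
    exact h2
  rw [← NS.mem_norm_iff, mem_norm_UU] at h1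
  have h2 := conj_Xu10 x⁻¹ t
  rw [inv_inv, h1, (inv_entries x).2.2.1] at h2
  have h3 : t * (x.1 1 0) ^ 2 = 0 := by
    have := h2.symm
    rw [neg_eq_zero, neg_sq] at this
    exact this
  rcases mul_eq_zero.1 h3 with h4 | h4
  · exact ht0 h4
  · exact hx (pow_eq_zero_iff (two_ne_zero) |>.1 h4)

theorem pow_of_trace {p : ℕ} [hp : Fact p.Prime] [CharP F p] {g : SpecialLinearGroup (Fin 2) F}
    (h : g.1 0 0 + g.1 1 1 = 2) : g ^ p = 1 := by
  have hd := det2 g
  have h1 : (g.1 - 1) ^ 2 = 0 := by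
    rw [pow_two]
    ext i j
    fin_cases i <;> fin_cases j <;>
      simp [Matrix.mul_apply, Fin.sum_univ_two, Matrix.sub_apply, Matrix.one_apply]
    · have : g.1 0 0 = 2 - g.1 1 1 := by linear_combination h
      linear_combination (g.1 0 0) * h - hd
    · linear_combination (g.1 0 1) * h
    · linear_combination (g.1 1 0) * h
    · linear_combination (g.1 1 1) * h - hd
  have h2 : (g.1 - 1) ^ p = 0 := by
    obtain ⟨k, hk⟩ := Nat.exists_eq_add_of_le hp.out.two_le
    rw [hk, pow_add, h1, zero_mul]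
  haveI : CharP (Matrix (Fin 2) (Fin 2) F) p := inferInstance
  have h3 : (g.1 - 1) ^ p = g.1 ^ p - 1 ^ p := sub_pow_char_of_commute _ (Commute.one_right g.1)
  rw [h2, one_pow] at h3
  apply Subtype.ext
  exact (Matrix.SpecialLinearGroup.coe_pow g p).trans (sub_eq_zero.1 h3.symm)

variable {E : Type u} [Group E] [Finite E] {Y A : Subgroup E}

omit [Finite E] in
theorem nondiag {x : E} (π : E →* SpecialLinearGroup (Fin 2) F) (hker : π.ker = A)
    (hY : Y.map π = UU) (hx : π x = Wy) (hP : Pr Y (cj x Y) A) {h a : E} (ha : a ∈ A)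
    (hc : h * a = a * h) (hne : (π h).1 1 0 ≠ 0 ∨ (π h).1 0 1 ≠ 0) :
    a = 1 ∨ (π h).1 0 0 + (π h).1 1 1 = 2 := by
  have hmem : ∀ t, ∃ y ∈ Y, π y = Xu t := by
    intro t
    have : Xu t ∈ Y.map π := by rw [hY]; exact ⟨t, rfl⟩
    obtain ⟨y, hy, hyt⟩ := this
    exact ⟨y, hy, hyt⟩
  have hmem2 : ∀ t, ∃ y ∈ cj x Y, π y = Xl t := by
    intro t
    obtain ⟨y, hy, hyt⟩ := hmem (-t)
    refine ⟨x * y * x⁻¹, ?_, ?_⟩
    · rw [mem_cj]
      have : x⁻¹ * (x * y * x⁻¹) * x = y := by group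
      rw [this]; exact hy
    · rw [map_mul, map_mul, map_inv, hx, hyt, ← Wy_conj]; group
  have hAk : ∀ g, g ∈ A ↔ π g = 1 := fun g => by rw [← hker]; exact MonoidHom.mem_ker
  rcases hne with hne | hne
  · obtain ⟨s, hs, hs'⟩ := hmem (((π h).1 0 0 - 1) / (π h).1 1 0)
    obtain ⟨t, ht, ht'⟩ := hmem (((π h).1 1 1 - 1) / (π h).1 1 0)
    obtain ⟨z, hz, hz'⟩ := hmem2 ((π h).1 1 0)
    have hf := factor_u hne
    have hb : (s * z * t)⁻¹ * h ∈ A := by
      rw [hAk, map_mul, map_inv, map_mul, map_mul, hs', ht', hz', ← hf]; group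
    have hzA : z ∉ A := by
      rw [hAk, hz', Xl_eq_one]; exact hne
    have hh : s * z * t * ((s * z * t)⁻¹ * h) = h := by group
    rcases hP.key hs ht hz hzA hb ha (by rw [hh]; exact hc) with h1 | h1
    · exact Or.inl h1
    · right
      rw [hAk, map_mul, hs', ht', Xu_mul, Xu_eq_one] at h1
      rw [← add_div, div_eq_zero_iff] at h1
      have h2 := h1.resolve_right hne
      linear_combination h2
  · obtain ⟨s, hs, hs'⟩ := hmem2 (((π h).1 1 1 - 1) / (π h).1 0 1)
    obtain ⟨t, ht, ht'⟩ := hmem2 (((π h).1 0 0 - 1) / (π h).1 0 1)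
    obtain ⟨z, hz, hz'⟩ := hmem ((π h).1 0 1)
    have hf := factor_l hne
    have hb : (s * z * t)⁻¹ * h ∈ A := by
      rw [hAk, map_mul, map_inv, map_mul, map_mul, hs', ht', hz', ← hf]; group
    have hzA : z ∉ A := by
      rw [hAk, hz', Xu_eq_one]; exact hne
    have hh : s * z * t * ((s * z * t)⁻¹ * h) = h := by group
    rcases hP.symm.key hs ht hz hzA hb ha (by rw [hh]; exact hc) with h1 | h1
    · exact Or.inl h1
    · right
      rw [hAk, map_mul, hs', ht', Xl_mul, Xl_eq_one] at h1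
      rw [← add_div, div_eq_zero_iff] at h1
      have h2 := h1.resolve_right hne
      linear_combination h2

theorem main (π : E →* SpecialLinearGroup (Fin 2) F) (hs : Function.Surjective π)
    (hker : π.ker = A) (hY : Y.map π = UU) (h : NS Y A)
    (hd : ∀ x, x ∉ Subgroup.normalizer (Y : Set E) → ∀ g, g ∈ Y → g ∈ cj x Y → g = 1)
    {g a : E} (ha : a ∈ A) (hc : g * a = a * g) :
    a = 1 ∨ (π g).1 0 0 + (π g).1 1 1 = 2 := by
  have hTI := h.ti_of π hs hker (by rw [hY]; exact ti_UU)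
  obtain ⟨x, hx⟩ := hs Wy
  have hxn : x ∉ Subgroup.normalizer (Y : Set E) := by
    intro h1
    have h2 := NS.map_norm_le π Y h1
    rw [hY, mem_norm_UU, hx] at h2
    simp [Wy] at h2
  have hP := h.pr hd hTI hxn
  by_cases hne : (π g).1 1 0 ≠ 0 ∨ (π g).1 0 1 ≠ 0
  · exact nondiag π hker hY hx hP ha hc hne
  · push Not at hne
    obtain ⟨h10, h01⟩ := hne
    have hdet := det2 (π g)
    rw [h10, h01] at hdet
    simp only [mul_zero, sub_zero] at hdet
    by_cases h1 : (π g).1 0 0 = 1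
    · right
      rw [h1, one_mul] at hdet
      rw [h1, hdet]; norm_num
    · left
      have hα : (π g).1 0 0 ≠ 0 := left_ne_zero_of_mul_eq_one hdet
      have hβ : (π g).1 1 1 ≠ 0 := right_ne_zero_of_mul_eq_one hdet
      have htr : ∀ α β : F, α * β = 1 → α + β = 2 → α = 1 := by
        intro α β h2 h3
        have h4 : (α - 1) ^ 2 = 0 := by
          have : β = 2 - α := by linear_combination h3
          rw [this] at h2
          linear_combination -h2
        exact sub_eq_zero.1 (pow_eq_zero_iff (two_ne_zero) |>.1 h4)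
      -- normalizers
      have hn1 : g ∈ Subgroup.normalizer (Y : Set E) := by
        apply h.norm_of_map π hs hker
        rw [hY, mem_norm_UU]; exact h10
      have hn2 : g ∈ Subgroup.normalizer ((cj x Y : Subgroup E) : Set E) := by
        have h2 : x⁻¹ * g * x ∈ Subgroup.normalizer (Y : Set E) := by
          apply h.norm_of_map π hs hker
          rw [hY, mem_norm_UU, map_mul, map_mul, map_inv, hx]
          obtain ⟨e1, e2, e3, e4⟩ := inv_entries (Wy : SpecialLinearGroup (Fin 2) F)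
          rw [mul10, mul10, mul11, e3, e4, h10, h01]
          simp [Wy]
        rw [NS.mem_norm_iff] at h2 ⊢
        have h3 := congrArg (cj x) h2
        rw [NS.cj_cj] at h3
        rw [NS.cj_cj]
        have e : x * (x⁻¹ * g * x) = g * x := by group
        rwa [e] at h3
      obtain ⟨u, v, hu, huA, hv, hvA, rfl⟩ := hP.dec a ha
      have hgu : g * u * g⁻¹ ∈ Y := (Subgroup.mem_normalizer_iff.1 hn1 u).1 hu
      have hgv : g * v * g⁻¹ ∈ cj x Y := (Subgroup.mem_normalizer_iff.1 hn2 v).1 hv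
      have e1 : (g * u * g⁻¹) * (g * v * g⁻¹) = u * v := by
        have : (g * u * g⁻¹) * (g * v * g⁻¹) = g * (u * v) * g⁻¹ := by group
        rw [this, hc]; group
      have e2 : u⁻¹ * (g * u * g⁻¹) = v * (g * v * g⁻¹)⁻¹ := by
        rw [eq_mul_inv_iff_mul_eq, mul_assoc, e1]; group
      have e3 : u⁻¹ * (g * u * g⁻¹) = 1 := by
        apply hP.disj
        · exact Y.mul_mem (Y.inv_mem hu) hgu
        · rw [e2]; exact (cj x Y).mul_mem hv ((cj x Y).inv_mem hgv)
      have e4 : v * (g * v * g⁻¹)⁻¹ = 1 := e2.symm.trans e3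
      have cu : g * u = u * g := by
        have : g * u * g⁻¹ = u := (inv_mul_eq_one.1 e3).symm
        exact mul_inv_eq_iff_eq_mul.1 this
      have cv : g * v = v * g := by
        have : g * v * g⁻¹ = v := (mul_inv_eq_one.1 e4).symm
        exact mul_inv_eq_iff_eq_mul.1 this
      -- upper
      have hmem : ∀ t, ∃ y ∈ Y, π y = Xu t := by
        intro t
        have : Xu t ∈ Y.map π := by rw [hY]; exact ⟨t, rfl⟩
        obtain ⟨y, hy, hyt⟩ := this
        exact ⟨y, hy, hyt⟩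
      obtain ⟨y, hy, hy1⟩ := hmem 1
      have hu1 : u = 1 := by
        have hcy : (g * y) * u = u * (g * y) := by
          rw [mul_assoc, h.ab y hy u hu, ← mul_assoc, cu, mul_assoc]
        have e01 : (π (g * y)).1 0 1 = (π g).1 0 0 := by
          rw [map_mul, mul01, hy1, h01]; simp [Xu]
        rcases nondiag π hker hY hx hP huA hcy (Or.inr (by rw [e01]; exact hα)) with h2 | h2
        · exact h2
        · exfalso
          rw [map_mul, mul00, mul11, hy1, h01, h10] at h2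
          simp [Xu] at h2
          exact h1 (htr _ _ hdet h2)
      obtain ⟨w, hw, hw1⟩ := hmem (-1)
      have hv1 : v = 1 := by
        set z := x * w * x⁻¹ with hz
        have hzY : z ∈ cj x Y := by
          rw [mem_cj, hz]
          have : x⁻¹ * (x * w * x⁻¹) * x = w := by group
          rw [this]; exact hw
        have hzπ : π z = Xl 1 := by
          rw [hz, map_mul, map_mul, map_inv, hx, hw1, ← Wy_conj]; group
        have hcy : (g * z) * v = v * (g * z) := by
          rw [mul_assoc, hP.ab2 z hzY v hv, ← mul_assoc, cv, mul_assoc]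
        have e10 : (π (g * z)).1 1 0 = (π g).1 1 1 := by
          rw [map_mul, mul10, hzπ, h10]; simp [Xl]
        rcases nondiag π hker hY hx hP hvA hcy (Or.inl (by rw [e10]; exact hβ)) with h2 | h2
        · exact h2
        · exfalso
          rw [map_mul, mul00, mul11, hzπ, h01, h10] at h2
          simp [Xl] at h2
          exact h1 (htr _ _ hdet h2)
      rw [hu1, hv1, one_mul]

theorem charP_of_card_pgroup {F : Type*} [Field F] [Fintype F] {p : ℕ} [hp : Fact p.Prime]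
    {G : Type*} [Group G] [Finite G] {Z : Subgroup G} (hZ : IsPGroup p Z)
    (hc : Nat.card Z = Fintype.card F) : CharP F p := by
  obtain ⟨r, hr, n, hrp, hcard⟩ := FiniteField.card' F
  obtain ⟨k, hk⟩ := IsPGroup.iff_card.1 hZ
  have h1 : r ^ (n : ℕ) = p ^ k := by rw [← hcard, ← hc, hk]
  have h2 : r ∣ p ^ k := by rw [← h1]; exact dvd_pow_self r n.pos.ne'
  have h3 : r = p := (Nat.prime_dvd_prime_iff_eq hrp hp.out).1 (hrp.dvd_of_dvd_pow h2)
  rw [← h3]; exact hr

theorem exists_conj_UU {F : Type*} [Field F] [Fintype F] {p : ℕ} [hp : Fact p.Prime] [CharP F p]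
    {Z : Subgroup (Matrix.SpecialLinearGroup (Fin 2) F)} (hZ : IsPGroup p Z)
    (hc : Nat.card Z = Fintype.card F) : ∃ c, cj c Z = UU := by
  obtain ⟨P, hP⟩ := hZ.exists_le_sylow
  have hZP : Z = P := Subgroup.eq_of_le_of_card_ge hP (by
    rw [hc]; exact (H5.card_sylow_SL2 rfl p P).le)
  obtain ⟨P₀, hP₀⟩ := H5.exists_sylow_lineStab0 (F := F) p
  have hU : (P₀ : Subgroup (Matrix.SpecialLinearGroup (Fin 2) F)) = UU := by
    rw [hP₀]
    ext g
    rw [H5.mem_lineStab0_iff]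
    constructor
    · rintro ⟨t, rfl⟩
      refine ⟨t, ?_⟩
      apply ext2 <;> simp [Matrix.SpecialLinearGroup.transvection, Xu, Matrix.transvection,
        Matrix.single_apply]
    · rintro ⟨t, rfl⟩
      refine ⟨t, ?_⟩
      apply ext2 <;> simp [Matrix.SpecialLinearGroup.transvection, Xu, Matrix.transvection,
        Matrix.single_apply]
  obtain ⟨c, hcP⟩ := MulAction.exists_smul_eq (Matrix.SpecialLinearGroup (Fin 2) F) P P₀
  refine ⟨c, ?_⟩
  rw [← hU, ← hcP, hZP]
  rfl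

theorem sl2_case {F : Type*} [Field F] [Fintype F] {p : ℕ} [hp : Fact p.Prime]
    {Z : Subgroup (Matrix.SpecialLinearGroup (Fin 2) F)} (hZ : IsPGroup p Z)
    (hc : Nat.card Z = Fintype.card F) (E : Type u) [Group E] [Finite E] (Y A : Subgroup E)
    (π : E →* Matrix.SpecialLinearGroup (Fin 2) F) (h : NS Y A)
    (hd : ∀ x, x ∉ Subgroup.normalizer (Y : Set E) → ∀ g, g ∈ Y → g ∈ cj x Y → g = 1)
    (hs : Function.Surjective π) (hker : π.ker = A) (hY : Y.map π = Z) (g a : E) (ha : a ∈ A)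
    (hga : g * a = a * g) : a = 1 ∨ ∃ n : ℕ, (π g) ^ (p ^ n) = 1 := by
  haveI := charP_of_card_pgroup (F := F) hZ hc
  obtain ⟨c, hcU⟩ := exists_conj_UU hZ hc
  let π' : E →* Matrix.SpecialLinearGroup (Fin 2) F := (MulAut.conj c).toMonoidHom.comp π
  have hs' : Function.Surjective π' := (MulAut.conj c).surjective.comp hs
  have hk' : π'.ker = A := by
    rw [← hker]
    ext x
    rw [MonoidHom.mem_ker, MonoidHom.mem_ker]
    change c * π x * c⁻¹ = 1 ↔ π x = 1
    constructor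
    · intro h1
      calc π x = c⁻¹ * (c * π x * c⁻¹) * c := by group
        _ = 1 := by rw [h1]; group
    · intro h1; rw [h1]; group
  have hY' : Y.map π' = UU := by
    rw [← hcU, ← hY]
    unfold cj
    rw [Subgroup.map_map]
  rcases main π' hs' hk' hY' h hd ha hga with h1 | h1
  · exact Or.inl h1
  · right
    refine ⟨1, ?_⟩
    rw [pow_one]
    have h2 := pow_of_trace (p := p) h1
    have h3 : (c * π g * c⁻¹) ^ p = 1 := h2
    rw [conj_pow] at h3
    calc (π g) ^ p = c⁻¹ * (c * (π g) ^ p * c⁻¹) * c := by group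
      _ = 1 := by rw [h3]; group

end FLS

end Cfsg.Agent.H18
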