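import Cfsg.Agent.H18.FL3

/-!
# Modules for groups generated by two conjugates of a quadratic subgroup: dihedral case (helper18)
-/

set_option autoImplicit false
set_option linter.style.haveILetI false

universe u v

namespace Cfsg.Agent.H18

namespace FLD

/-- generated by two involutions -/
theorem dih_cases {M : Type*} [Group M] {s t : M} (hs : s * s = 1) (ht : t * t = 1)
    (hgen : Subgroup.zpowers s ⊔ Subgroup.zpowers t = ⊤) (m : M) :
    m * m = 1 ∨ s * m * s⁻¹ = m⁻¹ := by
  have hsi : s⁻¹ = s := inv_eq_of_mul_eq_one_left hs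
  have hti : t⁻¹ = t := inv_eq_of_mul_eq_one_left ht
  set r := s * t with hr
  have hsr : s * r * s⁻¹ = r⁻¹ := by
    rw [hr, mul_inv_rev, hti, ← mul_assoc, hs, one_mul]
  have hsr' : ∀ k : ℤ, s * r ^ k * s⁻¹ = (r ^ k)⁻¹ := by
    intro k
    rw [← conj_zpow, hsr, inv_zpow]
  -- all elements are rotations or reflections
  have hmem : m ∈ Subgroup.zpowers s ⊔ Subgroup.zpowers t := by rw [hgen]; trivial
  have key : ∃ k : ℤ, m = r ^ k ∨ m = r ^ k * s := by
    rw [Subgroup.zpowers_eq_closure, Subgroup.zpowers_eq_closure, ← Subgroup.closure_union] at hmem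
    induction hmem using Subgroup.closure_induction with
    | mem x hx =>
      rcases hx with hx | hx
      · rw [Set.mem_singleton_iff] at hx
        exact ⟨0, Or.inr (by rw [hx, zpow_zero, one_mul])⟩
      · rw [Set.mem_singleton_iff] at hx
        refine ⟨-1, Or.inr ?_⟩
        rw [hx, zpow_neg_one, hr, mul_inv_rev, hti, hsi, mul_assoc, hs, mul_one]
    | one => exact ⟨0, Or.inl (by rw [zpow_zero])⟩
    | mul x y _ _ hx hy =>
      obtain ⟨k, hk⟩ := hx
      obtain ⟨l, hl⟩ := hy
      rcases hk with rfl | rfl <;> rcases hl with rfl | rfl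
      · exact ⟨k + l, Or.inl (by rw [zpow_add])⟩
      · exact ⟨k + l, Or.inr (by rw [zpow_add, mul_assoc])⟩
      · refine ⟨k - l, Or.inr ?_⟩
        have h1 : s * r ^ l = (r ^ l)⁻¹ * s := by rw [← hsr']; group
        rw [mul_assoc, h1, ← mul_assoc, ← zpow_neg, ← zpow_add, sub_eq_add_neg]
      · refine ⟨k - l, Or.inl ?_⟩
        have h1 : s * r ^ l = (r ^ l)⁻¹ * s := by rw [← hsr']; group
        calc r ^ k * s * (r ^ l * s) = r ^ k * (s * r ^ l) * s := by group
          _ = r ^ k * (r ^ l)⁻¹ * (s * s) := by rw [h1]; group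
          _ = r ^ (k - l) := by rw [hs, mul_one, ← zpow_neg, ← zpow_add, sub_eq_add_neg]
    | inv x _ hx =>
      obtain ⟨k, hk⟩ := hx
      rcases hk with rfl | rfl
      · exact ⟨-k, Or.inl (by rw [zpow_neg])⟩
      · refine ⟨k, Or.inr ?_⟩
        rw [mul_inv_rev, ← hsr' k]
        rw [hsi]
        calc s * (s * r ^ k * s) = (s * s) * r ^ k * s := by group
          _ = r ^ k * s := by rw [hs, one_mul]
  obtain ⟨k, rfl | rfl⟩ := key
  · right; exact hsr' k
  · left
    calc r ^ k * s * (r ^ k * s) = r ^ k * (s * r ^ k * s⁻¹) * (s * s) := by group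
      _ = 1 := by rw [hsr', hs]; group

theorem two_case {M : Type v} [Group M] {Z : Subgroup M} (hc : Nat.card Z = 2)
    (E : Type u) [Group E] [Finite E] (Y A : Subgroup E) (π : E →* M) (h : NS Y A)
    (hd : ∀ x, x ∉ Subgroup.normalizer (Y : Set E) → ∀ g, g ∈ Y → g ∈ cj x Y → g = 1)
    (hs : Function.Surjective π) (hker : π.ker = A) (hY : Y.map π = Z) (g a : E) (ha : a ∈ A)
    (hga : g * a = a * g) : a = 1 ∨ ∃ n : ℕ, (π g) ^ (2 ^ n) = 1 := by
  have hAk : ∀ g, g ∈ A ↔ π g = 1 := fun g => by rw [← hker]; exact MonoidHom.mem_ker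
  -- the involution
  have hZf : Finite Z := Nat.finite_of_card_ne_zero (by rw [hc]; norm_num)
  obtain ⟨t, htZ, ht1⟩ : ∃ t ∈ Z, t ≠ 1 := by
    by_contra hcon
    push Not at hcon
    have : Z = ⊥ := (Subgroup.eq_bot_iff_forall Z).2 hcon
    rw [this] at hc; simp at hc
  have htt : t * t = 1 := by
    have h1 : (⟨t, htZ⟩ : Z) ^ 2 = 1 := by rw [← hc]; exact pow_card_eq_one'
    have := congrArg Subtype.val h1
    rw [← pow_two]; simpa using this
  have hZt : ∀ z ∈ Z, z = 1 ∨ z = t := by
    intro z hz
    by_contra hcon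
    push Not at hcon
    have : Nat.card (Fin 3) ≤ Nat.card Z := by
      refine Nat.card_le_card_of_injective (fun i : Fin 3 =>
        (⟨if i = 0 then 1 else if i = 1 then t else z, by
          split_ifs
          · exact Z.one_mem
          · exact htZ
          · exact hz⟩ : Z)) ?_
      intro i j hij
      have hij := congrArg Subtype.val hij
      obtain ⟨hz1, hzt⟩ := hcon
      have hz1' := hz1.symm
      have hzt' := hzt.symm
      have ht1' := ht1.symm
      fin_cases i <;> fin_cases j <;> simp_all
    rw [hc] at this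
    simp at this
  have hZz : Z = Subgroup.zpowers t := by
    apply le_antisymm
    · intro z hz
      rcases hZt z hz with rfl | rfl
      · exact one_mem _
      · exact Subgroup.mem_zpowers _
    · exact (Subgroup.zpowers_le).2 htZ
  -- normalizer of `Z`
  have hNZ : ∀ m : M, m ∈ Subgroup.normalizer (Z : Set M) ↔ m * t = t * m := by
    intro m
    rw [Subgroup.mem_normalizer_iff]
    constructor
    · intro h1
      have h2 := (h1 t).1 htZ
      rcases hZt _ h2 with h3 | h3
      · exfalso
        apply ht1
        calc t = m⁻¹ * (m * t * m⁻¹) * m := by group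
          _ = 1 := by rw [h3]; group
      · exact mul_inv_eq_iff_eq_mul.1 h3
    · intro h1 z
      constructor
      · intro hz
        rcases hZt z hz with rfl | rfl
        · simpa using hz
        · rw [h1]; simpa using hz
      · intro hz
        have e : z = m⁻¹ * (m * z * m⁻¹) * m := by group
        rcases hZt _ hz with h2 | h2
        · rw [e, h2]; simp
        · rw [e, h2, mul_assoc, ← h1]; simpa using htZ
  -- a second conjugate
  obtain ⟨x, hx⟩ : ∃ x, x ∉ Subgroup.normalizer (Y : Set E) := by
    by_contra hcon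
    push Not at hcon
    exact h.nn (eq_top_iff.2 (fun y _ => hcon y))
  have hxM : ∀ x : E, x ∉ Subgroup.normalizer (Y : Set E) →
      Subgroup.zpowers t ⊔ Subgroup.zpowers (π x * t * (π x)⁻¹) = ⊤ := by
    intro x hx
    have h1 := congrArg (Subgroup.map π) (h.sup hx)
    rw [Subgroup.map_sup, NS.map_cj, hY, Subgroup.map_top_of_surjective π hs] at h1
    have h2 : cj (π x) Z = Subgroup.zpowers (π x * t * (π x)⁻¹) := by
      rw [hZz]
      unfold cj
      rw [MonoidHom.map_zpowers]
      rfl
    rw [h2, hZz] at h1
    exact h1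
  have hTI' : ∀ y ∈ Y.map π, y ≠ 1 → ∀ x,
      x ∉ Subgroup.normalizer ((Y.map π : Subgroup M) : Set M) →
      y ∉ Subgroup.normalizer ((cj x (Y.map π) : Subgroup M) : Set M) := by
    rw [hY]
    intro y hy hy1 x hx hcon
    have hyt := (hZt y hy).resolve_left hy1
    subst hyt
    obtain ⟨x, rfl⟩ := hs x
    have hx' : x ∉ Subgroup.normalizer (Y : Set E) := fun h1 => hx (by
      have := NS.map_norm_le π Y h1
      rwa [hY] at this)
    have hgen := hxM x hx'
    set s := π x * y * (π x)⁻¹ with hs'
    have hss : s * s = 1 := by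
      calc s * s = π x * (y * y) * (π x)⁻¹ := by rw [hs']; group
        _ = 1 := by rw [htt]; group
    have hs1 : s ≠ 1 := by
      intro h1
      apply ht1
      calc y = (π x)⁻¹ * s * π x := by rw [hs']; group
        _ = 1 := by rw [h1]; group
    have hcz : cj (π x) Z = Subgroup.zpowers s := by
      rw [hZz]
      unfold cj
      rw [MonoidHom.map_zpowers]
      rfl
    rw [hcz, Subgroup.mem_normalizer_iff] at hcon
    have h3 := (hcon s).1 (Subgroup.mem_zpowers s)
    have h4 : y * s * y⁻¹ = s := by
      -- zpowers s = {1, s}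
      rw [Subgroup.mem_zpowers_iff] at h3
      obtain ⟨k, hk⟩ := h3
      rcases Int.even_or_odd' k with ⟨l, rfl | rfl⟩
      · exfalso
        have h5 : s ^ (2 * l) = 1 := by
          rw [zpow_mul, zpow_ofNat, pow_two, hss, one_zpow]
        rw [h5] at hk
        apply hs1
        calc s = y⁻¹ * (y * s * y⁻¹) * y := by group
          _ = 1 := by rw [← hk]; group
      · have h5 : s ^ (2 * l + 1) = s := by
          rw [zpow_add, zpow_mul, zpow_ofNat, pow_two, hss, one_zpow, one_mul, zpow_one]
        rw [h5] at hk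
        exact hk.symm
    -- then everything commutes with `y`
    have h6 : Subgroup.zpowers y ⊔ Subgroup.zpowers s ≤ Subgroup.centralizer {y} := by
      refine sup_le ?_ ?_
      · rw [Subgroup.zpowers_le, Subgroup.mem_centralizer_singleton_iff]
      · rw [Subgroup.zpowers_le, Subgroup.mem_centralizer_singleton_iff]
        exact (mul_inv_eq_iff_eq_mul.1 h4).symm
    rw [hgen] at h6
    apply hx
    rw [hNZ]
    have := h6 (Subgroup.mem_top (π x))
    rwa [Subgroup.mem_centralizer_singleton_iff] at this
  have hTI := h.ti_of π hs hker hTI'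
  have hP := h.pr hd hTI hx
  -- the element s
  obtain ⟨s, hsY, hst⟩ : ∃ s ∈ Y, π s = t := by
    have : t ∈ Y.map π := by rw [hY]; exact htZ
    obtain ⟨s, hs1, hs2⟩ := this
    exact ⟨s, hs1, hs2⟩
  have hsA : s ∉ A := by rw [hAk, hst]; exact ht1
  set t' := π x * t * (π x)⁻¹ with ht'
  have htt' : t' * t' = 1 := by
    calc t' * t' = π x * (t * t) * (π x)⁻¹ := by rw [ht']; group
      _ = 1 := by rw [htt]; group
  rcases dih_cases htt htt' (hxM x hx) (π g) with hm | hm
  · right; exact ⟨1, by rw [pow_one, pow_two, hm]⟩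
  · by_cases hgN : g ∈ Subgroup.normalizer (Y : Set E)
    · right
      have h1 := NS.map_norm_le π Y hgN
      rw [hY, hNZ] at h1
      refine ⟨1, ?_⟩
      rw [← h1] at hm
      have h2 : π g = (π g)⁻¹ := by
        rw [← hm]; group
      rw [pow_one, pow_two]
      nth_rewrite 1 [h2]
      group
    · left
      have hcent : ∀ c, c ∈ A → g * c = c * g → s * c = c * s → c = 1 := by
        intro c hcA hgc hsc
        have hYc : Y ≤ Subgroup.centralizer {c} := by
          intro y hy
          rw [Subgroup.mem_centralizer_singleton_iff]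
          have h1 : π y ∈ Z := by rw [← hY]; exact Subgroup.mem_map_of_mem π hy
          rcases hZt _ h1 with h2 | h2
          · exact hP.comm ((hAk y).2 h2) hcA
          · have h3 : s⁻¹ * y ∈ A := by rw [hAk, map_mul, map_inv, hst, h2]; group
            have h4 := hP.comm h3 hcA
            calc y * c = s * (s⁻¹ * y * c) := by group
              _ = s * (c * (s⁻¹ * y)) := by rw [h4]
              _ = (s * c) * s⁻¹ * y := by group
              _ = c * y := by rw [hsc]; group
        have htop : Subgroup.centralizer {c} = ⊤ := by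
          by_contra hne
          apply hgN
          apply h.max _ hYc hne
          rw [Subgroup.mem_centralizer_singleton_iff]; exact hgc
        have hall : ∀ w, w * c = c * w := by
          intro w
          have : w ∈ Subgroup.centralizer {c} := by rw [htop]; trivial
          rwa [Subgroup.mem_centralizer_singleton_iff] at this
        obtain ⟨u, v, hu, huA, hv, hvA, rfl⟩ := hP.dec c hcA
        have hv1 : v = 1 := by
          apply hP.inj1 s hsY hsA v hv hvA
          have h6 := h.ab s hsY u hu
          have h7 : u * (s * v) = u * (v * s) := by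
            rw [← mul_assoc, ← h6, mul_assoc, hsc, mul_assoc]
          exact mul_left_cancel h7
        rw [hv1, mul_one] at hall ⊢
        apply hd x hx u hu
        rw [mem_cj, mul_assoc, ← hall x]
        simpa using hu
      set b := s * a * s⁻¹ * a⁻¹ with hb
      obtain ⟨hbY, hbA⟩ := hP.com_mem hsY ha
      rw [← hb] at hbY hbA
      have hsasA : s * a * s⁻¹ ∈ A := hP.nA a ha s
      have hb1 : b = 1 := by
        apply hcent b hbA _ (h.ab s hsY b hbY)
        -- g commutes with s a s⁻¹
        have hcA : (s * g * s⁻¹) * g ∈ A := by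
          rw [hAk, map_mul, map_mul, map_mul, map_inv, hst, hm]; group
        have h1 := hP.comm hcA hsasA
        have h2 : (s * g * s⁻¹) * (s * a * s⁻¹) = (s * a * s⁻¹) * (s * g * s⁻¹) := by
          calc (s * g * s⁻¹) * (s * a * s⁻¹) = s * (g * a) * s⁻¹ := by group
            _ = s * (a * g) * s⁻¹ := by rw [hga]
            _ = _ := by group
        have h3 : g * (s * a * s⁻¹) = (s * a * s⁻¹) * g := by
          have h4 : (s * g * s⁻¹) * (g * (s * a * s⁻¹)) = (s * g * s⁻¹) * ((s * a * s⁻¹) * g) := by
            rw [← mul_assoc, h1, ← mul_assoc, ← h2, mul_assoc]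
          exact mul_left_cancel h4
        calc g * b = g * (s * a * s⁻¹) * a⁻¹ := by rw [hb]; group
          _ = (s * a * s⁻¹) * (g * a⁻¹) := by rw [h3]; group
          _ = (s * a * s⁻¹) * (a⁻¹ * g) := by
            congr 1
            calc g * a⁻¹ = a⁻¹ * (a * g) * a⁻¹ := by group
              _ = a⁻¹ * (g * a) * a⁻¹ := by rw [hga]
              _ = a⁻¹ * g := by group
          _ = b * g := by rw [hb]; group
      apply hcent a ha hga
      rw [hb, mul_inv_eq_one] at hb1
      exact mul_inv_eq_iff_eq_mul.1 hb1

end FLD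

end Cfsg.Agent.H18
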