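import Cfsg.Agent.H18.FL3
import Cfsg.Agent.H18.ModBound6
import Cfsg.Agent.H15.SzSol6

/-!
# Modules for groups generated by two conjugates of a quadratic subgroup: Suzuki groups (helper18)
-/

set_option autoImplicit false
set_option linter.style.haveILetI false

universe u v

namespace Cfsg.Agent.H18

open Cfsg.Agent.H15.Suz Cfsg.Agent.H15.TorI Cfsg.Agent.H15.IrrLin

namespace FLZ

variable {F : Type*} [Field F] [Fintype F] {m : ℕ} [hS : SzF F m]

theorem t_zero_mul (b c : F) : t m 0 b * t m 0 c = t m 0 (b + c) := by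
  rw [t_mul]; congr 1
  · simp
  · simp [th]

theorem mem_norm_ZU {g : Sg F m} : g ∈ Subgroup.normalizer ((ZU F m : Subgroup (Sg F m)) : Set _) ↔
    g • oinf F m = oinf F m := by
  have hne : t m (0 : F) 1 ≠ 1 := by
    intro h
    rw [← t_zero (F := F) m] at h
    exact one_ne_zero (t_inj m h).2
  constructor
  · intro h
    rw [Subgroup.mem_normalizer_iff] at h
    obtain ⟨b, hb⟩ := (h (t m 0 1)).1 ⟨1, rfl⟩
    have h1 : t m (0 : F) b ≠ 1 := by
      rw [← hb]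
      intro h2
      apply hne
      calc t m (0 : F) 1 = g⁻¹ * (g * t m 0 1 * g⁻¹) * g := by group
        _ = 1 := by rw [h2]; group
    apply fix_t m h1
    rw [← hb, mul_smul, mul_smul, inv_smul_smul, t_oinf]
  · intro h
    obtain ⟨a, b, k, rfl⟩ := exists_td m h
    have h1 : t m a b ∈ Subgroup.normalizer ((ZU F m : Subgroup (Sg F m)) : Set _) := by
      rw [Subgroup.mem_normalizer_iff]
      intro x
      constructor
      · rintro ⟨c, rfl⟩
        exact ⟨c, by rw [t0_comm]; group⟩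
      · rintro ⟨c, hc⟩
        refine ⟨c, ?_⟩
        have : x = (t m a b)⁻¹ * t m 0 c * t m a b := by rw [← hc]; group
        rw [this, mul_assoc, ← t0_comm]; group
    have h2 : dd m k ∈ Subgroup.normalizer ((ZU F m : Subgroup (Sg F m)) : Set _) := by
      have key : ∀ (k : Fˣ) (c : F), ∃ d, dd m k * t m 0 c * (dd m k)⁻¹ = t m 0 d := by
        intro k c
        rw [dd_t_conj]
        simp only [mul_zero]
        exact ⟨_, rfl⟩
      rw [Subgroup.mem_normalizer_iff]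
      intro x
      constructor
      · rintro ⟨c, rfl⟩
        exact key k c
      · rintro ⟨c, hc⟩
        obtain ⟨d, hd⟩ := key k⁻¹ c
        refine ⟨d, ?_⟩
        rw [← hd, ← dd_inv, ← hc]; group
    exact mul_mem h1 h2

theorem ti_ZU : ∀ y ∈ (ZU F m : Subgroup (Sg F m)), y ≠ 1 → ∀ x,
    x ∉ Subgroup.normalizer ((ZU F m : Subgroup (Sg F m)) : Set _) →
    y ∉ Subgroup.normalizer ((cj x (ZU F m) : Subgroup (Sg F m)) : Set _) := by
  rintro _ ⟨b, rfl⟩ hb x hx hcon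
  apply hx
  rw [mem_norm_ZU]
  rw [NS.mem_norm_iff, NS.cj_cj] at hcon
  have h1 : cj (x⁻¹ * t m 0 b * x) (ZU F m : Subgroup (Sg F m)) = ZU F m := by
    have h2 := congrArg (cj x⁻¹) hcon
    rw [NS.cj_cj, NS.cj_cj, inv_mul_cancel, NS.cj_one, ← mul_assoc] at h2
    exact h2
  rw [← NS.mem_norm_iff, mem_norm_ZU] at h1
  apply fix_t m hb
  rw [mul_smul, mul_smul] at h1
  rw [inv_smul_eq_iff] at h1
  exact h1

theorem exists_conj_ZU {Z : Subgroup (Sg F m)} (hZ : ∀ z ∈ Z, z ^ 2 = 1)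
    (hc : Nat.card Z = Fintype.card F) : ∃ c, cj c Z = ZU F m := by
  have : Fact (Nat.Prime 2) := ⟨Nat.prime_two⟩
  have hZp : IsPGroup 2 Z := by
    intro z
    refine ⟨1, Subtype.ext ?_⟩
    rw [pow_one]
    exact hZ z z.2
  obtain ⟨P, hP⟩ := hZp.exists_le_sylow
  obtain ⟨y, hy⟩ := sylow_eq m P
  refine ⟨y⁻¹, ?_⟩
  apply Subgroup.eq_of_le_of_card_ge
  · intro g hg
    rw [mem_cj, inv_inv] at hg
    have h1 := (hy _).1 (hP hg)
    have h2 : y⁻¹ * (y * g * y⁻¹) * y = g := by group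
    rw [h2] at h1
    apply mem_ZU_of_sq m h1
    have h3 := hZ _ hg
    rw [conj_pow] at h3
    calc g ^ 2 = y⁻¹ * (y * g ^ 2 * y⁻¹) * y := by group
      _ = 1 := by rw [h3]; group
  · unfold cj
    rw [Subgroup.card_map_of_injective (MulAut.conj y⁻¹).injective, hc, card_ZU]

/-- elements are of order dividing four or a product of two involutions -/
theorem elt_cases (g : Sg F m) : g ^ 4 = 1 ∨ ∃ u v : Sg F m, u ≠ 1 ∧ v ≠ 1 ∧ u ^ 2 = 1 ∧ v ^ 2 = 1 ∧
    g = u * v := by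
  by_cases hg : g = 1
  · left; rw [hg, one_pow]
  have := Fintype.ofFinite (Sg F m)
  have := Fintype.ofFinite (Cfsg.IrrCharacter (Sg F m))
  obtain ⟨U₁, U₂, hN⟩ := exists_NT2 F m
  have key : ∀ {A : Subgroup (Sg F m)} {w : ℕ}, Tw m A w → ConjIn A g → g ^ 4 = 1 ∨
      ∃ u v : Sg F m, u ≠ 1 ∧ v ≠ 1 ∧ u ^ 2 = 1 ∧ v ^ 2 = 1 ∧ g = u * v := by
    rintro A w hA ⟨-, x, hx⟩
    obtain ⟨u, hu, hu1, hu2⟩ := hA.exists_invol
    have h1 := hA.invert hu hu1 hu2 hx
    set c := x⁻¹ * g * x with hc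
    have hui : u⁻¹ = u := inv_eq_of_mul_eq_one_right hu2
    by_cases hv1 : u * c = 1
    · left
      have h2 : c = u := by
        rw [← hui]; exact eq_inv_of_mul_eq_one_right hv1
      have h3 : g = x * u * x⁻¹ := by rw [← h2, hc]; group
      rw [h3, conj_pow]
      have : u ^ 4 = 1 := by
        calc u ^ 4 = (u * u) * (u * u) := by simp only [pow_succ, pow_zero, one_mul, mul_assoc]
          _ = 1 := by rw [hu2, one_mul]
      rw [this]; group
    · right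
      refine ⟨x * u * x⁻¹, x * (u * c) * x⁻¹, ?_, ?_, ?_, ?_, ?_⟩
      · intro h2
        apply hu1
        calc u = x⁻¹ * (x * u * x⁻¹) * x := by group
          _ = 1 := by rw [h2]; group
      · intro h2
        apply hv1
        calc u * c = x⁻¹ * (x * (u * c) * x⁻¹) * x := by group
          _ = 1 := by rw [h2]; group
      · rw [conj_pow, pow_two, hu2]; group
      · rw [conj_pow, pow_two]
        have : u * c * (u * c) = 1 := by
          calc u * c * (u * c) = (u * c * u⁻¹) * (u * u) * c := by group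
            _ = 1 := by rw [h1, hu2]; group
        rw [this]; group
      · have : x * u * x⁻¹ * (x * (u * c) * x⁻¹) = x * ((u * u) * c) * x⁻¹ := by group
        rw [this, hu2, one_mul, hc]; group
  rcases types hN hg with ⟨z, b, -, h⟩ | ⟨z, a, b, -, h⟩ | h | h | h
  · exact Or.inl (pow_four' m h)
  · exact Or.inl (pow_four' m h)
  · exact key tw_DD h
  · exact key hN.one.tw h
  · exact key hN.two.tw h

theorem sz_case {Z : Subgroup (Sg F m)} (hZ : ∀ z ∈ Z, z ^ 2 = 1)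
    (hc : Nat.card Z = Fintype.card F) (E : Type u) [Group E] [Finite E] (Y A : Subgroup E)
    (π : E →* Sg F m) (h : NS Y A)
    (hd : ∀ x, x ∉ Subgroup.normalizer (Y : Set E) → ∀ g, g ∈ Y → g ∈ cj x Y → g = 1)
    (hs : Function.Surjective π) (hker : π.ker = A) (hY : Y.map π = Z) (g a : E) (ha : a ∈ A)
    (hga : g * a = a * g) : a = 1 ∨ ∃ n : ℕ, (π g) ^ (2 ^ n) = 1 := by
  have hAk : ∀ g, g ∈ A ↔ π g = 1 := fun g => by rw [← hker]; exact MonoidHom.mem_ker
  obtain ⟨c, hcU⟩ := exists_conj_ZU hZ hc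
  -- TI property of Z
  have hnZ : ∀ x, x ∈ Subgroup.normalizer (Z : Set (Sg F m)) ↔
      c * x * c⁻¹ ∈ Subgroup.normalizer ((ZU F m : Subgroup (Sg F m)) : Set _) := by
    intro x
    rw [NS.mem_norm_iff, NS.mem_norm_iff, ← hcU, NS.cj_cj]
    have e : c * x * c⁻¹ * c = c * x := by group
    rw [e, ← NS.cj_cj]
    constructor
    · intro h1; rw [h1]
    · intro h1
      have := congrArg (cj c⁻¹) h1
      rwa [NS.cj_cj c⁻¹ c, NS.cj_cj c⁻¹ c, inv_mul_cancel, NS.cj_one, NS.cj_one] at this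
  have hTI' : ∀ y ∈ Y.map π, y ≠ 1 → ∀ x,
      x ∉ Subgroup.normalizer ((Y.map π : Subgroup (Sg F m)) : Set (Sg F m)) →
      y ∉ Subgroup.normalizer ((cj x (Y.map π) : Subgroup (Sg F m)) : Set (Sg F m)) := by
    rw [hY]
    intro y hy hy1 x hx hcon
    rw [hnZ] at hx
    apply ti_ZU (c * y * c⁻¹) (by rw [← hcU, mem_cj]; simpa [mul_assoc] using hy) (by
      intro h1
      apply hy1
      calc y = c⁻¹ * (c * y * c⁻¹) * c := by group
        _ = 1 := by rw [h1]; group) _ hx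
    rw [NS.mem_norm_iff] at hcon ⊢
    rw [← hcU]
    have g1 : cj (c * (y * x)) Z = cj (c * x) Z := by
      rw [← NS.cj_cj c (y * x), ← NS.cj_cj c x, ← NS.cj_cj y x, hcon]
    simp only [NS.cj_cj]
    convert g1 using 2 <;> group
  have hTI := h.ti_of π hs hker hTI'
  rcases elt_cases (π g) with hg4 | ⟨u, v, hu1, hv1, hu2, hv2, huv⟩
  · right; exact ⟨2, by norm_num; exact hg4⟩
  -- involutions are conjugate into Z
  have hinv : ∀ w : Sg F m, w ≠ 1 → w ^ 2 = 1 → ∃ x, w ∈ cj x Z := by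
    intro w hw1 hw2
    have hwo : orderOf w = 2 := orderOf_eq_prime hw2 hw1
    obtain ⟨d, hd⟩ := sz_invol_conj hwo
    refine ⟨d⁻¹ * c, ?_⟩
    rw [← NS.cj_cj, hcU, mem_cj, inv_inv, hd]
    exact ⟨1, rfl⟩
  obtain ⟨x₁, hx₁⟩ := hinv u hu1 hu2
  obtain ⟨x₂, hx₂⟩ := hinv v hv1 hv2
  by_cases hsame : cj x₁ Z = cj x₂ Z
  · right
    refine ⟨1, ?_⟩
    rw [← hsame] at hx₂
    have h1 : u * v ∈ cj x₁ Z := mul_mem hx₁ hx₂
    rw [mem_cj] at h1
    have h2 := hZ _ h1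
    have h3 : (x₁⁻¹ * (u * v) * x₁) ^ 2 = x₁⁻¹ * (u * v) ^ 2 * x₁ := by
      rw [pow_two, pow_two]; group
    rw [h3] at h2
    rw [huv, pow_one]
    calc (u * v) ^ 2 = x₁ * (x₁⁻¹ * (u * v) ^ 2 * x₁) * x₁⁻¹ := by group
      _ = 1 := by rw [h2]; group
  · left
    obtain ⟨e₁, rfl⟩ := hs x₁
    obtain ⟨e₂, rfl⟩ := hs x₂
    have hen : e₁⁻¹ * e₂ ∉ Subgroup.normalizer (Y : Set E) := by
      intro h1
      apply hsame
      have h2 := NS.map_norm_le π Y h1
      rw [hY, NS.mem_norm_iff, map_mul, map_inv] at h2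
      have h3 := congrArg (cj (π e₁)) h2
      rw [NS.cj_cj] at h3
      have e : π e₁ * ((π e₁)⁻¹ * π e₂) = π e₂ := by group
      rw [e] at h3
      exact h3.symm
    have hP := h.pr hd hTI hen
    -- lifts
    obtain ⟨s, hsY, hsu⟩ : ∃ s ∈ Y, π s = (π e₁)⁻¹ * u * π e₁ := by
      have h1 := mem_cj.1 hx₁
      rw [← hY] at h1
      obtain ⟨s, hs1, hs2⟩ := h1
      exact ⟨s, hs1, hs2⟩
    obtain ⟨t', htY, htv⟩ : ∃ t' ∈ cj (e₁⁻¹ * e₂) Y, π t' = (π e₁)⁻¹ * v * π e₁ := by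
      have h1 := mem_cj.1 hx₂
      rw [← hY] at h1
      obtain ⟨w, hw1, hw2⟩ := h1
      refine ⟨(e₁⁻¹ * e₂) * w * (e₁⁻¹ * e₂)⁻¹, ?_, ?_⟩
      · rw [mem_cj]
        have e : (e₁⁻¹ * e₂)⁻¹ * (e₁⁻¹ * e₂ * w * (e₁⁻¹ * e₂)⁻¹) * (e₁⁻¹ * e₂) = w := by group
        rw [e]; exact hw1
      · simp only [map_mul, map_inv]
        rw [hw2]; group
    have hsA : s ∉ A := by
      rw [hAk, hsu]
      intro h1
      apply hu1
      calc u = π e₁ * ((π e₁)⁻¹ * u * π e₁) * (π e₁)⁻¹ := by group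
        _ = 1 := by rw [h1]; group
    have htA : t' ∉ A := by
      rw [hAk, htv]
      intro h1
      apply hv1
      calc v = π e₁ * ((π e₁)⁻¹ * v * π e₁) * (π e₁)⁻¹ := by group
        _ = 1 := by rw [h1]; group
    have hss : s * s ∈ A := by
      rw [hAk, map_mul, hsu]
      calc (π e₁)⁻¹ * u * π e₁ * ((π e₁)⁻¹ * u * π e₁) = (π e₁)⁻¹ * u ^ 2 * π e₁ := by
            rw [pow_two]; group
        _ = 1 := by rw [hu2]; group
    have hbA : (s * t')⁻¹ * (e₁⁻¹ * g * e₁) ∈ A := by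
      rw [hAk]
      simp only [map_mul, map_inv]
      rw [hsu, htv, huv]; group
    have ha' : e₁⁻¹ * a * e₁ ∈ A := by
      have := hP.nA a ha e₁⁻¹
      rwa [inv_inv] at this
    have h1 := hP.two hsY htY hsA htA hbA hss ha' (by
      have e : s * t' * ((s * t')⁻¹ * (e₁⁻¹ * g * e₁)) = e₁⁻¹ * g * e₁ := by group
      rw [e]
      calc e₁⁻¹ * g * e₁ * (e₁⁻¹ * a * e₁) = e₁⁻¹ * (g * a) * e₁ := by group
        _ = e₁⁻¹ * (a * g) * e₁ := by rw [hga]
        _ = e₁⁻¹ * a * e₁ * (e₁⁻¹ * g * e₁) := by group)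
    calc a = e₁ * (e₁⁻¹ * a * e₁) * e₁⁻¹ := by group
      _ = 1 := by rw [h1]; group

end FLZ

end Cfsg.Agent.H18
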