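import Cfsg.Agent.H18.FL4
import Cfsg.Agent.H18.FL5
import Cfsg.Agent.H18.FL6
import Cfsg.Agent.H18.PReduced
import Cfsg.Agent.H1.Cores
import Cfsg.Prelude.Def_LocalStructure

/-!
# The members of `𝔏_G(Y)` (helper18)
-/

set_option autoImplicit false
set_option linter.style.haveILetI false
open Cfsg

universe u

namespace Cfsg.Agent.H18

section
variable {G : Type u} [Group G] [Finite G] {p : ℕ} [hp : Fact p.Prime] {M L : Subgroup G}

theorem largestOf_elem : IsElementaryAbelian p (largestPReducedOf p M) := by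
  unfold largestPReducedOf
  apply isElementaryAbelian_map
  exact (isPReducedNormal_largestPReduced p M).2.1

theorem mem_pCoreOf_iff {x : G} (hx : x ∈ L) : x ∈ pCoreOf p L ↔ (⟨x, hx⟩ : L) ∈ pCore p L := by
  unfold pCoreOf
  constructor
  · rintro ⟨y, hy, hyx⟩
    have : y = ⟨x, hx⟩ := Subtype.ext hyx
    rw [← this]; exact hy
  · intro h; exact ⟨_, h, rfl⟩

theorem frakL_ns (hL : IsInFrakL p M L) :
    NS ((largestPReducedOf p M).subgroupOf L) (pCore p L) := by
  obtain ⟨h1, h2, h3, h4, h5, ⟨h6, h7⟩, h8⟩ := hL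
  set Y := largestPReducedOf p M with hY
  have hel : IsElementaryAbelian p Y := largestOf_elem
  refine ⟨H1.pCore_normal p L, ?_, ?_, ?_, ?_, ?_, h4.1⟩
  · rintro ⟨x, hx⟩ hxY ⟨y, hy⟩ hyY
    apply Subtype.ext
    have h9 : (⟨x, hxY⟩ : Y) * ⟨y, hyY⟩ = ⟨y, hyY⟩ * ⟨x, hxY⟩ := hel.1.1.1 _ _
    exact congrArg (Subtype.val : Y → G) h9
  · rintro ⟨a, ha⟩ haA
    have h9 := h3 ((mem_pCoreOf_iff ha).2 haA)
    rw [Subgroup.mem_normalizer_iff] at h9 ⊢
    rintro ⟨y, hy⟩
    exact h9 y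
  · have e1 : (Y ⊓ pCoreOf p L).subgroupOf L = Y.subgroupOf L ⊓ pCore p L := by
      ext ⟨x, hx⟩
      rw [Subgroup.mem_subgroupOf]
      constructor
      · intro h9
        exact ⟨(Subgroup.mem_inf.1 h9).1, (mem_pCoreOf_iff hx).1 (Subgroup.mem_inf.1 h9).2⟩
      · intro h9
        exact Subgroup.mem_inf.2 ⟨(Subgroup.mem_inf.1 h9).1,
          (mem_pCoreOf_iff hx).2 (Subgroup.mem_inf.1 h9).2⟩
    rw [e1] at h2
    unfold pCoreOf at h2
    exact (Subgroup.map_injective L.subtype_injective h2).le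
  · intro X hX hne
    have h9 : X.map L.subtype ≤ L ⊓ Subgroup.normalizer (Y : Set G) := by
      apply h7
      · intro y hy
        exact ⟨⟨y, h1 hy⟩, hX hy, rfl⟩
      · refine lt_of_le_of_ne (Subgroup.map_subtype_le X) ?_
        intro h10
        apply hne
        apply Subgroup.map_injective L.subtype_injective
        rw [h10, ← MonoidHom.range_eq_map, Subgroup.range_subtype]
    intro x hx
    have h10 := (Subgroup.mem_inf.1 (h9 ⟨x, hx, rfl⟩)).2
    rw [Subgroup.mem_normalizer_iff] at h10 ⊢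
    rintro ⟨y, hy⟩
    exact h10 y
  · intro htop
    apply h6.not_ge
    intro x hx
    refine Subgroup.mem_inf.2 ⟨hx, ?_⟩
    have h9 : (⟨x, hx⟩ : L) ∈ Subgroup.normalizer ((Y.subgroupOf L : Subgroup L) : Set L) := by
      rw [htop]; trivial
    rw [Subgroup.mem_normalizer_iff] at h9 ⊢
    intro y
    constructor
    · intro hy
      exact (h9 ⟨y, h1 hy⟩).1 hy
    · intro hy
      have hyL : y ∈ L := by
        have h10 := h1 hy
        have : y = x⁻¹ * (x * y * x⁻¹) * x := by group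
        rw [this]
        exact L.mul_mem (L.mul_mem (L.inv_mem hx) h10) hx
      exact (h9 ⟨y, hyL⟩).2 hy

/-- the key statement for members of `𝔏` -/
theorem frakL_fixed (hL : IsInFrakL p M L) (g : L) (a : L) (ha : a ∈ pCore p L)
    (hga : g * a * g⁻¹ * a⁻¹ ∈ (largestPReducedOf p M).subgroupOf L ⊓ Subgroup.center L)
    (hnp : ¬ ∃ k : ℕ, orderOf g = p ^ k) :
    a ∈ (largestPReducedOf p M).subgroupOf L ⊓ Subgroup.center L := by
  have hNS := frakL_ns hL
  obtain ⟨h1, h2, h3, h4, h5, ⟨h6, h7⟩, h8⟩ := hL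
  set Y := largestPReducedOf p M with hY
  set Y' := Y.subgroupOf L with hY'
  have hel : IsElementaryAbelian p Y := largestOf_elem
  have hY'p : ∀ y ∈ Y', y ^ p = 1 := by
    intro y hy
    apply Subtype.ext
    exact hel.2 y hy
  have hAp : IsPGroup p (pCore p L) := H1.pCore_isPGroup p L
  have hCA : Y' ⊓ Subgroup.center L ≤ pCore p L := by
    apply H1.le_pCore
    · constructor
      intro c hc x
      have h9 := (Subgroup.mem_inf.1 hc).2
      rw [Subgroup.mem_center_iff] at h9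
      rw [h9 x]
      simpa using hc
    · intro y
      refine ⟨1, Subtype.ext ?_⟩
      rw [pow_one]
      exact hY'p y (Subgroup.mem_inf.1 y.2).1
  -- orders
  have hfin : ∀ {N : Type} [Group N] (π : L →* N), π.ker = pCore p L →
      ∀ n : ℕ, (π g) ^ (p ^ n) = 1 → False := by
    intro N _ π hk n hn
    rw [← map_pow, ← MonoidHom.mem_ker, hk] at hn
    obtain ⟨j, hj⟩ := hAp ⟨_, hn⟩
    have h9 : (g ^ p ^ n) ^ p ^ j = 1 := congrArg Subtype.val hj
    rw [← pow_mul, ← pow_add] at h9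
    obtain ⟨k, _, hk⟩ := (Nat.dvd_prime_pow hp.out).1 (orderOf_dvd_of_pow_eq_one h9)
    exact hnp ⟨k, hk⟩
  -- card of the image
  have hcard : ∀ {N : Type} [Group N] (π : L →* N), π.ker = pCore p L →
      Nat.card (Y'.map π) = (Y ⊓ pCoreOf p L).relIndex Y := by
    intro N _ π hk
    rw [← Subgroup.relIndex_ker, hk]
    have e1 : pCore p L = (pCoreOf p L).subgroupOf L := by
      ext ⟨x, hx⟩
      rw [Subgroup.mem_subgroupOf]
      exact (mem_pCoreOf_iff hx).symm
    rw [e1, hY', Subgroup.relIndex_subgroupOf h1, inf_comm, Subgroup.inf_relIndex_right]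
  have hpg : ∀ {N : Type} [Group N] (π : L →* N), ∀ z ∈ Y'.map π, z ^ p = 1 := by
    rintro N _ π _ ⟨y, hy, rfl⟩
    rw [← map_pow, hY'p y hy, map_one]
  have hpg2 : ∀ {N : Type} [Group N] (π : L →* N), IsPGroup p (Y'.map π) := by
    intro N _ π z
    refine ⟨1, Subtype.ext ?_⟩
    rw [pow_one]
    exact hpg π z z.2
  -- the homomorphism
  have hπ : ∀ {N : Type} [Group N] (e : L ⧸ pCore p L ≃* N),
      Function.Surjective (e.toMonoidHom.comp (QuotientGroup.mk' (pCore p L))) ∧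
      (e.toMonoidHom.comp (QuotientGroup.mk' (pCore p L))).ker = pCore p L := by
    intro N _ e
    refine ⟨e.surjective.comp (QuotientGroup.mk'_surjective _), ?_⟩
    ext x
    rw [MonoidHom.mem_ker]
    change e (QuotientGroup.mk' (pCore p L) x) = 1 ↔ _
    rw [MulEquiv.map_eq_one_iff, ← MonoidHom.mem_ker, QuotientGroup.ker_mk']
  have htwo : p = 2 → ∀ {N : Type} [Group N] (π : L →* N), Function.Surjective π → π.ker = pCore p L →
      Nat.card (Y'.map π) = 2 → a ∈ Y' ⊓ Subgroup.center L := by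
    intro hp2 N _ π hs hk hc
    rcases frakL_transfer hNS hCA π hs hk p (by
      intro E _ _ Y₀ A₀ π₀ hN hd hs₀ hk₀ hm x b hb hxb
      rw [hp2]
      exact FLD.two_case hc E Y₀ A₀ π₀ hN hd hs₀ hk₀ hm x b hb hxb) g a ha hga with h9 | ⟨n, hn⟩
    · exact h9
    · exact (hfin π hk n hn).elim
  rcases h8 with ⟨F, _, _, hF, ⟨e⟩⟩ | ⟨hp2, F, _, _, m, hF, hF2, ⟨e⟩⟩ | ⟨hp2, r, hr, hr2, ⟨e⟩⟩
  · obtain ⟨hs, hk⟩ := hπ e
    set π := e.toMonoidHom.comp (QuotientGroup.mk' (pCore p L)) with hπd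
    have hc := hcard π hk
    rcases frakL_transfer hNS hCA π hs hk p (by
      intro E _ _ Y₀ A₀ π₀ hN hd hs₀ hk₀ hm x b hb hxb
      exact FLS.sl2_case (hpg2 π) (hc.trans hF.symm) E Y₀ A₀ π₀ hN hd hs₀ hk₀ hm x b hb hxb)
      g a ha hga with h9 | ⟨n, hn⟩
    · exact h9
    · exact (hfin π hk n hn).elim
  · obtain ⟨hs, hk⟩ := hπ e
    have hc := hcard _ hk
    rcases Nat.eq_zero_or_pos m with hm | hm
    · apply htwo hp2 _ hs hk
      rw [hc, ← hF2, hF, hm]; norm_num
    · haveI : H15.Suz.SzF F m := ⟨hm, hF⟩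
      let e' : L ⧸ pCore p L ≃* H15.Suz.Sg F m := e.trans (H15.Suz.lieEquiv F m).symm
      obtain ⟨hs', hk'⟩ := hπ e'
      set π := e'.toMonoidHom.comp (QuotientGroup.mk' (pCore p L)) with hπd
      have hc' := hcard π hk'
      rcases frakL_transfer hNS hCA π hs' hk' p (by
        intro E _ _ Y₀ A₀ π₀ hN hd hs₀ hk₀ hm x b hb hxb
        rw [hp2]
        refine FLZ.sz_case (Z := Y'.map π) ?_ (hc'.trans hF2.symm) E Y₀ A₀ π₀ hN hd hs₀ hk₀ hm x b hb hxb
        intro z hz
        have := hpg π z hz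
        rwa [hp2] at this) g a ha hga with h9 | ⟨n, hn⟩
      · exact h9
      · exact (hfin π hk' n hn).elim
  · obtain ⟨hs, hk⟩ := hπ e
    apply htwo hp2 _ hs hk
    set π := e.toMonoidHom.comp (QuotientGroup.mk' (pCore p L)) with hπd
    -- order two
    haveI : NeZero r := ⟨hr.ne_zero⟩
    obtain ⟨k, hk2⟩ := IsPGroup.iff_card.1 (hpg2 π)
    have hdvd : Nat.card (Y'.map π) ∣ 2 * r := by
      have := Subgroup.card_subgroup_dvd_card (Y'.map π)
      rwa [DihedralGroup.nat_card] at this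
    rw [hk2, hp2] at hdvd
    rw [hk2, hp2]
    have hk0 : k ≠ 0 := by
      rintro rfl
      rw [pow_zero] at hk2
      have h9 : Y'.map π = ⊥ := Subgroup.eq_bot_of_card_eq _ hk2
      rw [Subgroup.map_eq_bot_iff, hk] at h9
      have hn := hNS.nA
      have h10 : pCore p L = ⊤ := by
        rw [eq_top_iff, ← hNS.gen]
        exact Subgroup.normalClosure_le_normal h9
      apply hNS.nn
      rw [eq_top_iff, ← h10]
      exact hNS.AN
    have hk1 : k ≤ 1 := by
      by_contra hcon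
      have h9 : 2 ^ 2 ∣ 2 * r := (pow_dvd_pow 2 (by omega)).trans hdvd
      have h10 : 2 ∣ r := by
        rw [pow_two] at h9
        exact Nat.dvd_of_mul_dvd_mul_left (by norm_num) h9
      exact hr2 ((Nat.prime_dvd_prime_iff_eq Nat.prime_two hr).1 h10).symm
    have : k = 1 := by omega
    rw [this, pow_one]

end

end Cfsg.Agent.H18
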