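import Cfsg.Agent.H18.FL7

/-!
# The members of `𝔏_G(Y)`: the normalizer quotient (helper18)
-/

set_option autoImplicit false
set_option linter.style.haveILetI false
open Cfsg

universe u

namespace Cfsg.Agent.H18

/-- `Z` is the unique nontrivial normal subgroup of exponent `p` in its normalizer -/
def UniqN {N : Type*} [Group N] (p : ℕ) (Z : Subgroup N) : Prop :=
  ∀ V : Subgroup N, V ≤ Subgroup.normalizer (Z : Set N) →
    (∀ g ∈ Subgroup.normalizer (Z : Set N), ∀ v ∈ V, g * v * g⁻¹ ∈ V) → (∀ v ∈ V, v ^ p = 1) →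
    V ≠ ⊥ → V = Z

theorem UniqN.of_cj {N : Type*} [Group N] {p : ℕ} {Z : Subgroup N} {c : N} (h : UniqN p (cj c Z)) :
    UniqN p Z := by
  have hn : ∀ g, g ∈ Subgroup.normalizer ((cj c Z : Subgroup N) : Set N) ↔
      c⁻¹ * g * c ∈ Subgroup.normalizer (Z : Set N) := by
    intro g
    rw [NS.mem_norm_iff, NS.mem_norm_iff, NS.cj_cj]
    constructor
    · intro h1
      have := congrArg (cj c⁻¹) h1
      rw [NS.cj_cj, NS.cj_cj, inv_mul_cancel, NS.cj_one, ← mul_assoc] at this
      exact this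
    · intro h1
      have := congrArg (cj c) h1
      rw [NS.cj_cj] at this
      have e : c * (c⁻¹ * g * c) = g * c := by group
      rwa [e] at this
  intro V hV1 hV2 hV3 hV4
  have h1 := h (cj c V) (by
    intro g hg
    rw [hn]
    exact hV1 (mem_cj.1 hg)) (by
    intro g hg v hv
    rw [mem_cj] at hv ⊢
    have := hV2 _ ((hn g).1 hg) _ hv
    have e : c⁻¹ * g * c * (c⁻¹ * v * c) * (c⁻¹ * g * c)⁻¹ = c⁻¹ * (g * v * g⁻¹) * c := by group
    rwa [e] at this) (by
    intro v hv
    have := hV3 _ (mem_cj.1 hv)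
    have e : v = c * (c⁻¹ * v * c) * c⁻¹ := by group
    rw [e, conj_pow, this]; group) (by
    intro h2
    apply hV4
    have h3 := congrArg (cj c⁻¹) h2
    rw [NS.cj_cj, inv_mul_cancel, NS.cj_one] at h3
    rw [h3]
    unfold cj
    exact Subgroup.map_bot _)
  have h2 := congrArg (cj c⁻¹) h1
  rwa [NS.cj_cj, NS.cj_cj, inv_mul_cancel, NS.cj_one, NS.cj_one] at h2

open Matrix in
theorem FLS.uniqN_UU {F : Type*} [Field F] [Fintype F] {p : ℕ} [hp : Fact p.Prime] [CharP F p] :
    UniqN p (FLS.UU : Subgroup (Matrix.SpecialLinearGroup (Fin 2) F)) := by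
  intro V hV1 hV2 hV3 hV4
  have hVU : V ≤ FLS.UU := by
    intro v hv
    have h10 := FLS.mem_norm_UU.1 (hV1 hv)
    have hd := FLS.det2 v
    rw [h10] at hd
    simp only [mul_zero, sub_zero] at hd
    have hpow : ∀ n : ℕ, (v ^ n).1 1 0 = 0 ∧ (v ^ n).1 0 0 = (v.1 0 0) ^ n ∧
        (v ^ n).1 1 1 = (v.1 1 1) ^ n := by
      intro n
      induction n with
      | zero => simp
      | succ n ih =>
        obtain ⟨i1, i2, i3⟩ := ih
        rw [pow_succ]
        refine ⟨?_, ?_, ?_⟩
        · rw [FLS.mul10, i1, h10]; simp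
        · rw [FLS.mul00, i2, h10]; simp [pow_succ]
        · rw [FLS.mul11, i3, i1]; simp [pow_succ]
    obtain ⟨_, h1, h2⟩ := hpow p
    rw [hV3 v hv] at h1 h2
    have e1 : v.1 0 0 = 1 := by
      have h3 : (v.1 0 0 - 1) ^ p = 0 := by
        rw [sub_pow_char, ← h1]; simp
      exact sub_eq_zero.1 (pow_eq_zero_iff hp.out.ne_zero |>.1 h3)
    rw [e1, one_mul] at hd
    refine ⟨v.1 0 1, ?_⟩
    apply FLS.ext2
    · simp [FLS.Xu, e1]
    · simp [FLS.Xu]
    · simp [FLS.Xu, h10]
    · simp [FLS.Xu, hd]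
  -- the additive subgroup
  obtain ⟨t, htV, ht0⟩ : ∃ t, FLS.Xu t ∈ V ∧ t ≠ 0 := by
    by_contra hcon
    push Not at hcon
    apply hV4
    rw [Subgroup.eq_bot_iff_forall]
    intro v hv
    obtain ⟨t, rfl⟩ := hVU hv
    rw [hcon t hv]
    exact FLS.Xu_eq_one.2 rfl
  have hsq : ∀ (α s : F), FLS.Xu s ∈ V → FLS.Xu (s * α ^ 2) ∈ V := by
    intro α s hs
    by_cases hα : α = 0
    · rw [hα]; simp only [ne_eq, OfNat.ofNat_ne_zero, not_false_eq_true, zero_pow, mul_zero]
      rw [FLS.Xu_eq_one.2 rfl]; exact one_mem _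
    · let g : Matrix.SpecialLinearGroup (Fin 2) F :=
        ⟨!![α, 0; 0, α⁻¹], by rw [Matrix.det_fin_two_of]; field_simp; ring⟩
      have hg10 : g.1 1 0 = 0 := rfl
      have h1 := hV2 g (FLS.mem_norm_UU.2 hg10) _ hs
      rw [FLS.conj_Xu g hg10] at h1
      exact h1
  have hadd : ∀ s s' : F, FLS.Xu s ∈ V → FLS.Xu s' ∈ V → FLS.Xu (s + s') ∈ V := by
    intro s s' h1 h2
    rw [← FLS.Xu_mul]; exact mul_mem h1 h2
  have hneg : ∀ s : F, FLS.Xu s ∈ V → FLS.Xu (-s) ∈ V := by
    intro s h1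
    have h2 : (FLS.Xu s)⁻¹ = FLS.Xu (-s) :=
      inv_eq_of_mul_eq_one_right (by rw [FLS.Xu_mul, add_neg_cancel]; exact FLS.Xu_eq_one.2 rfl)
    rw [← h2]; exact inv_mem h1
  have hall : ∀ (c s : F), FLS.Xu s ∈ V → FLS.Xu (s * c) ∈ V := by
    intro c s hs
    by_cases h2 : (2 : F) = 0
    · -- characteristic two
      haveI : CharP F 2 := by
        have h3 : ((2 : ℕ) : F) = 0 := by exact_mod_cast h2
        rw [CharP.cast_eq_zero_iff F p] at h3
        have : p = 2 := (Nat.prime_dvd_prime_iff_eq hp.out Nat.prime_two).1 h3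
        rw [← this]; infer_instance
      obtain ⟨d, hd⟩ : ∃ d : F, d ^ 2 = c := by
        have hb : Function.Bijective (frobenius F 2) :=
          Finite.injective_iff_bijective.1 (frobenius_inj F 2)
        obtain ⟨d, hd⟩ := hb.2 c
        exact ⟨d, hd⟩
      rw [← hd]; exact hsq d s hs
    · have h4 : FLS.Xu (s * ((c + 1) * 2⁻¹) ^ 2) ∈ V := hsq _ s hs
      have h5 : FLS.Xu (s * ((c - 1) * 2⁻¹) ^ 2) ∈ V := hsq _ s hs
      have h6 := hadd _ _ h4 (hneg _ h5)
      have e : s * ((c + 1) * 2⁻¹) ^ 2 + -(s * ((c - 1) * 2⁻¹) ^ 2) = s * c := by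
        field_simp; ring
      rwa [e] at h6
  apply le_antisymm hVU
  rintro _ ⟨s, rfl⟩
  have := hall (s / t) t htV
  rwa [mul_div_cancel₀ _ ht0] at this

open Cfsg.Agent.H15.Suz in
theorem FLZ.uniqN_ZU {F : Type*} [Field F] [Fintype F] {m : ℕ} [hS : SzF F m] :
    UniqN 2 (ZU F m : Subgroup (Sg F m)) := by
  intro V hV1 hV2 hV3 hV4
  have hVU : V ≤ ZU F m := by
    intro v hv
    have h1 := FLZ.mem_norm_ZU.1 (hV1 hv)
    have h2 := hV3 v hv
    have hvB : v ∈ BB F m := h1
    have h3 : piB F m ⟨v, hvB⟩ = 1 := by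
      apply unit_sq_eq_one m
      rw [← map_mul]
      have : (⟨v, hvB⟩ : BB F m) * ⟨v, hvB⟩ = 1 := Subtype.ext (by
        change v * v = 1
        rw [← pow_two, h2])
      rw [this, map_one]
    rw [piB_eq_one] at h3
    exact mem_ZU_of_sq m h3 h2
  obtain ⟨b, hbV, hb0⟩ : ∃ b, t m 0 b ∈ V ∧ b ≠ (0 : F) := by
    by_contra hcon
    push Not at hcon
    apply hV4
    rw [Subgroup.eq_bot_iff_forall]
    intro v hv
    obtain ⟨b, rfl⟩ := hVU hv
    rw [hcon b hv, t_zero]
  apply le_antisymm hVU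
  rintro _ ⟨c, rfl⟩
  by_cases hc : c = 0
  · rw [hc, t_zero]; exact one_mem _
  · obtain ⟨x, hx⟩ := (norm_bijective (F := F) m).2 (c / b)
    have hx0 : x ≠ 0 := by
      rintro rfl
      simp only [zero_mul] at hx
      exact (div_ne_zero hc hb0) hx.symm
    have h1 := hV2 (dd m (Units.mk0 x hx0)) (FLZ.mem_norm_ZU.2 (dd_oinf m _)) _ hbV
    rw [dd_t_conj] at h1
    simp only [mul_zero, Units.val_mk0] at h1
    have e : x * th F m x * b = c := by
      have hx' : x * th F m x = c / b := hx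
      rw [hx', div_mul_cancel₀ _ hb0]
    rwa [e] at h1

/-- the case of order two -/
theorem FLD.uniqN_two {M : Type*} [Group M] {Z : Subgroup M} {s t : M} (hs : s * s = 1)
    (ht : t * t = 1) (hs1 : s ≠ 1) (hZ : Z = Subgroup.zpowers s)
    (hgen : Subgroup.zpowers s ⊔ Subgroup.zpowers t = ⊤)
    (hno : ∀ v : M, v ^ 2 = 1 → (∀ w, v * w = w * v) → v = 1) : UniqN 2 Z := by
  have hsi : s⁻¹ = s := inv_eq_of_mul_eq_one_left hs
  have hZs : ∀ z, z ∈ Z ↔ z = 1 ∨ z = s := by
    intro z
    rw [hZ, Subgroup.mem_zpowers_iff]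
    constructor
    · rintro ⟨k, rfl⟩
      rcases Int.even_or_odd' k with ⟨l, rfl | rfl⟩
      · left; rw [zpow_mul, zpow_ofNat, pow_two, hs, one_zpow]
      · right; rw [zpow_add, zpow_mul, zpow_ofNat, pow_two, hs, one_zpow, one_mul, zpow_one]
    · rintro (rfl | rfl)
      · exact ⟨0, zpow_zero s⟩
      · exact ⟨1, zpow_one z⟩
  intro V hV1 hV2 hV3 hV4
  -- elements commuting with s of exponent two, central when inverted/rotations
  have hcom : ∀ v ∈ V, v * s = s * v := by
    intro v hv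
    have h1 := hV1 hv
    rw [Subgroup.mem_normalizer_iff] at h1
    have h2 := (h1 s).1 ((hZs s).2 (Or.inr rfl))
    rcases (hZs _).1 h2 with h3 | h3
    · exfalso
      apply hs1
      calc s = v⁻¹ * (v * s * v⁻¹) * v := by group
        _ = 1 := by rw [h3]; group
    · exact mul_inv_eq_iff_eq_mul.1 h3
  have hVZ : ∀ v ∈ V, v = 1 ∨ v = s := by
    intro v hv
    have hvs := hcom v hv
    have hv2 : v * v = 1 := by rw [← pow_two]; exact hV3 v hv
    -- both `v` and `v s`: one is a rotation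
    set r := s * t with hr
    have hti : t⁻¹ = t := inv_eq_of_mul_eq_one_left ht
    -- description of the group
    have key : ∃ k : ℤ, v = r ^ k ∨ v = r ^ k * s := by
      have hsr : s * r * s⁻¹ = r⁻¹ := by
        rw [hr, mul_inv_rev, hti, ← mul_assoc, hs, one_mul]
      have hsr' : ∀ k : ℤ, s * r ^ k * s⁻¹ = (r ^ k)⁻¹ := by
        intro k
        rw [← conj_zpow, hsr, inv_zpow]
      have hmem : v ∈ Subgroup.zpowers s ⊔ Subgroup.zpowers t := by rw [hgen]; trivial
      clear hv hvs hv2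
      rw [Subgroup.zpowers_eq_closure, Subgroup.zpowers_eq_closure, ← Subgroup.closure_union] at hmem
      induction hmem using Subgroup.closure_induction with
      | mem x hx =>
        rcases hx with hx | hx
        · rw [Set.mem_singleton_iff] at hx
          exact ⟨0, Or.inr (by rw [hx, zpow_zero, one_mul])⟩
        · rw [Set.mem_singleton_iff] at hx
          refine ⟨-1, Or.inr ?_⟩
          rw [hx, zpow_neg_one, hr, mul_inv_rev, hti, hsi, mul_assoc, hs, mul_one]
      | one => exact ⟨0, Or.inl (by rw [zpow_zero])⟩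
      | mul x y _ _ hx hy =>
        obtain ⟨k, hk⟩ := hx
        obtain ⟨l, hl⟩ := hy
        rcases hk with rfl | rfl <;> rcases hl with rfl | rfl
        · exact ⟨k + l, Or.inl (by rw [zpow_add])⟩
        · exact ⟨k + l, Or.inr (by rw [zpow_add, mul_assoc])⟩
        · refine ⟨k - l, Or.inr ?_⟩
          have h1 : s * r ^ l = (r ^ l)⁻¹ * s := by rw [← hsr']; group
          rw [mul_assoc, h1, ← mul_assoc, ← zpow_neg, ← zpow_add, sub_eq_add_neg]
        · refine ⟨k - l, Or.inl ?_⟩
          have h1 : s * r ^ l = (r ^ l)⁻¹ * s := by rw [← hsr']; group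
          calc r ^ k * s * (r ^ l * s) = r ^ k * (s * r ^ l) * s := by group
            _ = r ^ k * (r ^ l)⁻¹ * (s * s) := by rw [h1]; group
            _ = r ^ (k - l) := by rw [hs, mul_one, ← zpow_neg, ← zpow_add, sub_eq_add_neg]
      | inv x _ hx =>
        obtain ⟨k, hk⟩ := hx
        rcases hk with rfl | rfl
        · exact ⟨-k, Or.inl (by rw [zpow_neg])⟩
        · refine ⟨k, Or.inr ?_⟩
          rw [mul_inv_rev, ← hsr' k]
          rw [hsi]
          calc s * (s * r ^ k * s) = (s * s) * r ^ k * s := by group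
            _ = r ^ k * s := by rw [hs, one_mul]
    have hcent : ∀ k : ℤ, (r ^ k) * s = s * r ^ k → ∀ w, (r ^ k) * w = w * r ^ k := by
      intro k hk w
      have h1 : (⊤ : Subgroup M) ≤ Subgroup.centralizer {r ^ k} := by
        rw [← hgen]
        refine sup_le ?_ ?_
        · rw [Subgroup.zpowers_le, Subgroup.mem_centralizer_singleton_iff]
          exact hk.symm
        · rw [Subgroup.zpowers_le, Subgroup.mem_centralizer_singleton_iff]
          have h2 : t = s * r := by rw [hr, ← mul_assoc, hs, one_mul]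
          have h3 : r * r ^ k = r ^ k * r := (Commute.refl r).zpow_right k
          rw [h2, mul_assoc, h3, ← mul_assoc, ← hk, mul_assoc]
      have h2 := h1 (Subgroup.mem_top w)
      rw [Subgroup.mem_centralizer_singleton_iff] at h2
      exact h2.symm
    obtain ⟨k, hk | hk⟩ := key
    · left
      rw [hk] at hvs hv2 ⊢
      exact hno _ (by rw [pow_two]; exact hv2) (hcent k hvs)
    · right
      have h1 : r ^ k = v * s := by rw [hk, mul_assoc, hs, mul_one]
      have h2 : r ^ k * s = s * r ^ k := by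
        rw [h1, mul_assoc, hs, mul_one, hvs, ← mul_assoc, hs, one_mul]
      have h3 : (r ^ k) ^ 2 = 1 := by
        rw [h1, pow_two]
        calc v * s * (v * s) = v * (s * v) * s := by group
          _ = v * (v * s) * s := by rw [hvs]
          _ = (v * v) * (s * s) := by group
          _ = 1 := by rw [hv2, hs, one_mul]
      have h4 := hno _ h3 (hcent k h2)
      rw [hk, h4, one_mul]
  apply le_antisymm
  · intro v hv; exact (hZs v).2 (hVZ v hv)
  · intro z hz
    rcases (hZs z).1 hz with rfl | rfl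
    · exact one_mem _
    · -- `V` is nontrivial
      obtain ⟨v, hv, hv1⟩ : ∃ v ∈ V, v ≠ 1 := by
        by_contra hcon
        push Not at hcon
        exact hV4 ((Subgroup.eq_bot_iff_forall V).2 hcon)
      have := (hVZ v hv).resolve_left hv1
      rwa [this] at hv

end Cfsg.Agent.H18
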