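import Cfsg.Agent.H18.FL8
import Cfsg.Agent.H1.Chief

/-!
# The members of `𝔏_G(Y)`: the normalizer quotient, part 2 (helper18)
-/

set_option autoImplicit false
set_option linter.style.haveILetI false
open Cfsg

universe u

namespace Cfsg.Agent.H18

theorem UniqN.of_equiv {N N' : Type*} [Group N] [Group N'] {p : ℕ} {Z : Subgroup N} (e : N ≃* N')
    (h : UniqN p (Z.map e.toMonoidHom)) : UniqN p Z := by
  have hmem : ∀ (W : Subgroup N) (x : N), e x ∈ W.map e.toMonoidHom ↔ x ∈ W := by
    intro W x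
    constructor
    · rintro ⟨y, hy, hyx⟩
      have : y = x := e.injective hyx
      rw [← this]; exact hy
    · intro hx; exact ⟨x, hx, rfl⟩
  have hn : ∀ x, e x ∈ Subgroup.normalizer ((Z.map e.toMonoidHom : Subgroup N') : Set N') ↔
      x ∈ Subgroup.normalizer (Z : Set N) := by
    intro x
    rw [Subgroup.mem_normalizer_iff, Subgroup.mem_normalizer_iff]
    constructor
    · intro h1 y
      have h2 := h1 (e y)
      rwa [← map_inv, ← map_mul, ← map_mul, hmem, hmem] at h2
    · intro h1 y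
      obtain ⟨y, rfl⟩ := e.surjective y
      rw [← map_inv, ← map_mul, ← map_mul, hmem, hmem]
      exact h1 y
  intro V hV1 hV2 hV3 hV4
  have h1 := h (V.map e.toMonoidHom) (by
    rintro _ ⟨x, hx, rfl⟩
    exact (hn x).2 (hV1 hx)) (by
    rintro g hg _ ⟨x, hx, rfl⟩
    obtain ⟨g, rfl⟩ := e.surjective g
    refine ⟨g * x * g⁻¹, hV2 g ((hn g).1 hg) x hx, ?_⟩
    simp) (by
    rintro _ ⟨x, hx, rfl⟩
    rw [← map_pow, hV3 x hx, map_one]) (by
    intro h2
    apply hV4
    rw [Subgroup.map_eq_bot_iff_of_injective _ e.injective] at h2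
    exact h2)
  exact Subgroup.map_injective e.injective h1

section
variable {G : Type u} [Group G] [Finite G] {p : ℕ} [hp : Fact p.Prime] {M L : Subgroup G}

/-- facts on images -/
theorem frakL_uniq (hL : IsInFrakL p M L) :
    UniqN p (((largestPReducedOf p M).subgroupOf L).map (QuotientGroup.mk' (pCore p L))) := by
  have hNS := frakL_ns hL
  obtain ⟨h1, h2, h3, h4, h5, ⟨h6, h7⟩, h8⟩ := hL
  set Y := largestPReducedOf p M with hY
  set Y' := Y.subgroupOf L with hY'
  set π := QuotientGroup.mk' (pCore p L) with hπ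
  have hs : Function.Surjective π := QuotientGroup.mk'_surjective _
  have hk : π.ker = pCore p L := QuotientGroup.ker_mk' _
  have hel : IsElementaryAbelian p Y := largestOf_elem
  have hY'p : ∀ y ∈ Y', y ^ p = 1 := by
    intro y hy
    apply Subtype.ext
    exact hel.2 y hy
  have hcard : Nat.card (Y'.map π) = (Y ⊓ pCoreOf p L).relIndex Y := by
    rw [← Subgroup.relIndex_ker, hk]
    have e1 : pCore p L = (pCoreOf p L).subgroupOf L := by
      ext ⟨x, hx⟩
      rw [Subgroup.mem_subgroupOf]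
      exact (mem_pCoreOf_iff hx).symm
    rw [e1, hY', Subgroup.relIndex_subgroupOf h1, inf_comm, Subgroup.inf_relIndex_right]
  have hpg : ∀ z ∈ Y'.map π, z ^ p = 1 := by
    rintro _ ⟨y, hy, rfl⟩
    rw [← map_pow, hY'p y hy, map_one]
  have hpg' : ∀ k : ℕ, k = p → ∀ z ∈ Y'.map π, z ^ k = 1 := by
    rintro _ rfl; exact hpg
  have hconv : ∀ (N : Type u) [Group N] (Z : Subgroup N) (k : ℕ), k = p → UniqN k Z → UniqN p Z := by
    rintro N _ Z _ rfl h; exact h
  have hconv0 : ∀ (N : Type) [Group N] (Z : Subgroup N) (k : ℕ), k = p → UniqN k Z → UniqN p Z := by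
    rintro N _ Z _ rfl h; exact h
  have hpg2 : IsPGroup p (Y'.map π) := by
    intro z
    refine ⟨1, Subtype.ext ?_⟩
    rw [pow_one]
    exact hpg z z.2
  have hne : Y'.map π ≠ ⊥ := by
    intro h9
    rw [Subgroup.map_eq_bot_iff, hk] at h9
    have hn := hNS.nA
    have h10 : pCore p L = ⊤ := by
      rw [eq_top_iff, ← hNS.gen]
      exact Subgroup.normalClosure_le_normal h9
    apply hNS.nn
    rw [eq_top_iff, ← h10]
    exact hNS.AN
  have hcorebot : pCore p (L ⧸ pCore p L) = ⊥ := H1.pCore_quotient_eq_bot p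
  have htwo : p = 2 → Nat.card (Y'.map π) = 2 → UniqN p (Y'.map π) := by
    intro hp2 hc
    -- generator
    obtain ⟨s, hsZ, hs1⟩ : ∃ s ∈ Y'.map π, s ≠ 1 := by
      by_contra hcon
      push Not at hcon
      exact hne ((Subgroup.eq_bot_iff_forall _).2 hcon)
    have hss : s * s = 1 := by
      have := hpg' 2 hp2.symm s hsZ
      rwa [pow_two] at this
    have hZ : Y'.map π = Subgroup.zpowers s := by
      have hle : Subgroup.zpowers s ≤ Y'.map π := (Subgroup.zpowers_le).2 hsZ
      symm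
      apply Subgroup.eq_of_le_of_card_ge hle
      rw [hc, Nat.card_zpowers]
      have ho : orderOf s = 2 := orderOf_eq_prime (by rw [pow_two]; exact hss) hs1
      rw [ho]
    obtain ⟨x, hx⟩ : ∃ x, x ∉ Subgroup.normalizer (Y' : Set L) := by
      by_contra hcon
      push Not at hcon
      exact hNS.nn (eq_top_iff.2 (fun y _ => hcon y))
    have hgen := congrArg (Subgroup.map π) (hNS.sup hx)
    rw [Subgroup.map_sup, NS.map_cj, Subgroup.map_top_of_surjective π hs] at hgen
    have h9 : cj (π x) (Y'.map π) = Subgroup.zpowers (π x * s * (π x)⁻¹) := by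
      rw [hZ]
      unfold cj
      rw [MonoidHom.map_zpowers]
      rfl
    rw [h9, hZ] at hgen
    apply hconv _ _ 2 hp2.symm
    refine FLD.uniqN_two hss (t := π x * s * (π x)⁻¹) ?_ hs1 hZ hgen ?_
    · calc π x * s * (π x)⁻¹ * (π x * s * (π x)⁻¹) = π x * (s * s) * (π x)⁻¹ := by group
        _ = 1 := by rw [hss]; group
    · intro v hv2 hvc
      have hn : (Subgroup.zpowers v).Normal := by
        constructor
        rintro _ ⟨k, rfl⟩ y
        refine ⟨k, ?_⟩
        have hcy : Commute y v := (hvc y).symm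
        have h10 : y * v ^ k = v ^ k * y := hcy.zpow_right k
        simp only
        rw [h10]; group
      have hpp : IsPGroup p (Subgroup.zpowers v) := by
        rintro ⟨_, k, rfl⟩
        have hvk : ∀ k : ℕ, 2 = k → v ^ k = 1 := by rintro _ rfl; exact hv2
        refine ⟨1, Subtype.ext ?_⟩
        rw [pow_one]
        change (v ^ k) ^ p = 1
        rw [← zpow_natCast, ← zpow_mul, mul_comm, zpow_mul, zpow_natCast, hvk p hp2.symm, one_zpow]
      have h11 := H1.le_pCore hn hpp
      rw [hcorebot] at h11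
      have h12 := h11 (Subgroup.mem_zpowers v)
      rwa [Subgroup.mem_bot] at h12
  rcases h8 with ⟨F, _, _, hF, ⟨e⟩⟩ | ⟨hp2, F, _, _, m, hF, hF2, ⟨e⟩⟩ | ⟨hp2, r, hr, hr2, ⟨e⟩⟩
  · have hc : Nat.card ((Y'.map π).map e.toMonoidHom) = Fintype.card F := by
      rw [Subgroup.card_map_of_injective e.injective, hcard, hF]
    have hpg3 : IsPGroup p ((Y'.map π).map e.toMonoidHom) := hpg2.map _
    haveI := FLS.charP_of_card_pgroup (F := F) hpg3 hc
    obtain ⟨c, hcU⟩ := FLS.exists_conj_UU hpg3 hc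
    apply UniqN.of_equiv e
    apply UniqN.of_cj (c := c)
    rw [hcU]
    exact FLS.uniqN_UU
  · rcases Nat.eq_zero_or_pos m with hm | hm
    · apply htwo hp2
      rw [hcard, ← hF2, hF, hm]; norm_num
    · haveI : H15.Suz.SzF F m := ⟨hm, hF⟩
      let e' : L ⧸ pCore p L ≃* H15.Suz.Sg F m := e.trans (H15.Suz.lieEquiv F m).symm
      have hc : Nat.card ((Y'.map π).map e'.toMonoidHom) = Fintype.card F := by
        rw [Subgroup.card_map_of_injective e'.injective, hcard, hF2]
      obtain ⟨c, hcU⟩ := FLZ.exists_conj_ZU (Z := (Y'.map π).map e'.toMonoidHom) (by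
        rintro _ ⟨y, hy, rfl⟩
        rw [← map_pow, hpg' 2 hp2.symm y hy, map_one]) hc
      apply UniqN.of_equiv e'
      apply UniqN.of_cj (c := c)
      rw [hcU]
      exact hconv0 _ _ 2 hp2.symm FLZ.uniqN_ZU
  · apply htwo hp2
    -- order two
    haveI : NeZero r := ⟨hr.ne_zero⟩
    obtain ⟨k, hk2⟩ := IsPGroup.iff_card.1 hpg2
    have hdvd : Nat.card (Y'.map π) ∣ 2 * r := by
      have := Subgroup.card_subgroup_dvd_card (Y'.map π)
      rwa [Nat.card_congr e.toEquiv, DihedralGroup.nat_card] at this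
    rw [hk2, hp2] at hdvd
    rw [hk2, hp2]
    have hk0 : k ≠ 0 := by
      rintro rfl
      rw [pow_zero] at hk2
      exact hne (Subgroup.eq_bot_of_card_eq _ hk2)
    have hk1 : k ≤ 1 := by
      by_contra hcon
      have h9 : 2 ^ 2 ∣ 2 * r := (pow_dvd_pow 2 (by omega)).trans hdvd
      have h10 : 2 ∣ r := by
        rw [pow_two] at h9
        exact Nat.dvd_of_mul_dvd_mul_left (by norm_num) h9
      exact hr2 ((Nat.prime_dvd_prime_iff_eq Nat.prime_two hr).1 h10).symm
    have : k = 1 := by omega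
    rw [this, pow_one]

theorem frakL_quot (hL : IsInFrakL p M L) (NL : Subgroup G)
    (hNL : NL = L ⊓ Subgroup.normalizer ((largestPReducedOf p M : Subgroup G) : Set G))
    [hn : ((pCoreOf p L).subgroupOf NL).Normal] :
    (((largestPReducedOf p M).subgroupOf NL).map
        (QuotientGroup.mk' ((pCoreOf p L).subgroupOf NL))) ≠ ⊥ ∧
    (((largestPReducedOf p M).subgroupOf NL).map
        (QuotientGroup.mk' ((pCoreOf p L).subgroupOf NL))).Normal ∧
    IsElementaryAbelian p (((largestPReducedOf p M).subgroupOf NL).map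
        (QuotientGroup.mk' ((pCoreOf p L).subgroupOf NL))) ∧
    ∀ (V : Subgroup (↥NL ⧸ (pCoreOf p L).subgroupOf NL)), V.Normal → IsElementaryAbelian p V →
      V ≠ ⊥ → V = ((largestPReducedOf p M).subgroupOf NL).map
        (QuotientGroup.mk' ((pCoreOf p L).subgroupOf NL)) := by
  have hNS := frakL_ns hL
  have hU := frakL_uniq hL
  have hYL : largestPReducedOf p M ≤ L := hL.1
  set Y := largestPReducedOf p M with hY
  set Y' := Y.subgroupOf L with hY'
  set π := QuotientGroup.mk' (pCore p L) with hπ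
  have hs : Function.Surjective π := QuotientGroup.mk'_surjective _
  have hk : π.ker = pCore p L := QuotientGroup.ker_mk' _
  have hel : IsElementaryAbelian p Y := largestOf_elem
  have hNLL : NL ≤ L := by rw [hNL]; exact inf_le_left
  have hYNL : Y ≤ NL := by rw [hNL]; exact le_inf hYL Subgroup.le_normalizer
  have hNLN : ∀ x ∈ NL, x ∈ Subgroup.normalizer (Y : Set G) := by
    intro x hx
    rw [hNL] at hx
    exact (Subgroup.mem_inf.1 hx).2
  set B := (pCoreOf p L).subgroupOf NL with hB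
  set q := QuotientGroup.mk' B with hq
  have hqs : Function.Surjective q := QuotientGroup.mk'_surjective _
  have hqk : q.ker = B := QuotientGroup.ker_mk' _
  let ρ : NL →* L ⧸ pCore p L := π.comp (Subgroup.inclusion hNLL)
  have hρk : ρ.ker = B := by
    ext ⟨x, hx⟩
    rw [MonoidHom.mem_ker, hB, Subgroup.mem_subgroupOf, mem_pCoreOf_iff (hNLL hx)]
    have h1 : π ⟨x, hNLL hx⟩ = 1 ↔ (⟨x, hNLL hx⟩ : L) ∈ pCore p L := by
      rw [← MonoidHom.mem_ker, hk]
    exact h1
  have hρq : ∀ x, ρ x = 1 ↔ q x = 1 := by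
    intro x
    rw [← MonoidHom.mem_ker, ← MonoidHom.mem_ker, hρk, hqk]
  have hρqe : ∀ x y, ρ x = ρ y ↔ q x = q y := by
    intro x y
    have := hρq (x * y⁻¹)
    rwa [map_mul, map_inv, mul_inv_eq_one, map_mul, map_inv, mul_inv_eq_one] at this
  have hnm : ∀ x : NL, ρ x ∈ Subgroup.normalizer ((Y'.map π : Subgroup _) : Set _) := by
    rintro ⟨x, hx⟩
    apply NS.map_norm_le
    have h1 := hNLN x hx
    rw [Subgroup.mem_normalizer_iff] at h1 ⊢
    rintro ⟨y, hy⟩
    exact h1 y
  have hns : ∀ n ∈ Subgroup.normalizer ((Y'.map π : Subgroup _) : Set _), ∃ x : NL, ρ x = n := by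
    intro n hn
    obtain ⟨x, rfl⟩ := hs n
    have h1 := hNS.norm_of_map π hs hk hn
    have h2 : (x : G) ∈ NL := by
      rw [hNL]
      refine Subgroup.mem_inf.2 ⟨x.2, ?_⟩
      rw [Subgroup.mem_normalizer_iff] at h1 ⊢
      intro y
      constructor
      · intro hy
        exact (h1 ⟨y, hYL hy⟩).1 hy
      · intro hy
        have hyL : y ∈ L := by
          have h10 := hYL hy
          have : y = (x : G)⁻¹ * (x * y * (x : G)⁻¹) * x := by group
          rw [this]
          exact L.mul_mem (L.mul_mem (L.inv_mem x.2) h10) x.2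
        exact (h1 ⟨y, hyL⟩).2 hy
    exact ⟨⟨x, h2⟩, rfl⟩
  -- membership in `Ybar`
  have hYb : ∀ x : NL, q x ∈ (Y.subgroupOf NL).map q ↔ ρ x ∈ Y'.map π := by
    intro x
    constructor
    · rintro ⟨y, hy, hyx⟩
      refine ⟨Subgroup.inclusion hNLL y, hy, ?_⟩
      exact (hρqe y x).2 hyx
    · rintro ⟨y, hy, hyx⟩
      refine ⟨⟨y, hYNL hy⟩, hy, ?_⟩
      apply (hρqe _ x).1
      exact hyx
  refine ⟨?_, ?_, ?_, ?_⟩
  · intro h1
    have h2 : Y'.map π = ⊥ := by
      rw [Subgroup.eq_bot_iff_forall]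
      rintro _ ⟨y, hy, rfl⟩
      have h3 : q ⟨y, hYNL hy⟩ ∈ (Y.subgroupOf NL).map q := ⟨_, hy, rfl⟩
      rw [h1, Subgroup.mem_bot, ← hρq] at h3
      exact h3
    rw [Subgroup.map_eq_bot_iff, hk] at h2
    have hn := hNS.nA
    have h10 : pCore p L = ⊤ := by
      rw [eq_top_iff, ← hNS.gen]
      exact Subgroup.normalClosure_le_normal h2
    apply hNS.nn
    rw [eq_top_iff, ← h10]
    exact hNS.AN
  · apply Subgroup.Normal.map _ _ hqs
    constructor
    rintro ⟨y, hy⟩ hyY ⟨x, hx⟩
    exact (Subgroup.mem_normalizer_iff.1 (hNLN x hx) y).1 hyY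
  · apply isElementaryAbelian_map
    refine ⟨⟨⟨?_⟩⟩, ?_⟩
    · rintro ⟨⟨x, hx⟩, hxY⟩ ⟨⟨y, hy⟩, hyY⟩
      have h9 : (⟨x, hxY⟩ : Y) * ⟨y, hyY⟩ = ⟨y, hyY⟩ * ⟨x, hxY⟩ := hel.1.1.1 _ _
      apply Subtype.ext
      apply Subtype.ext
      exact congrArg (Subtype.val : Y → G) h9
    · rintro ⟨x, hx⟩ hxY
      apply Subtype.ext
      exact hel.2 x hxY
  · intro V hVn hVe hV1
    have h1 := hU ((V.comap q).map ρ) (by
      rintro _ ⟨x, hx, rfl⟩
      exact hnm x) (by
      rintro n hn _ ⟨x, hx, rfl⟩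
      obtain ⟨y, rfl⟩ := hns n hn
      refine ⟨y * x * y⁻¹, ?_, by simp⟩
      change q (y * x * y⁻¹) ∈ V
      rw [map_mul, map_mul, map_inv]
      exact hVn.conj_mem _ hx _) (by
      rintro _ ⟨x, hx, rfl⟩
      have h2 : q (x ^ p) = 1 := by
        rw [map_pow]; exact hVe.2 _ hx
      rw [← map_pow, hρq]; exact h2) (by
      intro h2
      apply hV1
      rw [Subgroup.eq_bot_iff_forall]
      intro v hv
      obtain ⟨x, rfl⟩ := hqs v
      have h3 : ρ x ∈ (V.comap q).map ρ := ⟨x, hv, rfl⟩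
      rw [h2, Subgroup.mem_bot, hρq] at h3
      exact h3)
    ext v
    obtain ⟨x, rfl⟩ := hqs v
    rw [hYb, ← h1]
    constructor
    · intro hx; exact ⟨x, hx, rfl⟩
    · rintro ⟨y, hy, hyx⟩
      have h2 : q y = q x := (hρqe y x).1 hyx
      rw [← h2]; exact hy

end

end Cfsg.Agent.H18
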