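import Cfsg.Agent.H3.TICoh
import Cfsg.Agent.H3.IndSum
import Cfsg.Agent.H3.Counting
import Cfsg.Agent.H3.TI
import Cfsg.Prelude.Def_OddOrderLocal

/-!
# TI Frobenius pairs with coherent characters (helper18)
-/

set_option autoImplicit false
set_option linter.unusedSectionVars false
open Cfsg
open scoped ComplexConjugate

namespace Cfsg.Agent.H18

universe u

open Cfsg.Agent.H3

/-- a Frobenius group `L` with kernel `H` such that `H` is TI with normalizer `L` -/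
structure FTI (G : Type u) [Group G] where
  L : Subgroup G
  H : Subgroup G
  le : H ≤ L
  ne_top : H ≠ L
  ne_bot : H ≠ ⊥
  normal : (H.subgroupOf L).Normal
  fpf : ∀ x : L, x ∉ H.subgroupOf L → ∀ k ∈ H.subgroupOf L, x * k = k * x → k = 1
  ti : ∀ g : G, g ∉ L → ∀ k ∈ (H : Set G), g * k * g⁻¹ ∈ (H : Set G) → k = 1

variable {G : Type u} [Group G] [Fintype G]

namespace FTI

/-- the kernel as a subgroup of `L` -/
abbrev K (P : FTI G) : Subgroup P.L := P.H.subgroupOf P.L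

noncomputable instance instFintypeL (P : FTI G) : Fintype P.L := Fintype.ofFinite _

noncomputable instance instFintypeK (P : FTI G) : Fintype P.K := Fintype.ofFinite _

/-- the induced characters -/
abbrev S (P : FTI G) : Set (P.L → ℂ) := inducedIrrAbove P.K ⊥

/-- the order of the complement -/
noncomputable def e (P : FTI G) : ℕ := P.K.index

/-- the order of the kernel -/
noncomputable def h (P : FTI G) : ℕ := Nat.card P.H

theorem card_K (P : FTI G) : Nat.card P.K = P.h :=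
  Nat.card_congr (Subgroup.subgroupOfEquivOfLe P.le).toEquiv

theorem card_L (P : FTI G) : Nat.card P.L = P.e * P.h := by
  rw [← P.card_K, e, Subgroup.index_mul_card]

theorem h_pos (P : FTI G) : 0 < P.h := Nat.card_pos

theorem e_pos (P : FTI G) : 0 < P.e := Nat.pos_of_ne_zero Subgroup.index_ne_zero_of_finite

theorem e_ne_one (P : FTI G) : P.e ≠ 1 := by
  intro h
  rw [e, Subgroup.index_eq_one, Subgroup.subgroupOf_eq_top] at h
  exact P.ne_top (le_antisymm P.le h)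

theorem h_ne_one (P : FTI G) : P.h ≠ 1 := by
  intro h
  exact P.ne_bot (Subgroup.card_eq_one.1 h)

theorem e_dvd (P : FTI G) : P.e ∣ P.h - 1 := by
  rw [← P.card_K]
  refine index_dvd_card_sub_one P.K P.normal ?_
  intro k hk hk1 x hx
  by_contra hxK
  rw [Subgroup.mem_centralizer_singleton_iff] at hx
  exact hk1 (P.fpf x hxK k hk hx)

theorem e_odd (P : FTI G) (hodd : Odd (Nat.card G)) : Odd P.e := by
  have h1 : P.e ∣ Nat.card G := by
    have h2 : Nat.card P.L ∣ Nat.card G := Subgroup.card_subgroup_dvd_card P.L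
    rw [P.card_L] at h2
    exact (Dvd.intro _ rfl).trans h2
  exact hodd.of_dvd_nat h1

theorem h_odd (P : FTI G) (hodd : Odd (Nat.card G)) : Odd P.h :=
  hodd.of_dvd_nat (Subgroup.card_subgroup_dvd_card P.H)

theorem L_odd (P : FTI G) (hodd : Odd (Nat.card G)) : Odd (Nat.card P.L) :=
  hodd.of_dvd_nat (Subgroup.card_subgroup_dvd_card P.L)

theorem e_ge (P : FTI G) (hodd : Odd (Nat.card G)) : 3 ≤ P.e := by
  have h1 := P.e_odd hodd
  have h2 := P.e_ne_one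
  obtain ⟨k, hk⟩ := h1
  omega

/-- the number `(h - 1)/e` -/
noncomputable def s (P : FTI G) : ℕ := (P.h - 1) / P.e

theorem h_eq (P : FTI G) : P.h = P.e * P.s + 1 := by
  have h1 := P.e_dvd
  have h2 := P.h_pos
  rw [s, Nat.mul_div_cancel' h1]
  omega

theorem s_ge (P : FTI G) (hodd : Odd (Nat.card G)) : 2 ≤ P.s := by
  have h1 := P.h_eq
  have h2 := P.h_odd hodd
  have h3 := P.e_odd hodd
  have h4 := P.h_ne_one
  by_contra hcon
  have h5 : P.s = 0 ∨ P.s = 1 := by omega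
  rcases h5 with h5 | h5
  · rw [h5] at h1; omega
  · rw [h5, mul_one] at h1
    rw [h1] at h2
    obtain ⟨k, hk⟩ := h2
    obtain ⟨l, hl⟩ := h3
    omega

theorem h_ge (P : FTI G) (hodd : Odd (Nat.card G)) : 2 * P.e + 1 ≤ P.h := by
  have h1 := P.h_eq
  have h2 := P.s_ge hodd
  nlinarith [P.e_pos]

/-! ### the set `S` -/

theorem mem_S (P : FTI G) {ζ : P.L → ℂ} : ζ ∈ P.S ↔
    ∃ θ : P.K → ℂ, IsIrrCharacter P.K θ ∧ θ ≠ (fun _ => 1) ∧ ζ = indFun P.K θ := by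
  constructor
  · rintro ⟨θ, h1, h2, -, h3⟩
    exact ⟨θ, h1, h2, h3⟩
  · rintro ⟨θ, h1, h2, h3⟩
    refine ⟨θ, h1, h2, ?_, h3⟩
    intro a ha
    have : a = 1 := Subtype.ext (Subgroup.mem_bot.1 ha)
    rw [this]

theorem S_irr (P : FTI G) {ζ : P.L → ℂ} (hζ : ζ ∈ P.S) : IsIrrCharacter P.L ζ := by
  obtain ⟨θ, h1, h2, rfl⟩ := P.mem_S.1 hζ
  exact isIrr_ind_of_fpf P.normal P.fpf h1 h2

theorem S_eq (P : FTI G) :
    P.S = {χ : P.L → ℂ | IsIrrCharacter P.L χ ∧ ∃ k : P.L, (k : G) ∈ P.H ∧ χ k ≠ χ 1} := by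
  ext ζ
  constructor
  · intro hζ
    have h1 := P.S_irr hζ
    exact ⟨h1, (relevant_iff P.normal P.fpf h1).2 (P.mem_S.1 hζ)⟩
  · rintro ⟨h1, h2⟩
    exact P.mem_S.2 ((relevant_iff P.normal P.fpf h1).1 h2)

theorem S_off (P : FTI G) {ζ : P.L → ℂ} (hζ : ζ ∈ P.S) {x : P.L} (hx : (x : G) ∉ P.H) :
    ζ x = 0 := by
  obtain ⟨θ, h1, h2, rfl⟩ := P.mem_S.1 hζ
  exact indFun_not_mem_normal P.normal θ (fun h => hx (Subgroup.mem_subgroupOf.1 h))

/-- the degree of `ζ` divided by `e` -/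
noncomputable def d (P : FTI G) (ζ : P.L → ℂ) : ℕ := dg ζ / P.e

theorem S_dg (P : FTI G) {ζ : P.L → ℂ} (hζ : ζ ∈ P.S) : dg ζ = P.e * P.d ζ ∧ 0 < P.d ζ := by
  have h0 : P.e ∣ dg ζ ∧ 0 < dg ζ := by
    constructor
    · obtain ⟨θ, h1, h2, rfl⟩ := P.mem_S.1 hζ
      rw [dg_ind (irr_isChar h1)]
      exact Dvd.intro _ rfl
    · exact dg_pos (P.S_irr hζ)
  refine ⟨(Nat.mul_div_cancel' h0.1).symm, Nat.div_pos (Nat.le_of_dvd h0.2 h0.1) P.e_pos⟩

theorem S_one (P : FTI G) {ζ : P.L → ℂ} (hζ : ζ ∈ P.S) : ζ 1 = ((P.e * P.d ζ : ℕ) : ℂ) := by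
  rw [← (P.S_dg hζ).1]
  exact dg_eq (irr_isChar (P.S_irr hζ))

theorem S_conj (P : FTI G) {ζ : P.L → ℂ} (hζ : ζ ∈ P.S) : (fun g => conj (ζ g)) ∈ P.S := by
  obtain ⟨θ, h1, h2, rfl⟩ := P.mem_S.1 hζ
  refine P.mem_S.2 ⟨fun k => conj (θ k), isIrr_conj h1, ?_, ?_⟩
  · intro h
    apply h2
    ext k
    have := congrFun h k
    have h3 := congrArg conj this
    simpa using h3
  · exact indFun_conj P.K θ

theorem S_conj_ne (P : FTI G) (hodd : Odd (Nat.card G)) {ζ : P.L → ℂ} (hζ : ζ ∈ P.S) :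
    (fun g => conj (ζ g)) ≠ ζ := by
  intro h
  have h1 := irr_real_of_odd (P.L_odd hodd) ⟨ζ, P.S_irr hζ⟩ (Subtype.ext h)
  have h2 : ζ = fun _ => 1 := h1
  have h3 := P.S_one hζ
  rw [h2] at h3
  have h3' : (1 : ℂ) = ((P.e * P.d (fun _ => 1) : ℕ) : ℂ) := h3
  have h4 : P.e * P.d (fun _ => 1) = 1 := by exact_mod_cast h3'.symm
  exact P.e_ne_one (Nat.eq_one_of_mul_eq_one_right h4)

theorem S_class (P : FTI G) {ζ : P.L → ℂ} (hζ : ζ ∈ P.S) : IsClassFunction P.L ζ :=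
  irr_classFun (P.S_irr hζ)

theorem S_finite (P : FTI G) : P.S.Finite := by
  haveI := Fintype.ofFinite (IrrCharacter P.K)
  rw [S, ← coe_Sa]
  exact Finset.finite_toSet _

/-- `S` as a finset -/
noncomputable def Sf (P : FTI G) : Finset (P.L → ℂ) := P.S_finite.toFinset

theorem mem_Sf (P : FTI G) {ζ : P.L → ℂ} : ζ ∈ P.Sf ↔ ζ ∈ P.S := by
  rw [Sf, Set.Finite.mem_toFinset]

theorem sum_d (P : FTI G) : ∑ ζ ∈ P.Sf, (P.d ζ) ^ 2 = P.s := by
  classical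
  haveI := Fintype.ofFinite (IrrCharacter P.K)
  have hS : P.Sf = Sa (K := P.K) ⊥ := by
    ext ζ
    rw [mem_Sf, mem_Sa]
  have h1 := sum_Sa (K := P.K) P.normal (A := ⊥) inferInstance bot_le
  rw [← hS, Subgroup.relIndex_bot_left, P.card_K] at h1
  have h2 : ∀ ζ ∈ P.Sf, ((dg ζ : ℝ) ^ 2 / nm ζ) = (P.e : ℝ) ^ 2 * (P.d ζ : ℝ) ^ 2 := by
    intro ζ hζ
    rw [P.mem_Sf] at hζ
    rw [nm_irr (P.S_irr hζ), (P.S_dg hζ).1]
    push_cast
    ring
  rw [Finset.sum_congr rfl h2, ← Finset.mul_sum] at h1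
  have h3 : (P.h : ℝ) = P.e * P.s + 1 := by exact_mod_cast P.h_eq
  have he : (P.e : ℝ) ≠ 0 := by exact_mod_cast P.e_pos.ne'
  have h4 : (P.e : ℝ) ^ 2 * ∑ ζ ∈ P.Sf, (P.d ζ : ℝ) ^ 2 = (P.e : ℝ) ^ 2 * P.s := by
    rw [h1, h3]
    show (P.K.index : ℝ) * _ = _
    rw [show (P.K.index : ℝ) = (P.e : ℝ) from rfl]
    ring
  have h5 := mul_left_cancel₀ (pow_ne_zero 2 he) h4
  exact_mod_cast h5

/-! ### supports -/

/-- the nonidentity elements conjugate into `H` -/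
def supp (P : FTI G) : Set G := {g | g ≠ 1 ∧ ∃ x : G, x⁻¹ * g * x ∈ P.H}

theorem supp_disj (P Q : FTI G) (hcop : Nat.Coprime P.h Q.h) {g : G} (h1 : g ∈ P.supp)
    (h2 : g ∈ Q.supp) : False := by
  obtain ⟨h3, x, hx⟩ := h1
  obtain ⟨-, y, hy⟩ := h2
  have e1 : ∀ z : G, orderOf (z⁻¹ * g * z) = orderOf g := by
    intro z
    have := (MulAut.conj z⁻¹).orderOf_eq g
    simpa [MulAut.conj_apply] using this
  have d1 : orderOf g ∣ P.h := by
    rw [← e1 x]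
    exact Subgroup.orderOf_dvd_natCard P.H hx
  have d2 : orderOf g ∣ Q.h := by
    rw [← e1 y]
    exact Subgroup.orderOf_dvd_natCard Q.H hy
  have h4 := Nat.eq_one_of_dvd_coprimes hcop d1 d2
  rw [orderOf_eq_one_iff] at h4
  exact h3 h4

theorem mem_supp_of_mem (P : FTI G) {k : G} (hk : k ∈ P.H) (hk1 : k ≠ 1) : k ∈ P.supp :=
  ⟨hk1, 1, by simpa using hk⟩

theorem ind_off (P : FTI G) {f : P.L → ℂ} (hf : ∀ x : P.L, (x : G) ∉ P.H → f x = 0)
    (hf1 : f 1 = 0) {g : G} (hg : g ∉ P.supp) : indFun P.L f g = 0 := by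
  simp only [indFun]
  rw [Finset.sum_eq_zero, mul_zero]
  intro x _
  by_cases hx : x⁻¹ * g * x ∈ P.L
  · rw [extendByZero_mem _ _ hx]
    by_cases h1 : x⁻¹ * g * x ∈ P.H
    · by_cases hg1 : g = 1
      · subst hg1
        have : (⟨x⁻¹ * 1 * x, hx⟩ : P.L) = 1 := Subtype.ext (by simp)
        rw [this, hf1]
      · exact absurd ⟨hg1, x, h1⟩ hg
    · exact hf _ h1
  · exact extendByZero_not_mem _ _ hx

theorem ind_on (P : FTI G) {f : P.L → ℂ} (hc : IsClassFunction P.L f)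
    (hf : ∀ x : P.L, (x : G) ∉ P.H → f x = 0) {k : P.L} (hk : (k : G) ∈ P.H) (hk1 : k ≠ 1) :
    indFun P.L f k = f k :=
  indFun_eq_of_TI P.L (P.H : Set G) P.ti f hc hf k hk hk1

theorem inner_zero (P Q : FTI G) (hcop : Nat.Coprime P.h Q.h) {a b : G → ℂ}
    (ha : ∀ g, g ∉ P.supp → a g = 0) (hb : ∀ g, g ∉ Q.supp → b g = 0) : classInner a b = 0 := by
  rw [classInner, Finset.sum_eq_zero, mul_zero]
  intro g _
  by_cases h1 : g ∈ P.supp
  · rw [hb g (fun h2 => P.supp_disj Q hcop h1 h2)]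
    simp
  · rw [ha g h1, zero_mul]

end FTI

/-- coherence of `S` -/
structure Coh (P : FTI G) where
  star : (P.L → ℂ) → (G → ℂ)
  iso : IsLinearIsometryOn (zspan P.S) star
  ext : ∀ α ∈ zspanOn P.S ({1}ᶜ : Set P.L), star α = indFun P.L α
  z : P.L → ℂ
  hz : z ∈ P.S
  hz1 : z 1 = (P.e : ℂ)

namespace Coh

variable {P : FTI G}

theorem gen (C : Coh P) {ζ : P.L → ℂ} (hζ : ζ ∈ P.S) : IsGeneralizedCharacter G (C.star ζ) :=
  C.iso.2.2.2 _ (Submodule.subset_span hζ)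

theorem cls (C : Coh P) {ζ : P.L → ℂ} (hζ : ζ ∈ P.S) : IsClassFunction G (C.star ζ) :=
  isGen_classFun (C.gen hζ)

theorem inner (C : Coh P) {ζ ξ : P.L → ℂ} (hζ : ζ ∈ P.S) (hξ : ξ ∈ P.S) :
    classInner (C.star ζ) (C.star ξ) = classInner ζ ξ :=
  C.iso.2.2.1 _ (Submodule.subset_span hζ) _ (Submodule.subset_span hξ)

theorem inner_self (C : Coh P) {ζ : P.L → ℂ} (hζ : ζ ∈ P.S) :
    classInner (C.star ζ) (C.star ζ) = 1 := by
  rw [C.inner hζ hζ, classInner_self_of_irr (P.S_irr hζ)]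

theorem inner_ne (C : Coh P) {ζ ξ : P.L → ℂ} (hζ : ζ ∈ P.S) (hξ : ξ ∈ P.S) (h : ζ ≠ ξ) :
    classInner (C.star ζ) (C.star ξ) = 0 := by
  rw [C.inner hζ hξ, classInner_of_irr_ne (P.S_irr hζ) (P.S_irr hξ) h]

theorem d_z (C : Coh P) : P.d C.z = 1 := by
  have h1 := P.S_one C.hz
  rw [C.hz1] at h1
  have h2 : P.e = P.e * P.d C.z := by exact_mod_cast h1
  have h3 := P.e_pos
  nlinarith

/-- `star ζ - d(ζ) star z` is induced from `ζ - d(ζ) z`. -/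
theorem cross (C : Coh P) {ζ ξ : P.L → ℂ} (hζ : ζ ∈ P.S) (hξ : ξ ∈ P.S) (g : G) :
    (P.d ξ : ℂ) * C.star ζ g - (P.d ζ : ℂ) * C.star ξ g =
      indFun P.L ((P.d ξ : ℂ) • ζ - (P.d ζ : ℂ) • ξ) g := by
  have h1 := coh_cross C.iso C.ext hζ hξ (P.S_one hζ) (P.S_one hξ)
  have h2 := congrFun h1 g
  have h3 : (((P.e * P.d ξ : ℕ) : ℂ) • ζ - ((P.e * P.d ζ : ℕ) : ℂ) • ξ) =
      (P.e : ℂ) • ((P.d ξ : ℂ) • ζ - (P.d ζ : ℂ) • ξ) := by
    push_cast
    rw [smul_sub, smul_smul, smul_smul]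
  rw [h3, indFun_smul] at h2
  simp only [Pi.sub_apply, Pi.smul_apply, smul_eq_mul] at h2
  push_cast at h2
  have he : (P.e : ℂ) ≠ 0 := by exact_mod_cast P.e_pos.ne'
  apply mul_left_cancel₀ he
  rw [← h2]
  ring

theorem cross_off (C : Coh P) {ζ ξ : P.L → ℂ} (hζ : ζ ∈ P.S) (hξ : ξ ∈ P.S) {g : G}
    (hg : g ∉ P.supp) :
    (P.d ξ : ℂ) * C.star ζ g = (P.d ζ : ℂ) * C.star ξ g := by
  rw [← sub_eq_zero, C.cross hζ hξ]
  apply P.ind_off _ _ hg
  · intro x hx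
    simp only [Pi.sub_apply, Pi.smul_apply, smul_eq_mul]
    rw [P.S_off hζ hx, P.S_off hξ hx]
    ring
  · simp only [Pi.sub_apply, Pi.smul_apply, smul_eq_mul]
    rw [P.S_one hζ, P.S_one hξ]
    push_cast
    ring

theorem cross_on (C : Coh P) {ζ ξ : P.L → ℂ} (hζ : ζ ∈ P.S) (hξ : ξ ∈ P.S) {k : P.L}
    (hk : (k : G) ∈ P.H) (hk1 : k ≠ 1) :
    (P.d ξ : ℂ) * (C.star ζ k - ζ k) = (P.d ζ : ℂ) * (C.star ξ k - ξ k) := by
  have h1 := C.cross hζ hξ k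
  rw [P.ind_on (classFun_sub (classFun_smul _ (P.S_class hζ)) (classFun_smul _ (P.S_class hξ)))
    (fun x hx => by
      simp only [Pi.sub_apply, Pi.smul_apply, smul_eq_mul]
      rw [P.S_off hζ hx, P.S_off hξ hx]
      ring) hk hk1] at h1
  simp only [Pi.sub_apply, Pi.smul_apply, smul_eq_mul] at h1
  linear_combination h1

/-- the constant value of `star ζ - ζ` on `H#` -/
theorem exists_b (C : Coh P) {ζ : P.L → ℂ} (hζ : ζ ∈ P.S) :
    ∃ b : ℤ, ∀ k : P.L, (k : G) ∈ P.H → k ≠ 1 → C.star ζ k = ζ k + b := by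
  obtain ⟨c, hc⟩ := coh_const P.normal P.fpf P.S_eq C.iso C.ext hζ
  refine ⟨c, fun k hk hk1 => ?_⟩
  have := hc k (Subgroup.mem_subgroupOf.2 hk) hk1
  rw [← this]
  ring

theorem exists_mem_ne_one (P : FTI G) : ∃ k : P.L, (k : G) ∈ P.H ∧ k ≠ 1 := by
  obtain ⟨k, hk, hk1⟩ := P.H.ne_bot_iff_exists_ne_one.1 P.ne_bot |>.elim
    (fun a ha => (⟨a, a.2, fun h => ha (Subtype.ext h)⟩ : ∃ k : G, k ∈ P.H ∧ k ≠ 1))
  exact ⟨⟨k, P.le hk⟩, hk, fun h => hk1 (congrArg Subtype.val h)⟩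

/-- a generalized character orthogonal to all `star ζ` is constant on `H#` -/
theorem const_of_perp (C : Coh P) {φ : G → ℂ} (hφ : IsGeneralizedCharacter G φ)
    (h : ∀ ζ ∈ P.S, classInner φ (C.star ζ) = 0) :
    ∃ c : ℤ, ∀ k ∈ P.H, k ≠ 1 → φ k = c := by
  have hf : IsGeneralizedCharacter P.L (fun n : P.L => φ n) := isGen_restrict P.L hφ
  obtain ⟨n, hn⟩ := classInner_gen_int hf (isGen_of_irr (P.S_irr C.hz))
  have he : (P.e : ℂ) ≠ 0 := by exact_mod_cast P.e_pos.ne'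
  have hmult : ∀ η : P.L → ℂ, IsIrrCharacter P.L η → (∃ k : P.L, k ∈ P.K ∧ η k ≠ η 1) →
      classInner (fun n : P.L => φ n) η = (n / P.e : ℂ) * η 1 := by
    intro η hη hrel
    have hηS : η ∈ P.S := by
      rw [P.S_eq]; exact ⟨hη, hrel⟩
    have h1 := coh_mult C.iso C.ext hηS C.hz (P.S_one hηS) (e := P.e) C.hz1 (isGen_classFun hφ)
    rw [h _ hηS, h _ C.hz, hn, sub_zero, sub_zero] at h1
    rw [P.S_one hηS]
    field_simp
    linear_combination h1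
  obtain ⟨c, hc⟩ := const_of_inner_S P.normal P.fpf hf _ hmult
  obtain ⟨k₀, hk₀, hk₀1⟩ := exists_mem_ne_one P
  have h3 := hc k₀ (Subgroup.mem_subgroupOf.2 hk₀) hk₀1
  have hint := gen_isIntegral hf k₀
  rw [h3] at hint
  have h4 : ((c : ℂ) - (n / P.e : ℂ) * (P.K.index : ℂ)) =
      ((c - n / P.e * P.K.index : ℚ) : ℂ) := by push_cast; ring
  rw [h4] at hint
  obtain ⟨w, hw⟩ := exists_int_of_isIntegral_rat hint
  refine ⟨w, fun k hk hk1 => ?_⟩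
  have h5 := hc ⟨k, P.le hk⟩ (Subgroup.mem_subgroupOf.2 hk) (fun h => hk1 (congrArg Subtype.val h))
  have h6 : φ k = ((c : ℂ) - (n / P.e : ℂ) * (P.K.index : ℂ)) := h5
  rw [h6, h4, hw]
  simp

end Coh

end Cfsg.Agent.H18
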