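import Cfsg.Agent.H18.FTI1

/-!
# Orthogonality between coherent sets (helper18)
-/

set_option autoImplicit false
set_option linter.unusedSectionVars false
set_option linter.style.haveILetI false
open Cfsg
open scoped ComplexConjugate

namespace Cfsg.Agent.H18

universe u

open Cfsg.Agent.H3

variable {G : Type u} [Group G] [Fintype G]

theorem norm1_inner {a b : G → ℂ} (ha : IsGeneralizedCharacter G a) (hb : IsGeneralizedCharacter G b)
    (ha1 : classInner a a = 1) (hb1 : classInner b b = 1) :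
    classInner a b = 0 ∨ a = b ∨ a = -b := by
  by_contra hcon
  push Not at hcon
  obtain ⟨h0, h1, h2⟩ := hcon
  rcases gen_norm_one ha ha1 with h3 | h3 <;> rcases gen_norm_one hb hb1 with h4 | h4
  · exact h0 (classInner_of_irr_ne h3 h4 h1)
  · have := classInner_of_irr_ne h3 h4 h2
    rw [classInner_neg_right] at this
    exact h0 (neg_eq_zero.1 this)
  · have := classInner_of_irr_ne h3 h4 (fun h => h2 (by rw [← h, neg_neg]))
    rw [classInner_neg_left] at this
    exact h0 (neg_eq_zero.1 this)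
  · have := classInner_of_irr_ne h3 h4 (fun h => h1 (neg_injective h))
    rw [classInner_neg_left, classInner_neg_right, neg_neg] at this
    exact h0 this

theorem norm1_one {a : G → ℂ} (ha : IsGeneralizedCharacter G a) (ha1 : classInner a a = 1) :
    ∃ n : ℤ, n ≠ 0 ∧ a 1 = n := by
  rcases gen_norm_one ha ha1 with h3 | h3
  · obtain ⟨n, hn0, hn⟩ := irr_one_eq_nat h3
    exact ⟨n, by exact_mod_cast hn0.ne', by rw [hn]; simp⟩
  · obtain ⟨n, hn0, hn⟩ := irr_one_eq_nat h3
    refine ⟨-n, by simpa using hn0.ne', ?_⟩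
    have : -a 1 = n := hn
    push_cast
    rw [← this, neg_neg]

/-- complex conjugate of a function -/
abbrev cg {X : Type u} (f : X → ℂ) : X → ℂ := fun g => conj (f g)

theorem cg_cg {X : Type u} (f : X → ℂ) : cg (cg f) = f := by
  ext x; simp [cg]

theorem inner_cg (a b : G → ℂ) : classInner (cg a) (cg b) = conj (classInner a b) :=
  classInner_conj_conj a b

namespace Coh

variable {P Q : FTI G}

theorem d_conj (P : FTI G) (ζ : P.L → ℂ) : P.d (cg ζ) = P.d ζ := by
  simp [FTI.d, dg, cg]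

/-- the difference of `star ζ` and `star (conj ζ)` -/
theorem diff (C : Coh P) {ζ : P.L → ℂ} (hζ : ζ ∈ P.S) (g : G) :
    C.star ζ g - C.star (cg ζ) g = indFun P.L (ζ - cg ζ) g := by
  have h1 := C.cross hζ (P.S_conj hζ) g
  have h2 : P.d (fun g => conj (ζ g)) = P.d ζ := d_conj P ζ
  rw [h2] at h1
  have hd : (P.d ζ : ℂ) ≠ 0 := by exact_mod_cast (P.S_dg hζ).2.ne'
  have h3 : ((P.d ζ : ℂ) • ζ - (P.d ζ : ℂ) • (fun g => conj (ζ g))) =
      (P.d ζ : ℂ) • (ζ - cg ζ) := by rw [smul_sub]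
  rw [h3, indFun_smul] at h1
  apply mul_left_cancel₀ hd
  rw [mul_sub]
  exact h1

theorem diff_off (C : Coh P) {ζ : P.L → ℂ} (hζ : ζ ∈ P.S) {g : G} (hg : g ∉ P.supp) :
    C.star ζ g - C.star (cg ζ) g = 0 := by
  rw [C.diff hζ]
  apply P.ind_off _ _ hg
  · intro x hx
    simp only [Pi.sub_apply, cg]
    rw [P.S_off hζ hx]
    simp
  · simp only [Pi.sub_apply, cg]
    rw [P.S_one hζ]
    simp

theorem star_ne (C : Coh P) (hodd : Odd (Nat.card G)) {ζ : P.L → ℂ} (hζ : ζ ∈ P.S) :
    C.star (cg ζ) ≠ C.star ζ := by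
  intro h
  have h1 := C.inner_ne (P.S_conj hζ) hζ (P.S_conj_ne hodd hζ)
  have h2 : classInner (C.star (cg ζ)) (C.star ζ) = 0 := h1
  rw [h, C.inner_self hζ] at h2
  exact one_ne_zero h2

theorem star_conj (C : Coh P) (hodd : Odd (Nat.card G)) {ζ : P.L → ℂ} (hζ : ζ ∈ P.S) :
    C.star (cg ζ) = cg (C.star ζ) := by
  set ψ := C.star ζ with hψ
  set φ := C.star (cg ζ) with hφ
  have gψ : IsGeneralizedCharacter G ψ := C.gen hζ
  have gφ : IsGeneralizedCharacter G φ := C.gen (P.S_conj hζ)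
  have nψ : classInner ψ ψ = 1 := C.inner_self hζ
  have nφ : classInner φ φ = 1 := C.inner_self (P.S_conj hζ)
  have o : classInner φ ψ = 0 := C.inner_ne (P.S_conj hζ) hζ (P.S_conj_ne hodd hζ)
  have gψ' : IsGeneralizedCharacter G (cg ψ) := isGen_conj gψ
  have gφ' : IsGeneralizedCharacter G (cg φ) := isGen_conj gφ
  have nψ' : classInner (cg ψ) (cg ψ) = 1 := by rw [inner_cg, nψ]; simp
  have nφ' : classInner (cg φ) (cg φ) = 1 := by rw [inner_cg, nφ]; simp
  have h1 : ψ + cg ψ = φ + cg φ := by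
    ext g
    have h2 := C.diff hζ g
    have h3 : conj (indFun P.L (ζ - cg ζ) g) = - indFun P.L (ζ - cg ζ) g := by
      have h4 := congrFun (indFun_conj P.L (ζ - cg ζ)) g
      have h5 : (fun k => conj ((ζ - cg ζ) k)) = -(ζ - cg ζ) := by
        ext k; simp [cg]
      rw [h5, indFun_neg] at h4
      exact h4
    rw [← h2] at h3
    simp only [Pi.add_apply, cg]
    have h6 : conj (ψ g - φ g) = -(ψ g - φ g) := h3
    rw [map_sub] at h6
    linear_combination h6
  have h2 : 1 + classInner (cg ψ) ψ = classInner (cg φ) ψ := by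
    have := congrArg (fun f => classInner f ψ) h1
    simp only [classInner_add_left] at this
    rw [nψ, o, zero_add] at this
    exact this
  have h3 : classInner (cg ψ) ψ = 0 := by
    rcases norm1_inner gψ' gψ nψ' nψ with h | h | h
    · exact h
    · exfalso
      rw [h, nψ] at h2
      rcases norm1_inner gφ' gψ nφ' nψ with h' | h' | h'
      · rw [h'] at h2; norm_num at h2
      · rw [h', nψ] at h2; norm_num at h2
      · rw [h', classInner_neg_left, nψ] at h2; norm_num at h2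
    · exfalso
      obtain ⟨n, hn0, hn⟩ := norm1_one gψ nψ
      have h4 := congrFun h 1
      simp only [cg, Pi.neg_apply, hn] at h4
      have h5 : (n : ℂ) = -n := by simpa using h4
      have h6 : n = -n := by exact_mod_cast h5
      omega
  rw [h3, add_zero] at h2
  rcases norm1_inner gφ' gψ nφ' nψ with h' | h' | h'
  · rw [h'] at h2; norm_num at h2
  · rw [← h', cg_cg]
  · rw [h', classInner_neg_left, nψ] at h2; norm_num at h2

theorem perp (C : Coh P) (D : Coh Q) (hodd : Odd (Nat.card G)) (hcop : Nat.Coprime P.h Q.h)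
    {ζ : P.L → ℂ} (hζ : ζ ∈ P.S) {ξ : Q.L → ℂ} (hξ : ξ ∈ Q.S) :
    classInner (C.star ζ) (D.star ξ) = 0 := by
  by_contra hne
  have key : ∃ δ : ℂ, conj δ = δ ∧ ∀ g, C.star ζ g = δ * D.star ξ g := by
    rcases norm1_inner (C.gen hζ) (D.gen hξ) (C.inner_self hζ) (D.inner_self hξ) with h | h | h
    · exact absurd h hne
    · exact ⟨1, by simp, fun g => by rw [h, one_mul]⟩
    · exact ⟨-1, by simp, fun g => by rw [h]; simp⟩
  obtain ⟨δ, hδ, hg⟩ := key
  apply C.star_ne hodd hζ
  ext g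
  have h1 : C.star (cg ζ) g = δ * D.star (cg ξ) g := by
    rw [C.star_conj hodd hζ, D.star_conj hodd hξ]
    simp only [cg]
    rw [hg, map_mul, hδ]
  by_cases h2 : g ∈ P.supp
  · have h3 : g ∉ Q.supp := fun h3 => P.supp_disj Q hcop h2 h3
    have h4 := D.diff_off hξ h3
    rw [h1, hg]
    linear_combination -δ * h4
  · have h4 := C.diff_off hζ h2
    linear_combination -h4

theorem perp_one (C : Coh P) (hodd : Odd (Nat.card G)) {ζ : P.L → ℂ} (hζ : ζ ∈ P.S) :
    classInner (C.star ζ) (fun _ => 1) = 0 := by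
  have h1 : classInner (fun _ : G => (1 : ℂ)) (fun _ => 1) = 1 := classInner_self_of_irr isIrr_one
  rcases norm1_inner (C.gen hζ) isGen_one (C.inner_self hζ) h1 with h | h | h
  · exact h
  · exfalso
    apply C.star_ne hodd hζ
    rw [C.star_conj hodd hζ, h]
    ext g; simp [cg]
  · exfalso
    apply C.star_ne hodd hζ
    rw [C.star_conj hodd hζ, h]
    ext g; simp [cg]

/-- the value of `star z` on the other kernels -/
theorem exists_c (C : Coh P) (D : Coh Q) (hodd : Odd (Nat.card G)) (hcop : Nat.Coprime P.h Q.h) :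
    ∃ c : ℤ, ∀ k ∈ Q.H, k ≠ 1 → C.star C.z k = c :=
  D.const_of_perp (C.gen C.hz) (fun ζ hζ => C.perp D hodd hcop C.hz hζ)

theorem star_val (C : Coh P) (hcop : Nat.Coprime P.h Q.h) {c : ℤ}
    (hc : ∀ k ∈ Q.H, k ≠ 1 → C.star C.z k = c) {ζ : P.L → ℂ} (hζ : ζ ∈ P.S) :
    ∀ k ∈ Q.H, k ≠ 1 → C.star ζ k = ((P.d ζ * c : ℤ) : ℂ) := by
  intro k hk hk1
  have h1 : k ∉ P.supp := fun h => P.supp_disj Q hcop h (Q.mem_supp_of_mem hk hk1)
  have h2 := C.cross_off hζ C.hz h1
  rw [C.d_z, hc k hk hk1] at h2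
  push_cast at h2 ⊢
  rw [one_mul] at h2
  exact h2

/-! ### the function `α` -/

theorem ind_one_apply (P : FTI G) {x : P.L} (hx : x ∈ P.K) :
    indFun P.K (fun _ => (1 : ℂ)) x = P.e := by
  have h1 := indFun_restrict_normal P.normal (fun _ : P.K => (1 : ℂ)) ⟨x, hx⟩
  have h2 : indFun P.K (fun _ => (1 : ℂ)) x = (Nat.card P.K : ℂ)⁻¹ * ∑ x : P.L, (1 : ℂ) := h1
  rw [h2, Finset.sum_const, Finset.card_univ, ← Nat.card_eq_fintype_card, P.card_L, P.card_K]
  have hh : (P.h : ℂ) ≠ 0 := by exact_mod_cast P.h_pos.ne'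
  simp only [nsmul_eq_mul, mul_one]
  push_cast
  field_simp

/-- `Ind 1 - z` -/
noncomputable def a0 (C : Coh P) : P.L → ℂ := indFun P.K (fun _ => (1 : ℂ)) - C.z

theorem a0_off (C : Coh P) {x : P.L} (hx : (x : G) ∉ P.H) : C.a0 x = 0 := by
  rw [a0, Pi.sub_apply, P.S_off C.hz hx, sub_zero]
  exact indFun_not_mem_normal P.normal _ (fun h => hx (Subgroup.mem_subgroupOf.1 h))

theorem a0_one (C : Coh P) : C.a0 1 = 0 := by
  rw [a0, Pi.sub_apply, ind_one_apply P (one_mem _), C.hz1, sub_self]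

theorem a0_gen (C : Coh P) : IsGeneralizedCharacter P.L C.a0 :=
  isGen_sub (isGen_ind P.K isGen_one) (isGen_of_irr (P.S_irr C.hz))

theorem inner_ind_one (P : FTI G) {ζ : P.L → ℂ} (hζ : ζ ∈ P.S) :
    classInner (indFun P.K (fun _ => (1 : ℂ))) ζ = 0 := by
  obtain ⟨θ, h1, h2, rfl⟩ := P.mem_S.1 hζ
  have h3 : classInner (indFun P.K θ) (indFun P.K (fun _ => (1 : ℂ))) = 0 := by
    rw [frobenius_reciprocity P.K θ (indFun_classFun _ _)]
    have h4 : (fun h : P.K => indFun P.K (fun _ => (1 : ℂ)) (h : P.L)) =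
        (P.e : ℂ) • (fun _ : P.K => (1 : ℂ)) := by
      ext k
      rw [ind_one_apply P k.2]
      simp
    rw [h4, classInner_smul_right, classInner_of_irr_ne h1 isIrr_one h2, mul_zero]
  rw [← classInner_conj_symm, h3, map_zero]

theorem inner_ind_one_self (P : FTI G) :
    classInner (indFun P.K (fun _ => (1 : ℂ))) (indFun P.K (fun _ => (1 : ℂ))) = P.e := by
  rw [frobenius_reciprocity P.K _ (indFun_classFun _ _)]
  have h4 : (fun h : P.K => indFun P.K (fun _ => (1 : ℂ)) (h : P.L)) =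
      (P.e : ℂ) • (fun _ : P.K => (1 : ℂ)) := by
    ext k
    rw [ind_one_apply P k.2]
    simp
  rw [h4, classInner_smul_right, classInner_self_of_irr isIrr_one]
  simp

theorem inner_ind_one_one (P : FTI G) :
    classInner (indFun P.K (fun _ => (1 : ℂ))) (fun _ => 1) = 1 := by
  rw [frobenius_reciprocity P.K _ (fun _ _ => rfl)]
  exact classInner_self_of_irr isIrr_one

theorem one_notMem_S (P : FTI G) {ζ : P.L → ℂ} (hζ : ζ ∈ P.S) : ζ ≠ fun _ => 1 := by
  rintro rfl
  have h3 := P.S_one hζ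
  have h3' : (1 : ℂ) = ((P.e * P.d (fun _ => 1) : ℕ) : ℂ) := h3
  have h4 : P.e * P.d (fun _ => 1) = 1 := by exact_mod_cast h3'.symm
  exact P.e_ne_one (Nat.eq_one_of_mul_eq_one_right h4)

theorem inner_a0_one (C : Coh P) : classInner C.a0 (fun _ => 1) = 1 := by
  rw [a0, classInner_sub_left, inner_ind_one_one,
    classInner_of_irr_ne (P.S_irr C.hz) isIrr_one (one_notMem_S P C.hz), sub_zero]

open Classical in
theorem inner_a0_S (C : Coh P) {ζ : P.L → ℂ} (hζ : ζ ∈ P.S) :
    classInner C.a0 ζ = if C.z = ζ then -1 else 0 := by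
  rw [a0, classInner_sub_left, inner_ind_one P hζ, classInner_irr (P.S_irr C.hz) (P.S_irr hζ)]
  split_ifs <;> simp

theorem inner_a0_a0 (C : Coh P) : classInner C.a0 C.a0 = P.e + 1 := by
  have h1 : classInner C.a0 (indFun P.K (fun _ => (1 : ℂ))) = P.e := by
    rw [a0, classInner_sub_left, inner_ind_one_self, ← classInner_conj_symm _ C.z,
      inner_ind_one P C.hz]
    simp
  have h2 : classInner C.a0 C.z = -1 := by
    rw [C.inner_a0_S C.hz, if_pos rfl]
  have h3 : classInner C.a0 C.a0 =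
      classInner C.a0 (indFun P.K (fun _ => (1 : ℂ))) - classInner C.a0 C.z := by
    conv_lhs => rw [show classInner C.a0 C.a0 =
      classInner C.a0 (indFun P.K (fun _ => (1 : ℂ)) - C.z) from rfl]
    rw [classInner_sub_right]
  rw [h3, h1, h2]
  ring

theorem inner_a0_congr (C : Coh P) {f g : P.L → ℂ}
    (h : ∀ k : P.L, (k : G) ∈ P.H → k ≠ 1 → f k = g k) : classInner C.a0 f = classInner C.a0 g := by
  simp only [classInner]
  congr 1
  refine Finset.sum_congr rfl fun k _ => ?_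
  by_cases h1 : (k : G) ∈ P.H
  · by_cases h2 : k = 1
    · rw [h2, C.a0_one]; simp
    · rw [h k h1 h2]
  · rw [C.a0_off h1]; simp

/-- the function `α` -/
noncomputable def al (C : Coh P) : G → ℂ := indFun P.L C.a0

theorem al_gen (C : Coh P) : IsGeneralizedCharacter G C.al := isGen_ind P.L C.a0_gen

theorem al_off (C : Coh P) {g : G} (hg : g ∉ P.supp) : C.al g = 0 :=
  P.ind_off (fun _ hx => C.a0_off hx) C.a0_one hg

theorem inner_al_al (C : Coh P) : classInner C.al C.al = P.e + 1 := by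
  rw [al, classInner_indFun_of_TI P.L (P.H : Set G) P.ti C.a0 C.a0 (isGen_classFun C.a0_gen)
    (fun x hx => C.a0_off hx) (fun x hx => C.a0_off hx) C.a0_one, C.inner_a0_a0]

theorem inner_al (C : Coh P) {φ : G → ℂ} (hφ : IsClassFunction G φ) :
    classInner C.al φ = classInner C.a0 (fun x : P.L => φ x) :=
  frobenius_reciprocity P.L C.a0 hφ

theorem inner_al_one (C : Coh P) : classInner C.al (fun _ => 1) = 1 := by
  rw [C.inner_al (fun _ _ => rfl)]
  exact C.inner_a0_one

theorem inner_al_const (C : Coh P) {φ : G → ℂ} (hφ : IsClassFunction G φ) {c : ℤ}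
    (hc : ∀ k ∈ P.H, k ≠ 1 → φ k = c) : classInner C.al φ = c := by
  rw [C.inner_al hφ, C.inner_a0_congr (g := (c : ℂ) • (fun _ => (1 : ℂ)))
    (fun k hk hk1 => by
      rw [hc k hk (fun h => hk1 (Subtype.ext h))]
      simp), classInner_smul_right, C.inner_a0_one]
  simp

theorem inner_al_star (C : Coh P) {ζ : P.L → ℂ} (hζ : ζ ∈ P.S) {b : ℤ}
    (hb : ∀ k : P.L, (k : G) ∈ P.H → k ≠ 1 → C.star ζ k = ζ k + b) [Decidable (C.z = ζ)] :
    classInner C.al (C.star ζ) = ((b - if C.z = ζ then 1 else 0 : ℤ) : ℂ) := by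
  rw [C.inner_al (C.cls hζ), C.inner_a0_congr (g := ζ + (b : ℂ) • (fun _ => (1 : ℂ)))
    (fun k hk hk1 => by
      rw [hb k hk hk1]
      simp), classInner_add_right, classInner_smul_right, C.inner_a0_one, C.inner_a0_S hζ]
  by_cases h : C.z = ζ
  · rw [if_pos h, if_pos h]; simp; ring
  · rw [if_neg h, if_neg h]; simp

end Coh

end Cfsg.Agent.H18
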