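import Cfsg.Agent.H18.FTI2

/-!
# Counting with coherent families (helper18)
-/

set_option autoImplicit false
set_option linter.unusedSectionVars false
set_option linter.style.haveILetI false
open Cfsg
open scoped ComplexConjugate

namespace Cfsg.Agent.H18

universe u

open Cfsg.Agent.H3

variable {G : Type u} [Group G] [Fintype G]

/-- Bessel's inequality with integral coefficients -/
theorem bessel {J : Type*} [Fintype J] [DecidableEq J] (u : J → G → ℂ)
    (hu : ∀ i j, classInner (u i) (u j) = if i = j then 1 else 0) (α : G → ℂ) (c : J → ℤ)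
    (hc : ∀ j, classInner α (u j) = c j) (n : ℤ) (hn : classInner α α = n) :
    ∑ j, c j ^ 2 ≤ n := by
  set Sg : G → ℂ := ∑ j, (c j : ℂ) • u j with hS
  have h1 : classInner α Sg = ∑ j, (c j : ℂ) ^ 2 := by
    rw [hS, classInner_sum_right]
    refine Finset.sum_congr rfl fun j _ => ?_
    rw [classInner_smul_right, hc]
    simp
    ring
  have h2 : classInner Sg α = ∑ j, (c j : ℂ) ^ 2 := by
    rw [← classInner_conj_symm, h1]
    simp
  have h3 : classInner Sg Sg = ∑ j, (c j : ℂ) ^ 2 := by
    conv_lhs => rw [hS]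
    rw [classInner_sum_left]
    refine Finset.sum_congr rfl fun j _ => ?_
    rw [classInner_smul_left, classInner_sum_right]
    have : ∀ i, classInner (u j) ((c i : ℂ) • u i) = if j = i then (c i : ℂ) else 0 := by
      intro i
      rw [classInner_smul_right, hu]
      split_ifs <;> simp
    rw [Finset.sum_congr rfl fun i _ => this i]
    simp
    ring
  have h4 : classInner (α - Sg) (α - Sg) = ((n - ∑ j, c j ^ 2 : ℤ) : ℂ) := by
    rw [classInner_sub_left, classInner_sub_right, classInner_sub_right, hn, h1, h2, h3]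
    push_cast
    ring
  have h5 := classInner_self_re_nonneg (α - Sg)
  rw [h4, Complex.intCast_re] at h5
  have h6 : 0 ≤ n - ∑ j, c j ^ 2 := by exact_mod_cast h5
  omega

/-- the inner product of real generalized characters orthogonal to `1` is even -/
theorem even_inner (hodd : Odd (Nat.card G)) {a b : G → ℂ} (ha : IsGeneralizedCharacter G a)
    (hb : IsGeneralizedCharacter G b) (ha' : cg a = a) (hb' : cg b = b)
    (ha1 : classInner a (fun _ => 1) = 0) :
    ∃ m : ℤ, classInner a b = ((2 * m : ℤ) : ℂ) := by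
  classical
  haveI := Fintype.ofFinite (IrrCharacter G)
  choose m hm using fun ψ : IrrCharacter G => classInner_gen_int ha (isGen_of_irr ψ.2)
  choose n hn using fun ψ : IrrCharacter G => classInner_gen_int hb (isGen_of_irr ψ.2)
  have h1 : classInner a b = ((∑ ψ : IrrCharacter G, m ψ * n ψ : ℤ) : ℂ) := by
    rw [classInner_eq_sum (isGen_classFun ha)]
    push_cast
    refine Finset.sum_congr rfl fun ψ _ => ?_
    rw [hm, hn]
    simp
  have hmc : ∀ ψ : IrrCharacter G, m (irrConj ψ) = m ψ := by
    intro ψ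
    have e1 : classInner (cg a) (cg (ψ : G → ℂ)) = conj (classInner a (ψ : G → ℂ)) := inner_cg _ _
    rw [ha', hm ψ] at e1
    have e2 := hm (irrConj ψ)
    have e3 : classInner a (irrConj ψ : G → ℂ) = conj (m ψ : ℂ) := e1
    rw [e3] at e2
    simpa using e2.symm
  have hnc : ∀ ψ : IrrCharacter G, n (irrConj ψ) = n ψ := by
    intro ψ
    have e1 : classInner (cg b) (cg (ψ : G → ℂ)) = conj (classInner b (ψ : G → ℂ)) := inner_cg _ _
    rw [hb', hn ψ] at e1
    have e2 := hn (irrConj ψ)
    have e3 : classInner b (irrConj ψ : G → ℂ) = conj (n ψ : ℂ) := e1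
    rw [e3] at e2
    simpa using e2.symm
  have h2 : ∑ ψ : IrrCharacter G, ((m ψ * n ψ : ℤ) : ZMod 2) = 0 := by
    refine Finset.sum_involution (fun ψ _ => irrConj ψ) ?_ ?_ ?_ ?_
    · intro ψ _
      rw [hmc, hnc]
      have : ((m ψ * n ψ : ℤ) : ZMod 2) + ((m ψ * n ψ : ℤ) : ZMod 2) =
        (2 : ZMod 2) * ((m ψ * n ψ : ℤ) : ZMod 2) := by ring
      rw [this, show (2 : ZMod 2) = 0 from rfl, zero_mul]
    · intro ψ _ h3 h4
      apply h3
      have h5 := irr_real_of_odd hodd ψ h4
      have h6 := hm ψ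
      rw [h5, ha1] at h6
      have h7 : m ψ = 0 := by exact_mod_cast h6.symm
      rw [h7]; simp
    · intro ψ _; exact Finset.mem_univ _
    · intro ψ _; exact irrConj_irrConj ψ
  have h3 : ((∑ ψ : IrrCharacter G, m ψ * n ψ : ℤ) : ZMod 2) = 0 := by
    rw [← h2]; push_cast; rfl
  rw [ZMod.intCast_zmod_eq_zero_iff_dvd] at h3
  obtain ⟨k, hk⟩ := h3
  exact ⟨k, by rw [h1, hk]; push_cast; rfl⟩

namespace Coh

variable {P Q : FTI G}

/-- `α - 1 + star z` -/
noncomputable def gam (C : Coh P) : G → ℂ := C.al - (fun _ => 1) + C.star C.z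

theorem gam_gen (C : Coh P) : IsGeneralizedCharacter G C.gam :=
  isGen_add (isGen_sub C.al_gen isGen_one) (C.gen C.hz)

theorem gam_real (C : Coh P) (hodd : Odd (Nat.card G)) : cg C.gam = C.gam := by
  ext g
  have h1 := C.diff C.hz g
  rw [C.star_conj hodd C.hz] at h1
  have h2 : cg C.al g = C.al g + indFun P.L (C.z - cg C.z) g := by
    have h3 : cg C.al g = indFun P.L (cg C.a0) g := congrFun (indFun_conj P.L C.a0) g
    have h4 : cg C.a0 = C.a0 + (C.z - cg C.z) := by
      have h5 : cg (indFun P.K (fun _ => (1 : ℂ))) = indFun P.K (fun _ => (1 : ℂ)) := by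
        have := indFun_conj P.K (fun _ => (1 : ℂ))
        simpa using this
      ext x
      have h6 := congrFun h5 x
      simp only [cg] at h6
      simp only [cg, a0, Pi.sub_apply, Pi.add_apply, map_sub]
      rw [h6]
      ring
    rw [h3, h4, indFun_add]
    rfl
  show conj (C.al g - 1 + C.star C.z g) = C.al g - 1 + C.star C.z g
  have h2' : conj (C.al g) = C.al g + indFun P.L (C.z - cg C.z) g := h2
  rw [map_add, map_sub, h2', map_one]
  have h1' : C.star C.z g - conj (C.star C.z g) = indFun P.L (C.z - cg C.z) g := h1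
  linear_combination -h1'

theorem inner_one_one : classInner (fun _ : G => (1 : ℂ)) (fun _ => 1) = 1 :=
  classInner_self_of_irr isIrr_one

theorem gam_one (C : Coh P) (hodd : Odd (Nat.card G)) : classInner C.gam (fun _ => 1) = 0 := by
  rw [gam, classInner_add_left, classInner_sub_left, C.inner_al_one, inner_one_one,
    C.perp_one hodd C.hz]
  ring

theorem symm_zero {a b : G → ℂ} (h : classInner a b = 0) : classInner b a = 0 := by
  rw [← classInner_conj_symm, h, map_zero]

theorem parity (C : Coh P) (D : Coh Q) (hodd : Odd (Nat.card G)) (hcop : Nat.Coprime P.h Q.h)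
    {c c' : ℤ} (hc : ∀ k ∈ Q.H, k ≠ 1 → C.star C.z k = c)
    (hc' : ∀ k ∈ P.H, k ≠ 1 → D.star D.z k = c') : Odd (c + c') := by
  obtain ⟨m, hm⟩ := even_inner hodd C.gam_gen D.gam_gen (C.gam_real hodd) (D.gam_real hodd)
    (C.gam_one hodd)
  have h0 : classInner C.al D.al = 0 :=
    P.inner_zero Q hcop (fun g hg => C.al_off hg) (fun g hg => D.al_off hg)
  have h1 : classInner C.al (D.star D.z) = c' := C.inner_al_const (D.cls D.hz) hc'
  have h2 : classInner (C.star C.z) D.al = c := by
    rw [← classInner_conj_symm, D.inner_al_const (C.cls C.hz) hc]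
    simp
  have h3 : classInner C.al (fun _ => 1) = 1 := C.inner_al_one
  have h4 : classInner (fun _ => 1) D.al = 1 := by
    rw [← classInner_conj_symm, D.inner_al_one]; simp
  have h5 : classInner (C.star C.z) (D.star D.z) = 0 := C.perp D hodd hcop C.hz D.hz
  have h6 : classInner (C.star C.z) (fun _ => 1) = 0 := C.perp_one hodd C.hz
  have h7 : classInner (fun _ => 1) (D.star D.z) = 0 := symm_zero (D.perp_one hodd D.hz)
  have h8 : classInner C.gam D.gam = (c' + c - 1 : ℤ) := by
    rw [gam, gam, classInner_add_left, classInner_sub_left, classInner_add_right,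
      classInner_sub_right, classInner_add_right, classInner_sub_right, classInner_add_right,
      classInner_sub_right, h0, h1, h2, h3, h4, h5, h6, h7, inner_one_one]
    push_cast
    ring
  rw [hm] at h8
  have h9 : 2 * m = c' + c - 1 := by exact_mod_cast h8
  exact ⟨m, by omega⟩

/-- the constant on `H#` of `star z - z` -/
theorem exists_b' (C : Coh P) : ∃ b : ℤ, ∀ ζ ∈ P.S, ∀ k : P.L, (k : G) ∈ P.H → k ≠ 1 →
    C.star ζ k = ζ k + ((P.d ζ * b : ℤ) : ℂ) := by
  obtain ⟨b, hb⟩ := C.exists_b C.hz
  refine ⟨b, fun ζ hζ k hk hk1 => ?_⟩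
  have h1 := C.cross_on hζ C.hz hk hk1
  rw [C.d_z, hb k hk hk1] at h1
  push_cast at h1 ⊢
  linear_combination h1

/-- sums over the kernel -/
theorem sum_z (C : Coh P) {ζ : P.L → ℂ} (hζ : ζ ∈ P.S) :
    ∑ k : P.K, ζ k = 0 ∧ ∑ k : P.K, ζ k * conj (ζ k) = P.e * P.h := by
  classical
  have hL : (Nat.card P.L : ℂ) ≠ 0 := card_ne_zeroC
  have e1 : ∀ f : P.L → ℂ, (∀ x : P.L, (x : G) ∉ P.H → f x = 0) → ∑ k : P.K, f k = ∑ x : P.L, f x := by
    intro f hf
    have h1 := sum_extendByZero_mul P.K (fun k : P.K => f k) (fun _ => 1)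
    simp only [mul_one] at h1
    rw [← h1]
    refine Finset.sum_congr rfl fun x _ => ?_
    by_cases hx : x ∈ P.K
    · rw [extendByZero_mem _ _ hx]
    · rw [extendByZero_not_mem _ _ hx, hf x (fun h => hx (Subgroup.mem_subgroupOf.2 h))]
  constructor
  · rw [e1 ζ (fun x hx => P.S_off hζ hx)]
    have h1 := classInner_of_irr_ne (P.S_irr hζ) isIrr_one (one_notMem_S P hζ)
    rw [classInner] at h1
    have h2 := (mul_eq_zero.1 h1).resolve_left (inv_ne_zero hL)
    simpa using h2
  · rw [e1 (fun x => ζ x * conj (ζ x)) (fun x hx => by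
      show ζ x * conj (ζ x) = 0
      rw [P.S_off hζ hx, zero_mul])]
    have h1 := classInner_self_of_irr (P.S_irr hζ)
    rw [classInner, inv_mul_eq_one₀ hL] at h1
    rw [← h1, P.card_L]
    push_cast
    rfl

end Coh

end Cfsg.Agent.H18
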