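import Cfsg.Agent.H18.FTI3

/-!
# Summing class functions over a covered group (helper18)
-/

set_option autoImplicit false
set_option linter.unusedSectionVars false
set_option linter.style.haveILetI false
open Cfsg
open scoped ComplexConjugate

namespace Cfsg.Agent.H18

universe u v

open Cfsg.Agent.H3

variable {G : Type u} [Group G] [Fintype G]

theorem sum_ne_one {K : Type u} [Group K] [Fintype K] [DecidableEq K] (f : K → ℂ) :
    ∑ k : {k : K // k ≠ 1}, f k = ∑ k : K, f k - f 1 := by
  rw [← Finset.add_sum_erase _ _ (Finset.mem_univ (1 : K)), add_sub_cancel_left]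
  symm
  apply Finset.sum_subtype
  intro x
  simp

theorem cover_sum {ι : Type v} [Fintype ι] (P : ι → FTI G)
    (hcop : ∀ i j, i ≠ j → Nat.Coprime (P i).h (P j).h)
    (hcover : ∀ g : G, g ≠ 1 → ∃ i, g ∈ (P i).supp) (f : G → ℂ) (hf : IsClassFunction G f) :
    ∑ g, f g = f 1 + ∑ i, ((P i).L.index : ℂ) * (∑ k : (P i).K, f k - f 1) := by
  classical
  let X : Type _ := Σ i : ι, (G ⧸ (P i).L) × {k : (P i).K // k ≠ 1}
  let φ : X → {g : G // g ≠ 1} := fun x => ⟨x.2.1.out * ((x.2.2.1 : (P x.1).L) : G) * x.2.1.out⁻¹, by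
    intro h
    apply x.2.2.2
    have : ((x.2.2.1 : (P x.1).L) : G) = 1 := by
      have := congrArg (fun t => (x.2.1.out)⁻¹ * t * x.2.1.out) h
      simpa [mul_assoc] using this
    exact Subtype.ext (Subtype.ext this)⟩
  have hinj : Function.Injective φ := by
    rintro ⟨i, q, ⟨h, hh⟩⟩ ⟨j, r, ⟨k, hk⟩⟩ hfe
    have he : q.out * ((h : (P i).L) : G) * q.out⁻¹ = r.out * ((k : (P j).L) : G) * r.out⁻¹ :=
      congrArg Subtype.val hfe
    have hh1 : ((h : (P i).L) : G) ≠ 1 := fun h' => hh (Subtype.ext (Subtype.ext h'))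
    have hk1 : ((k : (P j).L) : G) ≠ 1 := fun h' => hk (Subtype.ext (Subtype.ext h'))
    have hhH : ((h : (P i).L) : G) ∈ (P i).H := Subgroup.mem_subgroupOf.1 h.2
    have hkH : ((k : (P j).L) : G) ∈ (P j).H := Subgroup.mem_subgroupOf.1 k.2
    have hij : i = j := by
      by_contra hij
      refine (P i).supp_disj (P j) (hcop i j hij)
        (g := q.out * ((h : (P i).L) : G) * q.out⁻¹) ⟨?_, q.out, ?_⟩ ⟨?_, r.out, ?_⟩
      · intro h'
        apply hh1
        have := congrArg (fun t => (q.out)⁻¹ * t * q.out) h'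
        simpa [mul_assoc] using this
      · simpa [mul_assoc] using hhH
      · intro h'
        apply hh1
        have := congrArg (fun t => (q.out)⁻¹ * t * q.out) h'
        simpa [mul_assoc] using this
      · rw [he]
        simpa [mul_assoc] using hkH
    subst hij
    have hmem : (r.out⁻¹ * q.out) ∈ (P i).L := by
      by_contra hnot
      have h4 : (r.out⁻¹ * q.out) * ((h : (P i).L) : G) * (r.out⁻¹ * q.out)⁻¹ =
          ((k : (P i).L) : G) := by
        have := congrArg (fun t => (r.out)⁻¹ * t * r.out) he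
        simpa [mul_assoc] using this
      exact hh1 ((P i).ti _ hnot _ hhH (by rw [h4]; exact hkH))
    have hqr : q = r := by
      have : (r.out : G ⧸ (P i).L) = (q.out : G ⧸ (P i).L) := by
        rw [QuotientGroup.eq]; exact hmem
      rw [QuotientGroup.out_eq', QuotientGroup.out_eq'] at this
      exact this.symm
    subst hqr
    have : ((h : (P i).L) : G) = ((k : (P i).L) : G) := by
      have := congrArg (fun t => (q.out)⁻¹ * t * q.out) he
      simpa [mul_assoc] using this
    have h5 : h = k := Subtype.ext (Subtype.ext this)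
    subst h5
    rfl
  have hsurj : Function.Surjective φ := by
    rintro ⟨g, hg⟩
    obtain ⟨i, -, x, hx⟩ := hcover g hg
    let q : G ⧸ (P i).L := (x : G)
    have hq : q.out⁻¹ * x ∈ (P i).L := by
      rw [← QuotientGroup.eq]
      exact QuotientGroup.out_eq' q
    have hh : q.out⁻¹ * g * q.out ∈ (P i).H := by
      have h1 := (P i).normal.conj_mem ⟨x⁻¹ * g * x, (P i).le hx⟩ (Subgroup.mem_subgroupOf.2 hx)
        ⟨q.out⁻¹ * x, hq⟩
      have h2 := Subgroup.mem_subgroupOf.1 h1
      simpa [mul_assoc] using h2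
    refine ⟨⟨i, q, ⟨⟨⟨_, (P i).le hh⟩, Subgroup.mem_subgroupOf.2 hh⟩, ?_⟩⟩, ?_⟩
    · intro h
      have h1 : q.out⁻¹ * g * q.out = 1 :=
        congrArg Subtype.val (congrArg Subtype.val h)
      apply hg
      have := congrArg (fun t => (q.out) * t * q.out⁻¹) h1
      simpa [mul_assoc] using this
    · apply Subtype.ext
      show q.out * (q.out⁻¹ * g * q.out) * q.out⁻¹ = g
      group
  haveI : ∀ i : ι, Fintype (G ⧸ (P i).L) := fun i => Fintype.ofFinite _
  have e1 : ∑ x : X, f (φ x : G) = ∑ g : {g : G // g ≠ 1}, f g :=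
    (Equiv.ofBijective φ ⟨hinj, hsurj⟩).sum_comp (fun g : {g : G // g ≠ 1} => f (g : G))
  have e2 : ∑ x : X, f (φ x : G) =
      ∑ i, ((P i).L.index : ℂ) * (∑ k : (P i).K, f k - f 1) := by
    rw [Fintype.sum_sigma]
    refine Finset.sum_congr rfl fun i _ => ?_
    rw [Fintype.sum_prod_type]
    have h1 : ∀ (q : G ⧸ (P i).L) (k : {k : (P i).K // k ≠ 1}),
        f (φ ⟨i, (q, k)⟩ : G) = f ((k.1 : (P i).L) : G) := fun q k => hf _ _
    simp only [h1]
    rw [Finset.sum_const, Finset.card_univ, nsmul_eq_mul, ← Nat.card_eq_fintype_card,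
      sum_ne_one (K := (P i).K) (fun k : (P i).K => f ((k : (P i).L) : G))]
    rfl
  rw [← e2, e1, sum_ne_one]
  ring

end Cfsg.Agent.H18
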