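import Cfsg.Agent.H18.FTI4

/-!
# The counting argument for a covering family (helper18)
-/

set_option autoImplicit false
set_option linter.unusedSectionVars false
set_option linter.style.haveILetI false
open Cfsg
open scoped ComplexConjugate

namespace Cfsg.Agent.H18

universe u v

open Cfsg.Agent.H3

variable {G : Type u} [Group G] [Fintype G]

theorem FTI.card_G (P : FTI G) : Nat.card G = P.L.index * (P.e * P.h) := by
  rw [← P.card_L, Subgroup.index_mul_card]

theorem FTI.h_sub (P : FTI G) : (P.h : ℝ) - 1 = P.e * P.s := by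
  have : (P.h : ℝ) = P.e * P.s + 1 := by exact_mod_cast P.h_eq
  linarith

/-- the total count -/
theorem total {ι : Type v} [Fintype ι] (P : ι → FTI G)
    (hcop : ∀ i j, i ≠ j → Nat.Coprime (P i).h (P j).h)
    (hcover : ∀ g : G, g ≠ 1 → ∃ i, g ∈ (P i).supp) :
    (1 : ℝ) = 1 / (Nat.card G : ℝ) + ∑ i, ((P i).s : ℝ) / (P i).h := by
  have h1 := cover_sum P hcop hcover (fun _ => 1) (fun _ _ => rfl)
  have h2 : ∀ i, ((P i).L.index : ℂ) * (∑ k : (P i).K, (1 : ℂ) - 1) =
      (((P i).L.index * ((P i).e * (P i).s) : ℕ) : ℂ) := by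
    intro i
    have h3 : ((P i).h : ℂ) = (P i).e * (P i).s + 1 := by exact_mod_cast (P i).h_eq
    rw [Finset.sum_const, Finset.card_univ, nsmul_eq_mul, ← Nat.card_eq_fintype_card,
      (P i).card_K, mul_one, h3]
    push_cast
    ring
  simp only [h2] at h1
  rw [Finset.sum_const, Finset.card_univ, nsmul_eq_mul, ← Nat.card_eq_fintype_card, mul_one] at h1
  have h3 : (Nat.card G : ℕ) = 1 + ∑ i, (P i).L.index * ((P i).e * (P i).s) := by
    exact_mod_cast h1
  have hG : (Nat.card G : ℝ) ≠ 0 := by exact_mod_cast Nat.card_pos.ne'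
  have h4 : (Nat.card G : ℝ) = 1 + ∑ i, ((P i).L.index : ℝ) * ((P i).e * (P i).s) := by
    exact_mod_cast h3
  have h5 : ∀ i, ((P i).L.index : ℝ) * ((P i).e * (P i).s) =
      (Nat.card G : ℝ) * (((P i).s : ℝ) / (P i).h) := by
    intro i
    have h6 : (Nat.card G : ℝ) = (P i).L.index * ((P i).e * (P i).h) := by
      exact_mod_cast (P i).card_G
    have h7 : ((P i).h : ℝ) ≠ 0 := by exact_mod_cast (P i).h_pos.ne'
    rw [h6]
    field_simp
  simp only [h5] at h4
  rw [← Finset.mul_sum] at h4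
  field_simp
  linarith

open Classical in
/-- the norm of `star z` -/
theorem norm_ineq {ι : Type v} [Fintype ι] (P : ι → FTI G) (C : ∀ i, Coh (P i))
    (hodd : Odd (Nat.card G)) (hcop : ∀ i j, i ≠ j → Nat.Coprime (P i).h (P j).h)
    (hcover : ∀ g : G, g ≠ 1 → ∃ i, g ∈ (P i).supp) (c : ι → ι → ℤ)
    (hc : ∀ i j, i ≠ j → ∀ k ∈ (P j).H, k ≠ 1 → (C i).star (C i).z k = c i j) (i : ι) :
    1 / (Nat.card G : ℝ) + ∑ l ∈ Finset.univ.erase i, ((P l).s : ℝ) / (P l).h * (c i l) ^ 2 ≤
      ((P i).e : ℝ) / (P i).h := by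
  set ψ := (C i).star (C i).z with hψ
  have gψ : IsGeneralizedCharacter G ψ := (C i).gen (C i).hz
  have nψ : classInner ψ ψ = 1 := (C i).inner_self (C i).hz
  obtain ⟨x, hx0, hx⟩ := norm1_one gψ nψ
  obtain ⟨b, hb⟩ := (C i).exists_b'
  have hb' : ∀ k : (P i).L, (k : G) ∈ (P i).H → k ≠ 1 → ψ k = (C i).z k + b := by
    intro k hk hk1
    have := hb _ (C i).hz k hk hk1
    rw [(C i).d_z] at this
    rw [hψ, this]
    push_cast
    ring
  have h1 := cover_sum P hcop hcover (fun g => ψ g * conj (ψ g)) (fun g h => by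
    simp only [isGen_classFun gψ g h])
  have hG : (Nat.card G : ℂ) ≠ 0 := card_ne_zeroC
  have h2 : ∑ g, ψ g * conj (ψ g) = (Nat.card G : ℂ) := by
    rw [classInner, inv_mul_eq_one₀ hG] at nψ
    exact nψ.symm
  have e1 : ψ 1 * conj (ψ 1) = (x : ℂ) ^ 2 := by rw [hx]; simp; ring
  rw [h2, e1] at h1
  have hcard : ∀ l, ∑ k : (P l).K, (1 : ℂ) = (P l).e * (P l).s + 1 := by
    intro l
    have h3 : ((P l).h : ℂ) = (P l).e * (P l).s + 1 := by exact_mod_cast (P l).h_eq
    rw [Finset.sum_const, Finset.card_univ, nsmul_eq_mul, ← Nat.card_eq_fintype_card,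
      (P l).card_K, mul_one, h3]
  -- the sums off `i`
  have h3 : ∀ l, l ≠ i → ∑ k : (P l).K, ψ k * conj (ψ k) - (x : ℂ) ^ 2 =
      (P l).e * (P l).s * (c i l : ℂ) ^ 2 := by
    intro l hl
    have h4 : ∀ k : (P l).K, ψ k * conj (ψ k) =
        (c i l : ℂ) ^ 2 * 1 + if k = 1 then (x : ℂ) ^ 2 - (c i l : ℂ) ^ 2 else 0 := by
      intro k
      by_cases hk : k = 1
      · rw [if_pos hk, hk]
        simp only [Subgroup.coe_one]
        rw [e1]; ring
      · have hv : ψ k = c i l := hc i l (Ne.symm hl) _ (Subgroup.mem_subgroupOf.1 k.2)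
          (fun h => hk (Subtype.ext (Subtype.ext h)))
        rw [if_neg hk, hv]
        simp
        ring
    rw [Finset.sum_congr rfl fun k _ => h4 k, Finset.sum_add_distrib, ← Finset.mul_sum, hcard,
      Finset.sum_ite_eq' Finset.univ (1 : (P l).K)]
    simp only [Finset.mem_univ, if_true]
    ring
  -- the sum at `i`
  have h5 : ∑ k : (P i).K, ψ k * conj (ψ k) - (x : ℂ) ^ 2 =
      (P i).e * ((P i).h - (P i).e - 2 * b + (b : ℂ) ^ 2 * (P i).s) := by
    obtain ⟨hs1, hs2⟩ := (C i).sum_z (C i).hz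
    have hs3 : ∑ k : (P i).K, conj ((C i).z k) = 0 := by
      rw [← map_sum, hs1, map_zero]
    have hz1 := (C i).hz1
    have h4 : ∀ k : (P i).K, ψ k * conj (ψ k) =
        ((C i).z k * conj ((C i).z k) + b * (C i).z k + b * conj ((C i).z k) + (b : ℂ) ^ 2 * 1) +
          if k = 1 then (x : ℂ) ^ 2 - ((P i).e + b) ^ 2 else 0 := by
      intro k
      by_cases hk : k = 1
      · rw [if_pos hk, hk]
        simp only [Subgroup.coe_one]
        rw [e1, hz1]
        simp only [Complex.conj_natCast]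
        ring
      · rw [if_neg hk, hb' _ (Subgroup.mem_subgroupOf.1 k.2) (fun h => hk (Subtype.ext h))]
        simp
        ring
    rw [Finset.sum_congr rfl fun k _ => h4 k, Finset.sum_add_distrib, Finset.sum_add_distrib,
      Finset.sum_add_distrib, Finset.sum_add_distrib, ← Finset.mul_sum, ← Finset.mul_sum,
      ← Finset.mul_sum, hcard, hs1, hs2, hs3, Finset.sum_ite_eq' Finset.univ (1 : (P i).K)]
    simp only [Finset.mem_univ, if_true]
    ring
  rw [← Finset.add_sum_erase _ _ (Finset.mem_univ i), h5,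
    Finset.sum_congr rfl fun l hl => by rw [h3 l (Finset.ne_of_mem_erase hl)]] at h1
  have h6 : (Nat.card G : ℝ) = (x : ℝ) ^ 2 + ((P i).L.index *
      ((P i).e * ((P i).h - (P i).e - 2 * b + (b : ℝ) ^ 2 * (P i).s)) +
      ∑ l ∈ Finset.univ.erase i, (P l).L.index * ((P l).e * (P l).s * (c i l : ℝ) ^ 2)) := by
    have := congrArg Complex.re h1
    apply Complex.ofReal_injective
    push_cast
    exact h1
  have hGR : (0 : ℝ) < Nat.card G := by exact_mod_cast Nat.card_pos
  have h7 : ∀ l, (P l).L.index * ((P l).e * (P l).s * (c i l : ℝ) ^ 2) =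
      (Nat.card G : ℝ) * (((P l).s : ℝ) / (P l).h * (c i l) ^ 2) := by
    intro l
    have h8 : (Nat.card G : ℝ) = (P l).L.index * ((P l).e * (P l).h) := by
      exact_mod_cast (P l).card_G
    have h9 : ((P l).h : ℝ) ≠ 0 := by exact_mod_cast (P l).h_pos.ne'
    rw [h8]
    field_simp
  rw [Finset.sum_congr rfl fun l _ => h7 l, ← Finset.mul_sum] at h6
  have h8 : (Nat.card G : ℝ) = (P i).L.index * ((P i).e * (P i).h) := by
    exact_mod_cast (P i).card_G
  have h9 : (0 : ℝ) < (P i).h := by exact_mod_cast (P i).h_pos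
  have h10 : (1 : ℝ) ≤ (x : ℝ) ^ 2 := by
    have : 1 ≤ x ^ 2 := by
      have := sq_nonneg x
      have h : x ^ 2 ≠ 0 := pow_ne_zero 2 hx0
      omega
    exact_mod_cast this
  have h11 : (0 : ℝ) ≤ - 2 * b + (b : ℝ) ^ 2 * (P i).s := by
    have hs : (2 : ℤ) ≤ (P i).s := by exact_mod_cast (P i).s_ge hodd
    have : 0 ≤ - 2 * b + b ^ 2 * (P i).s := by
      rcases le_or_gt b 0 with h | h
      · have := sq_nonneg b
        nlinarith
      · nlinarith
    exact_mod_cast this
  set T := ∑ l ∈ Finset.univ.erase i, ((P l).s : ℝ) / (P l).h * (c i l) ^ 2 with hT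
  have h12 : (Nat.card G : ℝ) ≥ 1 + (P i).L.index * ((P i).e * ((P i).h - (P i).e)) +
      (Nat.card G : ℝ) * T := by
    have h13 : (0 : ℝ) ≤ (P i).L.index * ((P i).e * (- 2 * b + (b : ℝ) ^ 2 * (P i).s)) := by
      apply mul_nonneg (Nat.cast_nonneg _)
      exact mul_nonneg (Nat.cast_nonneg _) h11
    nlinarith
  have h13 : ((P i).L.index : ℝ) * ((P i).e * ((P i).h - (P i).e)) =
      (Nat.card G : ℝ) * (1 - (P i).e / (P i).h) := by
    rw [h8]
    field_simp
  rw [h13] at h12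
  have h14 : (Nat.card G : ℝ) * (1 / (Nat.card G : ℝ) + T) ≤
      (Nat.card G : ℝ) * (((P i).e : ℝ) / (P i).h) := by
    rw [mul_add, mul_one_div_cancel hGR.ne']
    linarith
  exact le_of_mul_le_mul_left h14 hGR

end Cfsg.Agent.H18
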