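import Cfsg.Agent.H18.FTI5

/-!
# The contradiction for a covering coherent family (helper18)
-/

set_option autoImplicit false
set_option linter.unusedSectionVars false
set_option linter.style.haveILetI false
open Cfsg
open scoped ComplexConjugate

namespace Cfsg.Agent.H18

universe u v

open Cfsg.Agent.H3

variable {G : Type u} [Group G] [Fintype G]

/-- the orthonormal family: `1` and all the `star ζ` -/
noncomputable def fam {ι : Type v} (P : ι → FTI G) (C : ∀ i, Coh (P i)) :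
    Option (Σ i : ι, ↥((P i).Sf)) → G → ℂ
  | none => fun _ => 1
  | some x => (C x.1).star x.2

open Classical in
theorem fam_orth {ι : Type v} (P : ι → FTI G) (C : ∀ i, Coh (P i)) (hodd : Odd (Nat.card G))
    (hcop : ∀ i j, i ≠ j → Nat.Coprime (P i).h (P j).h)
    (x y : Option (Σ i : ι, ↥((P i).Sf))) :
    classInner (fam P C x) (fam P C y) = if x = y then 1 else 0 := by
  rcases x with _ | ⟨i, ζ, hζ⟩ <;> rcases y with _ | ⟨j, ξ, hξ⟩
  · rw [if_pos rfl]; exact inner_one_one_aux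
  · rw [if_neg (by simp)]
    exact Coh.symm_zero ((C j).perp_one hodd ((P j).mem_Sf.1 hξ))
  · rw [if_neg (by simp)]
    exact (C i).perp_one hodd ((P i).mem_Sf.1 hζ)
  · by_cases hij : i = j
    · subst hij
      by_cases h : ζ = ξ
      · subst h
        rw [if_pos rfl]
        exact (C i).inner_self ((P i).mem_Sf.1 hζ)
      · rw [if_neg (by simpa using h)]
        exact (C i).inner_ne ((P i).mem_Sf.1 hζ) ((P i).mem_Sf.1 hξ) h
    · rw [if_neg (by
        intro h
        exact hij (congrArg (fun t : Option (Σ i : ι, ↥((P i).Sf)) => match t with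
          | none => i
          | some x => x.1) h))]
      exact (C i).perp (C j) hodd (hcop i j hij) ((P i).mem_Sf.1 hζ) ((P j).mem_Sf.1 hξ)
where
  inner_one_one_aux : classInner (fun _ : G => (1 : ℂ)) (fun _ => 1) = 1 :=
    classInner_self_of_irr isIrr_one

open Classical in
theorem bessel_ineq {ι : Type v} [Fintype ι] (P : ι → FTI G) (C : ∀ i, Coh (P i))
    (hodd : Odd (Nat.card G)) (hcop : ∀ i j, i ≠ j → Nat.Coprime (P i).h (P j).h)
    (c : ι → ι → ℤ)
    (hc : ∀ i j, i ≠ j → ∀ k ∈ (P j).H, k ≠ 1 → (C i).star (C i).z k = c i j) (i : ι) :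
    ∑ l ∈ Finset.univ.erase i, (c l i) ^ 2 * ((P l).s : ℤ) + 1 ≤ (P i).e := by
  have hint : ∀ x : Option (Σ i : ι, ↥((P i).Sf)), ∃ m : ℤ,
      classInner (C i).al (fam P C x) = m := by
    intro x
    refine classInner_gen_int (C i).al_gen ?_
    rcases x with _ | ⟨j, ξ, hξ⟩
    · exact isGen_one
    · exact (C j).gen ((P j).mem_Sf.1 hξ)
  choose m hm using hint
  have h1 := bessel (fam P C) (fam_orth P C hodd hcop) (C i).al m hm ((P i).e + 1) (by
    rw [(C i).inner_al_al]; push_cast; rfl)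
  rw [Fintype.sum_option, Fintype.sum_sigma, ← Finset.add_sum_erase _ _ (Finset.mem_univ i)] at h1
  have h2 : m none = 1 := by
    have := hm none
    have h3 : classInner (C i).al (fam P C none) = 1 := (C i).inner_al_one
    rw [h3] at this
    exact_mod_cast this.symm
  have h3 : ∀ l ∈ Finset.univ.erase i, ∑ y : ↥((P l).Sf), m (some ⟨l, y⟩) ^ 2 =
      (c l i) ^ 2 * ((P l).s : ℤ) := by
    intro l hl
    have hli : l ≠ i := Finset.ne_of_mem_erase hl
    have h4 : ∀ y : ↥((P l).Sf), m (some ⟨l, y⟩) ^ 2 = (c l i) ^ 2 * ((P l).d y.1 : ℤ) ^ 2 := by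
      rintro ⟨ζ, hζ⟩
      have h5 := hm (some ⟨l, ⟨ζ, hζ⟩⟩)
      have h6 : classInner (C i).al (fam P C (some ⟨l, ⟨ζ, hζ⟩⟩)) =
          (((P l).d ζ * c l i : ℤ) : ℂ) :=
        (C i).inner_al_const ((C l).cls ((P l).mem_Sf.1 hζ))
          ((C l).star_val (hcop l i hli) (hc l i hli) ((P l).mem_Sf.1 hζ))
      rw [h6] at h5
      have h7 : m (some ⟨l, ⟨ζ, hζ⟩⟩) = (P l).d ζ * c l i := by exact_mod_cast h5.symm
      rw [h7]
      ring
    rw [Finset.sum_congr rfl fun y _ => h4 y, ← Finset.mul_sum]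
    congr 1
    have h5 := (P l).sum_d
    rw [← Finset.sum_coe_sort] at h5
    exact_mod_cast h5
  have h4 : 1 ≤ ∑ y : ↥((P i).Sf), m (some ⟨i, y⟩) ^ 2 := by
    obtain ⟨b, hb⟩ := (C i).exists_b'
    have hz := (C i).hz
    have hz' := (P i).S_conj hz
    have hval : ∀ ζ (hζ : ζ ∈ (P i).Sf), m (some ⟨i, ⟨ζ, hζ⟩⟩) =
        (P i).d ζ * b - if (C i).z = ζ then 1 else 0 := by
      intro ζ hζ
      have h5 := hm (some ⟨i, ⟨ζ, hζ⟩⟩)
      have h6 : classInner (C i).al (fam P C (some ⟨i, ⟨ζ, hζ⟩⟩)) = _ :=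
        (C i).inner_al_star ((P i).mem_Sf.1 hζ) (b := (P i).d ζ * b)
          (hb ζ ((P i).mem_Sf.1 hζ))
      rw [h6] at h5
      exact_mod_cast h5.symm
    by_cases hb0 : b = 0
    · have h5 := hval _ ((P i).mem_Sf.2 hz)
      rw [hb0, if_pos rfl] at h5
      calc (1 : ℤ) = m (some ⟨i, ⟨(C i).z, (P i).mem_Sf.2 hz⟩⟩) ^ 2 := by rw [h5]; simp
        _ ≤ _ := Finset.single_le_sum (f := fun y : ↥((P i).Sf) => m (some ⟨i, y⟩) ^ 2)
          (fun y _ => sq_nonneg _) (Finset.mem_univ _)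
    · have h5 := hval _ ((P i).mem_Sf.2 hz')
      rw [if_neg (fun h => (P i).S_conj_ne hodd hz h.symm), sub_zero] at h5
      have h6 : (P i).d (fun g => conj ((C i).z g)) = 1 := by
        rw [← (C i).d_z]; exact Coh.d_conj (P i) (C i).z
      rw [h6] at h5
      have h7 : 1 ≤ b ^ 2 := by
        have := sq_nonneg b
        have h : b ^ 2 ≠ 0 := pow_ne_zero 2 hb0
        omega
      calc (1 : ℤ) ≤ m (some ⟨i, ⟨_, (P i).mem_Sf.2 hz'⟩⟩) ^ 2 := by rw [h5]; simpa using h7
        _ ≤ _ := Finset.single_le_sum (f := fun y : ↥((P i).Sf) => m (some ⟨i, y⟩) ^ 2)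
          (fun y _ => sq_nonneg _) (Finset.mem_univ _)
  rw [Finset.sum_congr rfl h3, h2] at h1
  linarith

theorem final_num {e s h : ℝ} (he : 3 ≤ e) (hs : 2 ≤ s) (hh : h = e * s + 1)
    (hle : 1 ≤ s / h + e / h + (e - 1) / (h + 2)) : False := by
  have hpos : 0 < h := by rw [hh]; nlinarith
  have hpos2 : 0 < h + 2 := by linarith
  rw [← add_div, div_add_div _ _ hpos.ne' hpos2.ne', le_div_iff₀ (mul_pos hpos hpos2)] at hle
  obtain ⟨r, rfl⟩ : ∃ r, e = 3 + r := ⟨e - 3, by ring⟩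
  obtain ⟨t, rfl⟩ : ∃ t, s = 2 + t := ⟨s - 2, by ring⟩
  have hr : 0 ≤ r := by linarith
  have ht : 0 ≤ t := by linarith
  subst hh
  have h1 : 0 ≤ r * t := mul_nonneg hr ht
  have h2 : 0 ≤ r * t * t := mul_nonneg h1 ht
  have h3 : 0 ≤ r * r * t := mul_nonneg (mul_nonneg hr hr) ht
  have h4 : 0 ≤ r * r * t * t := mul_nonneg h3 ht
  have h5 : 0 ≤ t * t := mul_nonneg ht ht
  nlinarith

/-- **the contradiction** -/
theorem family_false {ι : Type v} [Fintype ι] [Nonempty ι] (P : ι → FTI G) (C : ∀ i, Coh (P i))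
    (hodd : Odd (Nat.card G)) (hcop : ∀ i j, i ≠ j → Nat.Coprime (P i).h (P j).h)
    (hcover : ∀ g : G, g ≠ 1 → ∃ i, g ∈ (P i).supp) : False := by
  classical
  have hex : ∀ i j, ∃ c : ℤ, i ≠ j → ∀ k ∈ (P j).H, k ≠ 1 → (C i).star (C i).z k = c := by
    intro i j
    by_cases hij : i = j
    · exact ⟨0, fun h => absurd hij h⟩
    · obtain ⟨c, hc⟩ := (C i).exists_c (C j) hodd (hcop i j hij)
      exact ⟨c, fun _ => hc⟩
  choose c hc using hex
  obtain ⟨i, -, hi⟩ := Finset.exists_min_image Finset.univ (fun i => (P i).h)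
    Finset.univ_nonempty
  have hmin : ∀ l, l ≠ i → (P i).h + 2 ≤ (P l).h := by
    intro l hl
    have h1 := hi l (Finset.mem_univ l)
    have h2 := hcop l i hl
    have h3 := (P i).h_ne_one
    have h4 : (P l).h ≠ (P i).h := by
      intro h
      rw [h, Nat.coprime_self] at h2
      exact h3 h2
    obtain ⟨a, ha⟩ := (P i).h_odd hodd
    obtain ⟨b, hb⟩ := (P l).h_odd hodd
    omega
  have F6 := norm_ineq P C hodd hcop hcover c hc i
  have F5 := bessel_ineq P C hodd hcop c hc i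
  have F1 := total P hcop hcover
  rw [← Finset.add_sum_erase _ _ (Finset.mem_univ i)] at F1
  have hhi : (0 : ℝ) < (P i).h := by exact_mod_cast (P i).h_pos
  have key : ∀ l ∈ Finset.univ.erase i, ((P l).s : ℝ) / (P l).h ≤
      ((P l).s : ℝ) / (P l).h * (c i l) ^ 2 + (c l i : ℝ) ^ 2 * (P l).s / ((P i).h + 2) := by
    intro l hl
    have hli : l ≠ i := Finset.ne_of_mem_erase hl
    have hhl : (0 : ℝ) < (P l).h := by exact_mod_cast (P l).h_pos
    have hle : ((P i).h : ℝ) + 2 ≤ (P l).h := by exact_mod_cast hmin l hli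
    have hs : (0 : ℝ) ≤ (P l).s := Nat.cast_nonneg _
    have hodd' : Odd (c i l + c l i) :=
      (C i).parity (C l) hodd (hcop i l (Ne.symm hli)) (hc i l (Ne.symm hli)) (hc l i hli)
    have hnn : 0 ≤ ((P l).s : ℝ) / (P l).h := by positivity
    by_cases h0 : c i l = 0
    · have h1 : c l i ≠ 0 := by
        intro h
        rw [h0, h] at hodd'
        exact absurd hodd' (by decide)
      have h2 : (1 : ℝ) ≤ (c l i : ℝ) ^ 2 := by
        have : 1 ≤ (c l i) ^ 2 := by
          have := sq_nonneg (c l i)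
          have h : (c l i) ^ 2 ≠ 0 := pow_ne_zero 2 h1
          omega
        exact_mod_cast this
      rw [h0]
      simp only [Int.cast_zero]
      have h3 : ((P l).s : ℝ) / (P l).h ≤ (P l).s / ((P i).h + 2) :=
        div_le_div_of_nonneg_left hs (by linarith) hle
      have h4 : ((P l).s : ℝ) / ((P i).h + 2) ≤ (c l i : ℝ) ^ 2 * (P l).s / ((P i).h + 2) := by
        apply div_le_div_of_nonneg_right _ (by linarith)
        nlinarith
      linarith
    · have h2 : (1 : ℝ) ≤ (c i l : ℝ) ^ 2 := by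
        have : 1 ≤ (c i l) ^ 2 := by
          have := sq_nonneg (c i l)
          have h : (c i l) ^ 2 ≠ 0 := pow_ne_zero 2 h0
          omega
        exact_mod_cast this
      have h3 : 0 ≤ (c l i : ℝ) ^ 2 * (P l).s / ((P i).h + 2) := by positivity
      nlinarith
  have h1 := Finset.sum_le_sum key
  rw [Finset.sum_add_distrib, ← Finset.sum_div] at h1
  have h2 : (∑ l ∈ Finset.univ.erase i, (c l i : ℝ) ^ 2 * ((P l).s : ℝ)) ≤ (P i).e - 1 := by
    have h3 : ((∑ l ∈ Finset.univ.erase i, (c l i) ^ 2 * ((P l).s : ℤ) + 1 : ℤ) : ℝ) ≤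
        ((P i).e : ℤ) := by exact_mod_cast F5
    push_cast at h3
    linarith
  have h3 : (∑ l ∈ Finset.univ.erase i, (c l i : ℝ) ^ 2 * ((P l).s : ℝ)) / ((P i).h + 2) ≤
      ((P i).e - 1) / ((P i).h + 2) := div_le_div_of_nonneg_right h2 (by linarith)
  refine final_num (e := (P i).e) (s := (P i).s) (h := (P i).h)
    (by exact_mod_cast (P i).e_ge hodd) (by exact_mod_cast (P i).s_ge hodd)
    (by exact_mod_cast (P i).h_eq) ?_
  linarith

end Cfsg.Agent.H18
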