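import Cfsg.Agent.H18.FTI6
import Cfsg.Agent.S0033
import Cfsg.Agent.H3.IndCoh

/-!
# Complements and nilpotency for TI Frobenius pairs (helper18)
-/

set_option autoImplicit false
set_option linter.unusedSectionVars false
set_option linter.style.haveILetI false
open Cfsg
open scoped ComplexConjugate

namespace Cfsg.Agent.H18

universe u v

open Cfsg.Agent.H3

variable {G : Type u} [Group G] [Fintype G]

namespace FTI

theorem exists_compl (P : FTI G) : ∃ W : Subgroup P.L, Subgroup.IsComplement' P.K W := by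
  haveI := P.normal
  apply Subgroup.exists_right_complement'_of_coprime
  rw [P.card_K]
  have h1 := P.e_dvd
  have h2 : Nat.Coprime P.h P.e := by
    refine Nat.Coprime.symm (Nat.Coprime.coprime_dvd_left h1 ?_)
    have hpos : 0 < P.h := P.h_pos
    obtain ⟨c, hc⟩ := Nat.exists_eq_succ_of_ne_zero hpos.ne'
    rw [hc]
    simp
  exact h2

theorem K_nilpotent (P : FTI G) : Group.IsNilpotent P.K := by
  haveI := P.normal
  obtain ⟨W, hW⟩ := P.exists_compl
  have hWcard : Nat.card W = P.e := by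
    have h1 := hW.card_mul_card
    rw [P.card_K, P.card_L] at h1
    have := P.h_pos
    nlinarith
  have hne : Nat.card W ≠ 1 := by rw [hWcard]; exact P.e_ne_one
  obtain ⟨p, hp, hpd⟩ := Nat.exists_prime_and_dvd hne
  haveI : Fact p.Prime := ⟨hp⟩
  obtain ⟨w, hw⟩ := exists_prime_orderOf_dvd_card' (G := W) p hpd
  have hwW : (w : P.L) ∈ W := w.2
  have hw' : orderOf (w : P.L) = p := by rw [Subgroup.orderOf_coe]; exact hw
  have hw1 : (w : P.L) ≠ 1 := by
    intro h
    rw [h, orderOf_one] at hw'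
    exact hp.one_lt.ne hw'
  have hwK : (w : P.L) ∉ P.K := by
    intro h
    apply hw1
    have h1 := hW.disjoint
    rw [Subgroup.disjoint_def] at h1
    exact h1 h hwW
  let φ : MulAut P.K := MulAut.conjNormal (w : P.L)
  have hφ : ∀ k : P.K, ((φ k : P.K) : P.L) = w * k * (w : P.L)⁻¹ := fun k =>
    MulAut.conjNormal_apply _ _
  have hfix : ∀ k : P.K, φ k = k → k = 1 := by
    intro k hk
    have h1 := hφ k
    rw [hk] at h1
    have h2 : (w : P.L) * k = k * w := by
      conv_rhs => rw [h1]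
      group
    exact Subtype.ext (P.fpf _ hwK _ k.2 h2)
  have hord : orderOf φ = p := by
    apply orderOf_eq_prime
    · show (MulAut.conjNormal (w : P.L)) ^ p = 1
      rw [← map_pow, ← hw', pow_orderOf_eq_one, map_one]
    · intro h
      obtain ⟨k, hk, hk1⟩ := Coh.exists_mem_ne_one P
      apply hk1
      have h1 := hfix ⟨k, Subgroup.mem_subgroupOf.2 hk⟩ (by rw [h]; rfl)
      exact congrArg Subtype.val h1
  refine Cfsg.Agent.S0033.result φ ?_ p hp hord
  intro k hk
  exact hfix k hk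

theorem H_nilpotent (P : FTI G) : Group.IsNilpotent P.H := by
  haveI := P.K_nilpotent
  exact (Group.isNilpotent_congr (Subgroup.subgroupOfEquivOfLe P.le)).1 P.K_nilpotent

theorem exists_z (P : FTI G) : ∃ z ∈ P.S, z 1 = (P.e : ℂ) := by
  haveI := P.K_nilpotent
  have hsolv : Group.IsSolvable P.K := inferInstance
  have hne : (⊥ : Subgroup P.K) ≠ ⊤ := by
    intro h
    have h1 : Nat.card (⊥ : Subgroup P.K) = Nat.card (⊤ : Subgroup P.K) := by rw [h]
    rw [Subgroup.card_bot, Subgroup.card_top, P.card_K] at h1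
    exact P.h_ne_one h1.symm
  obtain ⟨φ, hφ, -⟩ := exists_linear hsolv (N := ⊥) inferInstance hne
  refine ⟨indFun P.K (fun k => ((φ k : ℂˣ) : ℂ)), P.mem_S.2 ⟨_, isIrr_of_hom φ, ?_, rfl⟩, ?_⟩
  · intro h
    apply hφ
    ext k
    have := congrFun h k
    simpa using this
  · rw [indFun_one_apply]
    simp only [map_one, Units.val_one, mul_one]
    rfl

/-- the coherence statement wanted -/
def SibleyFor (P : FTI G) : Prop :=
  IsCoherent P.S ({1}ᶜ : Set P.L) (fun α : P.L → ℂ => indFun P.L α)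

theorem exists_coh (P : FTI G) (h : P.SibleyFor) : Nonempty (Coh P) := by
  obtain ⟨-, τ, h1, h2⟩ := h
  obtain ⟨z, hz, hz1⟩ := P.exists_z
  exact ⟨⟨τ, h1, h2, z, hz, hz1⟩⟩

/-- what is needed for Sibley's theorem -/
theorem sibley_hyp (P : FTI G) : ∃ W₁ : Subgroup G, W₁ ≤ P.L ∧ W₁ ≠ ⊥ ∧ P.H ⊓ W₁ = ⊥ ∧
    P.H ⊔ W₁ = P.L ∧ ∀ w ∈ W₁, w ≠ 1 → ∀ h ∈ P.H, w * h = h * w → h = 1 := by
  haveI := P.normal
  obtain ⟨W, hW⟩ := P.exists_compl
  have hdisj := hW.disjoint
  rw [Subgroup.disjoint_def] at hdisj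
  have hKmap : P.K.map P.L.subtype = P.H := Subgroup.map_subgroupOf_eq_of_le P.le
  refine ⟨W.map P.L.subtype, ?_, ?_, ?_, ?_, ?_⟩
  · exact Subgroup.map_subtype_le W
  · intro h
    rw [Subgroup.map_eq_bot_iff_of_injective _ P.L.subtype_injective] at h
    have h1 := hW.card_mul_card
    rw [h, Subgroup.card_bot, P.card_K, P.card_L] at h1
    have h2 := P.h_pos
    have h3 : P.e = 1 := by nlinarith
    exact P.e_ne_one h3
  · rw [eq_bot_iff]
    rintro x ⟨hx, w, hw, rfl⟩
    have h1 : w = 1 := hdisj (Subgroup.mem_subgroupOf.2 hx) hw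
    rw [h1, map_one]
    exact one_mem _
  · rw [← hKmap, ← Subgroup.map_sup, hW.sup_eq_top]
    exact (MonoidHom.range_eq_map _).symm.trans (Subgroup.range_subtype _)
  · rintro _ ⟨w, hw, rfl⟩ hw1 k hk h
    have hwK : w ∉ P.K := by
      intro h'
      apply hw1
      rw [hdisj h' hw, map_one]
    have h1 := P.fpf w hwK ⟨k, P.le hk⟩ (Subgroup.mem_subgroupOf.2 hk) (Subtype.ext h)
    exact congrArg Subtype.val h1

end FTI

end Cfsg.Agent.H18
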