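import Cfsg.Agent.H18.Asym3
import Cfsg.Agent.H18.FrattiniP

set_option autoImplicit false
open Cfsg
open scoped commutatorElement

namespace Cfsg.Agent.H18

variable {G : Type*} [Group G] {p : ℕ}

local notation "𝕆(" p ", " H ")" => Subgroup.map (Subgroup.subtype H) (Cfsg.pResidual p ↥H)

/-- normal closure of `A` in `H`, viewed in `G` -/
def ncl (H A : Subgroup G) : Subgroup G :=
  (Subgroup.normalClosure ((A.subgroupOf H : Subgroup ↥H) : Set ↥H)).map H.subtype

theorem ncl_le (H A : Subgroup G) : ncl H A ≤ H := Subgroup.map_subtype_le _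

theorem le_ncl {H A : Subgroup G} (h : A ≤ H) : A ≤ ncl H A := by
  have := Subgroup.map_mono (f := H.subtype)
    (Subgroup.le_normalClosure (H := A.subgroupOf H))
  rwa [Subgroup.map_subgroupOf_eq_of_le h] at this

theorem ncl_normalizes (H A : Subgroup G) :
    H ≤ Subgroup.normalizer ((ncl H A : Subgroup G) : Set G) := by
  rw [← normal_subgroupOf_iff (ncl_le H A), ncl, Subgroup.subgroupOf,
    Subgroup.comap_map_eq_self_of_injective H.subtype_injective]
  infer_instance

theorem ncl_le_of {H A K : Subgroup G} (hK : H ≤ Subgroup.normalizer (K : Set G))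
    (hAK : A ≤ K) : ncl H A ≤ K := by
  rw [ncl, Subgroup.map_le_iff_le_comap]
  have : (K.comap H.subtype).Normal := by
    refine ⟨fun x hx g => ?_⟩
    exact conj_mem_of_mem_normalizer (H := K) (g := (g : G)) (x := (x : G)) (hK g.2) hx
  exact Subgroup.normalClosure_le_normal fun x hx => hAK hx

section
variable [Finite G] [Fact p.Prime] {T M : Subgroup G}

/-- S2853 -/
theorem FM.frakH (h : FM p T M) (hasym : ¬ IsSymmetricIn (largestPReducedOf p M))
    {H : Subgroup G} (hH : IsInFrakH p M H) :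
    (∃ S, L.SylIn p S H ∧ pCoreOf p M ≤ S ∧ S ≤ dag p M ∧
      S ≤ Subgroup.normalizer ((pCoreOf p M : Subgroup G) : Set G)) ∧
    ⁅𝕆(p, H), largestPReducedOf p M⁆ = 𝕆(p, H) ∧
    𝕆(p, H) ⊔ pCoreOf p M = H ∧
    𝕆(p, H) ⊔ largestPReducedOf p M = ncl H (largestPReducedOf p M) ∧
    ncl H (pCoreOf p M) = H := by
  obtain ⟨hchar, hPH, hYH, hmin⟩ := hH
  set P := pCoreOf p M with hP
  set Y := largestPReducedOf p M with hY
  set X := 𝕆(p, H) with hX
  have hPp : IsPGroup p P := isPGroup_pCoreOf M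
  have hwc := h.wc3 hasym
  obtain ⟨S, hS, hPS⟩ := Cfsg.Agent.L.exists_sylIn_ge hPp hPH
  have hSN : S ≤ Subgroup.normalizer (P : Set G) :=
    Subgroup.le_normalizer.trans (hwc S hS.isPGroup hPS)
  have hSd : S ≤ dag p M := h.le_dag_of_isPGroup hasym hS.isPGroup hPS
  have hYP : Y ≤ P := h.pRed.le_pCoreOf
  have hXH : X ≤ H := pRes_le H
  have hHX : H ≤ Subgroup.normalizer (X : Set G) := le_normalizer_pRes H
  have hPY : P ≤ Subgroup.normalizer (Y : Set G) := (hPS.trans hSd).trans h.dag_le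
  have hYH' : Y ≤ H := hYP.trans hPH
  -- (6)
  have h6 : ncl H P = H := by
    by_contra hne
    have hlt : ncl H P < H := lt_of_le_of_ne (ncl_le H P) hne
    have h1 := hmin _ (le_ncl hPH) hlt
    exact hYH (h1.trans (pCoreOf_mono_of_normalizes (ncl_le H P) (ncl_normalizes H P)))
  -- (4)
  have h4 : X ⊔ P = H := by
    refine le_antisymm (sup_le hXH hPH) ?_
    conv_lhs => rw [← h6]
    refine ncl_le_of ?_ le_sup_right
    have h2 : H = S ⊔ X := (sylIn_sup_pRes hS).symm
    conv_lhs => rw [h2]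
    exact sup_le (le_normalizer_sup (hS.le.trans hHX) hSN)
      (le_sup_left.trans Subgroup.le_normalizer)
  -- (3)
  have h3 : ⁅X, Y⁆ = X := by
    have hNX : ⁅X, Y⁆ ≤ X := Subgroup.le_normalizer_iff_commutator_le_left.1 (hYH'.trans hHX)
    refine le_antisymm hNX ?_
    set N := ⁅X, Y⁆ with hN
    have hPN : P ≤ Subgroup.normalizer (N : Set G) :=
      le_normalizer_commutator (hPH.trans hHX) hPY
    have hXN : X ≤ Subgroup.normalizer (N : Set G) := Subgroup.normalizer_commutator_ge_left X Y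
    have hHN : H ≤ Subgroup.normalizer (N : Set G) := by
      conv_lhs => rw [← h4]
      exact sup_le hXN hPN
    by_cases hlt : N ⊔ P = H
    · have h5 : X = 𝕆(p, N) := by
        rw [hX, ← hlt]
        exact pRes_sup_eq hPp hPN
      conv_lhs => rw [h5]
      exact pRes_le N
    · exfalso
      have hle : N ⊔ P ≤ H := sup_le (hNX.trans hXH) hPH
      have h5 := hmin _ le_sup_right (lt_of_le_of_ne hle hlt)
      have hHNY : H ≤ Subgroup.normalizer ((N ⊔ Y : Subgroup G) : Set G) := by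
        conv_lhs => rw [← h4]
        refine sup_le ?_ (le_normalizer_sup hPN hPY)
        refine le_normalizer_of_conj_mem fun x hx z hz => ?_
        have hYN : Y ≤ Subgroup.normalizer (N : Set G) := Subgroup.normalizer_commutator_ge_right X Y
        rw [sup_comm, mem_sup_iff_of_le_normalizer' hYN] at hz
        obtain ⟨n, hn, y, hy, rfl⟩ := hz
        have e : x * (n * y) * x⁻¹ = (x * n * x⁻¹) * ⁅x, y⁆ * y := by
          simp only [commutatorElement_def]; group
        rw [e]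
        exact mul_mem (mul_mem (Subgroup.mem_sup_left (conj_mem_of_mem_normalizer (hXN hx) hn))
          (Subgroup.mem_sup_left (Subgroup.commutator_mem_commutator hx hy)))
          (Subgroup.mem_sup_right hy)
      have h7 : Y ≤ pCoreOf p (N ⊔ Y) := by
        have h8 : pCoreOf p (N ⊔ P) ⊓ (N ⊔ Y) ≤ pCoreOf p (N ⊔ Y) := by
          refine le_pCoreOf inf_le_right ?_ ((isPGroup_pCoreOf _).to_le inf_le_left)
          exact le_normalizer_inf ((sup_le_sup_left hYP N).trans (le_normalizer_pCoreOf _))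
            Subgroup.le_normalizer
        exact (le_inf h5 le_sup_right).trans h8
      exact hYH (h7.trans (pCoreOf_mono_of_normalizes (sup_le (hNX.trans hXH) hYH') hHNY))
  refine ⟨⟨S, hS, hPS, hSd, hSN⟩, h3, h4, ?_, h6⟩
  -- (5)
  refine le_antisymm (sup_le ?_ (le_ncl hYH')) (ncl_le_of ?_ le_sup_right)
  · conv_lhs => rw [← h3]
    refine (Subgroup.commutator_mono le_rfl (le_ncl hYH')).trans ?_
    exact Subgroup.le_normalizer_iff_commutator_le_right.1 (hXH.trans (ncl_normalizes H Y))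
  · conv_lhs => rw [← h4]
    exact sup_le (le_sup_left.trans Subgroup.le_normalizer)
      (le_normalizer_sup (hPH.trans hHX) hPY)

end

/-- abstract core of S2854 -/
theorem inf_le_pCore_of_central [Finite G] [Fact p.Prime] {X Y N T : Subgroup G} [X.Normal]
    [N.Normal] (hT : L.SylIn p T ⊤) (hYp : IsPGroup p Y)
    (hTY : T ≤ Subgroup.normalizer (Y : Set G)) (hXY : ⁅X, Y⁆ = X) (hNX : 𝕆(p, N) ≤ X)
    (hX : pCoreOf p X = ⊥) (hc : Y ≤ Subgroup.centralizer ((𝕆(p, N) : Subgroup G) : Set G)) :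
    T ⊓ N ≤ pCore p G := by
  set N₀ := 𝕆(p, N) with hN₀
  haveI hN₀n : N₀.Normal := pRes_normal N
  have hXc : X ≤ Subgroup.centralizer (N₀ : Set G) := by
    rw [← hXY]
    exact (Subgroup.commutator_mono le_rfl hc).trans (Subgroup.commutator_le_right _ _)
  have hcomm : ∀ n ∈ N₀, ∀ x ∈ X, n * x = x * n := fun n hn x hx =>
    Subgroup.mem_centralizer_iff.1 (hXc hx) n hn
  have hcommY : ∀ n ∈ N₀, ∀ y ∈ Y, n * y = y * n := fun n hn y hy =>
    Subgroup.mem_centralizer_iff.1 (hc hy) n hn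
  have hp' : ∀ n ∈ N₀, (orderOf n).Coprime p := by
    intro n hn
    rw [hN₀, pRes_eq_closure] at hn
    induction hn using Subgroup.closure_induction with
    | mem x hx => exact hx.2
    | one => rw [orderOf_one]; exact Nat.coprime_one_left p
    | mul x y hx hy ihx ihy =>
      have hx' : x ∈ N₀ := by rw [hN₀, pRes_eq_closure]; exact hx
      have hy' : y ∈ N₀ := by rw [hN₀, pRes_eq_closure]; exact hy
      have hxy : Commute x y := hcomm x hx' y (hNX hy')
      exact Nat.Coprime.coprime_dvd_left (hxy.orderOf_mul_dvd_mul_orderOf)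
        (Nat.Coprime.mul_left ihx ihy)
    | inv x hx ih => rwa [orderOf_inv]
  have hNXn : (N ⊓ X).Normal := inferInstance
  have hR : L.SylIn p (T ⊓ (N ⊓ X)) (N ⊓ X) :=
    sylIn_inf_of_normalizes hT le_top le_normalizer_of_normal
  have hresNX : 𝕆(p, (N ⊓ X)) ≤ N₀ := pRes_mono inf_le_left
  have hRbot : T ⊓ (N ⊓ X) = ⊥ := by
    rw [eq_bot_iff, ← hX]
    have h1 : T ⊓ (N ⊓ X) ≤ pCoreOf p (N ⊓ X) := by
      refine le_pCoreOf inf_le_right ?_ hR.isPGroup
      have h2 : N ⊓ X = (T ⊓ (N ⊓ X)) ⊔ 𝕆(p, (N ⊓ X)) := (sylIn_sup_pRes hR).symm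
      conv_lhs => rw [h2]
      refine sup_le Subgroup.le_normalizer (le_trans ?_ (Subgroup.centralizer_le_normalizer _))
      rw [Subgroup.le_centralizer_iff]
      exact (inf_le_right.trans inf_le_right).trans (hXc.trans
        (Subgroup.centralizer_le (SetLike.coe_subset_coe.2 hresNX)))
    exact h1.trans (pCoreOf_mono_of_normalizes inf_le_right le_normalizer_of_normal)
  have hNXle : N ⊓ X ≤ N₀ := by
    rw [← sylIn_sup_pRes hR, hRbot, bot_sup_eq]
    exact hresNX
  have hNn : N.Normal := inferInstance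
  have hXn : X.Normal := inferInstance
  -- A = Y ∩ N centralizes X
  have hA : ∀ a ∈ Y ⊓ N, ∀ x ∈ X, a * x = x * a := by
    intro a ha x hx
    obtain ⟨n, hn⟩ : ∃ n, n = a * x * a⁻¹ * x⁻¹ := ⟨_, rfl⟩
    have hnN : n ∈ N₀ := by
      refine hNXle (Subgroup.mem_inf.2 ⟨?_, ?_⟩)
      · have e : n = a * (x * a⁻¹ * x⁻¹) := by rw [hn]; group
        rw [e]; exact mul_mem ha.2 (hNn.conj_mem _ (inv_mem ha.2) x)
      · rw [hn]; exact mul_mem (hXn.conj_mem x hx a) (inv_mem hx)
    have h1 : ∀ k : ℕ, a ^ k * x * (a ^ k)⁻¹ = n ^ k * x := by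
      intro k
      induction k with
      | zero => simp
      | succ k ih =>
        have h2 : a * n ^ k = n ^ k * a := (hcommY (n ^ k) (pow_mem hnN k) a ha.1).symm
        calc a ^ (k + 1) * x * (a ^ (k + 1))⁻¹ = a * (a ^ k * x * (a ^ k)⁻¹) * a⁻¹ := by
              rw [pow_succ']; group
          _ = (a * n ^ k) * x * a⁻¹ := by rw [ih]; group
          _ = n ^ k * (a * x * a⁻¹ * x⁻¹) * x := by rw [h2]; group
          _ = n ^ (k + 1) * x := by rw [← hn, pow_succ]
    obtain ⟨k, hk⟩ := isPGroup_of_mem hYp ha.1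
    have h2 := h1 (p ^ k)
    rw [hk, one_mul, inv_one, mul_one] at h2
    have h3 : n ^ p ^ k = 1 := by
      have : n ^ p ^ k * x = 1 * x := by rw [← h2, one_mul]
      exact mul_right_cancel this
    have h4 : n = 1 := eq_one_of_coprime_of_pow (hp' n hnN) h3
    rw [h4] at hn
    calc a * x = (a * x * a⁻¹ * x⁻¹) * (x * a) := by group
      _ = x * a := by rw [← hn, one_mul]
  -- T ∩ N centralizes X
  have hTX : T ⊓ N ≤ Subgroup.centralizer (X : Set G) := by
    intro t ht
    have h1 : ⁅X, Y⁆ ≤ Subgroup.centralizer ({t} : Set G) := by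
      rw [Subgroup.commutator_le]
      intro x hx y hy
      rw [commute_iff_mem_centralizer_singleton]
      obtain ⟨n, hn⟩ : ∃ n, n = t * x * t⁻¹ * x⁻¹ := ⟨_, rfl⟩
      obtain ⟨a, ha⟩ : ∃ a, a = t * y * t⁻¹ * y⁻¹ := ⟨_, rfl⟩
      have hnN : n ∈ N₀ := by
        refine hNXle (Subgroup.mem_inf.2 ⟨?_, ?_⟩)
        · have e : n = t * (x * t⁻¹ * x⁻¹) := by rw [hn]; group
          rw [e]; exact mul_mem ht.2 (hNn.conj_mem _ (inv_mem ht.2) x)
        · rw [hn]; exact mul_mem (hXn.conj_mem x hx t) (inv_mem hx)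
      have haA : a ∈ Y ⊓ N := by
        refine Subgroup.mem_inf.2 ⟨?_, ?_⟩
        · rw [ha]; exact mul_mem (conj_mem_of_mem_normalizer (hTY ht.1) hy) (inv_mem hy)
        · have e : a = t * (y * t⁻¹ * y⁻¹) := by rw [ha]; group
          rw [e]; exact mul_mem ht.2 (hNn.conj_mem _ (inv_mem ht.2) y)
      have e1 : t * x * t⁻¹ = n * x := by rw [hn]; group
      have e2 : t * y * t⁻¹ = a * y := by rw [ha]; group
      have hnX : n ∈ X := hNX hnN
      have hz : y * (x⁻¹ * n⁻¹) * y⁻¹ ∈ X :=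
        hXn.conj_mem _ (mul_mem (inv_mem hx) (inv_mem hnX)) y
      have key : t * ⁅x, y⁆ * t⁻¹ = ⁅x, y⁆ := by
        calc t * ⁅x, y⁆ * t⁻¹ = (t * x * t⁻¹) * (t * y * t⁻¹) * (t * x * t⁻¹)⁻¹ *
              (t * y * t⁻¹)⁻¹ := by simp only [commutatorElement_def]; group
          _ = (n * x) * (a * (y * (x⁻¹ * n⁻¹) * y⁻¹)) * a⁻¹ := by rw [e1, e2]; group
          _ = (n * x) * ((y * (x⁻¹ * n⁻¹) * y⁻¹) * a) * a⁻¹ := by rw [hA a haA _ hz]
          _ = n * x * (y * x⁻¹ * (n⁻¹ * y⁻¹)) := by group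
          _ = n * (x * (y * x⁻¹ * y⁻¹)) * n⁻¹ := by
              rw [hcommY n⁻¹ (inv_mem hnN) y⁻¹ (inv_mem hy)]; group
          _ = (x * (y * x⁻¹ * y⁻¹)) * n * n⁻¹ := by
              rw [hcomm n hnN _ (mul_mem hx (hXn.conj_mem _ (inv_mem hx) y))]
          _ = ⁅x, y⁆ := by simp only [commutatorElement_def]; group
      calc t * ⁅x, y⁆ = (t * ⁅x, y⁆ * t⁻¹) * t := by group
        _ = ⁅x, y⁆ * t := by rw [key]
    rw [hXY] at h1
    rw [Subgroup.mem_centralizer_iff]
    intro x hx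
    exact (commute_iff_mem_centralizer_singleton.1 (h1 hx)).symm
  have hTN : L.SylIn p (T ⊓ N) N := sylIn_inf_of_normalizes hT le_top le_normalizer_of_normal
  have h1 : T ⊓ N ≤ pCoreOf p N := by
    refine le_pCoreOf inf_le_right ?_ hTN.isPGroup
    have h2 : N = (T ⊓ N) ⊔ N₀ := (sylIn_sup_pRes hTN).symm
    conv_lhs => rw [h2]
    refine sup_le Subgroup.le_normalizer (le_trans ?_ (Subgroup.centralizer_le_normalizer _))
    rw [Subgroup.le_centralizer_iff]
    exact hTX.trans (Subgroup.centralizer_le (SetLike.coe_subset_coe.2 hNX))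
  exact h1.trans (pCoreOf_le_pCore_of_normal N)

end Cfsg.Agent.H18
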