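import Cfsg.Agent.H18.FrakH

set_option autoImplicit false
open Cfsg
open scoped commutatorElement

namespace Cfsg.Agent.H18

variable {G : Type*} [Group G] {p : ℕ}

local notation "𝕆(" p ", " H ")" => Subgroup.map (Subgroup.subtype H) (Cfsg.pResidual p ↥H)

theorem pCoreOf_map_mk'_eq_bot [Finite G] [Fact p.Prime] {H : Subgroup G} [H.Normal]
    [hn : (pCoreOf p H).Normal] : pCoreOf p (H.map (QuotientGroup.mk' (pCoreOf p H))) = ⊥ := by
  set O := pCoreOf p H with hO
  have hs := QuotientGroup.mk'_surjective O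
  haveI : (H.map (QuotientGroup.mk' O)).Normal := Subgroup.Normal.map inferInstance _ hs
  set D := pCoreOf p (H.map (QuotientGroup.mk' O)) with hD
  have hDn : D.Normal := by
    rw [← Subgroup.normalizer_eq_top_iff, eq_top_iff]
    refine le_trans ?_ (normalizer_le_normalizer_pCoreOf _)
    rw [Subgroup.normalizer_eq_top]
  have hDp : IsPGroup p D := isPGroup_pCoreOf _
  have h1 : D.comap (QuotientGroup.mk' O) ≤ H := by
    have h2 := Subgroup.comap_mono (f := QuotientGroup.mk' O) (pCoreOf_le (p := p)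
      (H.map (QuotientGroup.mk' O)))
    rw [Subgroup.comap_map_eq, QuotientGroup.ker_mk', sup_eq_left.2 (pCoreOf_le H)] at h2
    exact h2
  have h2 : IsPGroup p ↥(D.comap (QuotientGroup.mk' O)) := by
    rw [isPGroup_iff_mem]
    intro x hx
    obtain ⟨k, hk⟩ := isPGroup_of_mem hDp (show (QuotientGroup.mk' O) x ∈ D from hx)
    rw [← map_pow, QuotientGroup.mk'_apply, QuotientGroup.eq_one_iff] at hk
    obtain ⟨l, hl⟩ := isPGroup_of_mem (isPGroup_pCoreOf H) hk
    exact ⟨k + l, by rw [pow_add, pow_mul, hl]⟩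
  have h3 : D.comap (QuotientGroup.mk' O) ≤ O := by
    have h4 : (D.comap (QuotientGroup.mk' O)).Normal := hDn.comap _
    exact le_pCoreOf h1 le_normalizer_of_normal h2
  rw [eq_bot_iff, ← Subgroup.map_comap_eq_self_of_surjective hs D]
  refine (Subgroup.map_mono h3).trans ?_
  rw [← eq_bot_iff, Subgroup.map_eq_bot_iff, QuotientGroup.ker_mk']

theorem pCoreOf_subgroupOf_map {H K : Subgroup G} (hHK : H ≤ K) :
    (pCoreOf p (H.subgroupOf K)).map K.subtype = pCoreOf p H := by
  apply le_antisymm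
  · refine le_pCoreOf ?_ ?_ ((isPGroup_pCoreOf _).map _)
    · refine (Subgroup.map_mono (pCoreOf_le _)).trans ?_
      rw [Subgroup.map_subgroupOf_eq_of_le hHK]
    · refine le_normalizer_of_conj_mem ?_
      rintro h hh _ ⟨x, hx, rfl⟩
      exact ⟨⟨h, hHK hh⟩ * x * ⟨h, hHK hh⟩⁻¹, conj_mem_of_mem_normalizer
        (le_normalizer_pCoreOf (H.subgroupOf K) (by exact hh)) hx, rfl⟩
  · have h1 : (pCoreOf p H).subgroupOf K ≤ pCoreOf p (H.subgroupOf K) := by
      refine le_pCoreOf (Subgroup.comap_mono (pCoreOf_le H)) ?_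
        (isPGroup_subgroupOf (isPGroup_pCoreOf H))
      refine le_normalizer_of_conj_mem fun h hh x hx => ?_
      exact conj_mem_of_mem_normalizer (H := pCoreOf p H) (g := (h : G)) (x := (x : G))
        (le_normalizer_pCoreOf H hh) hx
    have h2 := Subgroup.map_mono (f := K.subtype) h1
    rwa [Subgroup.map_subgroupOf_eq_of_le ((pCoreOf_le H).trans hHK)] at h2

section
variable [Finite G] [Fact p.Prime] {T M : Subgroup G}

theorem FM.frakH_pIrr (h : FM p T M) (hasym : ¬ IsSymmetricIn (largestPReducedOf p M))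
    {H Q : Subgroup G} (hH : IsInFrakH p M H) (hQ : IsPGroup p Q)
    (hHQ : H ≤ Subgroup.normalizer (Q : Set G)) :
    Q ≤ pCoreOf p (H ⊔ Q) ∧
    pCoreOf p (H ⊔ Q) ≤ Subgroup.normalizer ((pCoreOf p M : Subgroup G) : Set G) ∧
    H ⊔ Q ≤ Subgroup.normalizer (H : Set G) ∧ 𝕆(p, H) = 𝕆(p, (H ⊔ Q)) ∧
    IsPIrreducible p ↥(H ⊔ Q) := by
  obtain ⟨⟨S, hS, hPS, hSd, hSN⟩, h3, h4, h5, h6⟩ := h.frakH hasym hH
  obtain ⟨hchar, hPH, hYH, hmin⟩ := hH
  set P := pCoreOf p M with hP
  set Y := largestPReducedOf p M with hY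
  set X := 𝕆(p, H) with hX
  set K := H ⊔ Q with hK
  have hPp : IsPGroup p P := isPGroup_pCoreOf M
  have hwc := h.wc3 hasym
  have hHK : H ≤ K := le_sup_left
  have hQK : Q ≤ K := le_sup_right
  have hKQ : K ≤ Subgroup.normalizer (Q : Set G) := sup_le hHQ Subgroup.le_normalizer
  have h1 : Q ≤ pCoreOf p K := le_pCoreOf hQK hKQ hQ
  have h2 : pCoreOf p K ≤ Subgroup.normalizer (P : Set G) :=
    hwc.le_normalizer_of_isPGroup hPp (isPGroup_pCoreOf K)
      ((hPH.trans hHK).trans (le_normalizer_pCoreOf K))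
  have hQH : Q ≤ Subgroup.normalizer (H : Set G) := by
    have hcl : H = Subgroup.closure {z : G | ∃ h ∈ H, ∃ y ∈ P, z = h * y * h⁻¹} := by
      conv_lhs => rw [← h6]
      exact normalClosure_subgroupOf_map hPH
    have key : ∀ q ∈ Q, L.cj q H ≤ H := by
      intro q hq
      rw [L.cj_le_iff]
      conv_lhs => rw [hcl]
      rw [Subgroup.closure_le]
      rintro _ ⟨x, hx, y, hy, rfl⟩
      rw [SetLike.mem_coe, L.mem_cj, inv_inv]
      have hq' : x⁻¹ * q * x ∈ Q := conj_mem_of_mem_normalizer' (hHQ hx) hq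
      have e : q * (x * y * x⁻¹) * q⁻¹ =
          x * ((x⁻¹ * q * x) * y * (x⁻¹ * q * x)⁻¹) * x⁻¹ := by group
      rw [e]
      refine mul_mem (mul_mem hx (hPH ?_)) (inv_mem hx)
      exact conj_mem_of_mem_normalizer (h2 (h1 hq')) hy
    exact le_normalizer_of_conj_mem fun q hq x hx => key q hq (L.conj_mem_cj hx)
  have hKH : K ≤ Subgroup.normalizer (H : Set G) := sup_le Subgroup.le_normalizer hQH
  have hres : X = 𝕆(p, K) := (pRes_sup_eq hQ hQH).symm
  refine ⟨h1, h2, hKH, hres, ?_⟩
  have hYP : Y ≤ P := h.pRed.le_pCoreOf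
  have hYH' : Y ≤ H := hYP.trans hPH
  have hYK : Y ≤ K := hYH'.trans hHK
  refine ⟨?_, ?_⟩
  · intro hc
    have h7 : P ≤ pCoreOf p K := le_pCoreOf_of_isPClosed hc hPp (hPH.trans hHK)
    apply hYH
    refine (le_inf hYH' (hYP.trans h7)).trans ?_
    refine le_pCoreOf inf_le_left ?_ ((isPGroup_pCoreOf K).to_le inf_le_right)
    exact le_normalizer_inf Subgroup.le_normalizer (hHK.trans (le_normalizer_pCoreOf K))
  · intro N hN hNc
    by_contra hres'
    apply hNc
    -- the normal p-subgroup O_p(H) of K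
    have hHn : (H.subgroupOf K).Normal := (normal_subgroupOf_iff hHK).2 hKH
    have hOeq : pCoreOf p (H.subgroupOf K) = (pCoreOf p H).subgroupOf K := by
      have e := pCoreOf_subgroupOf_map (p := p) hHK
      rw [← e, Subgroup.subgroupOf, Subgroup.subgroupOf,
        Subgroup.comap_map_eq_self_of_injective K.subtype_injective]
    have hOn : (pCoreOf p (H.subgroupOf K)).Normal := by
      rw [← Subgroup.normalizer_eq_top_iff, eq_top_iff]
      refine le_trans ?_ (normalizer_le_normalizer_pCoreOf _)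
      rw [Subgroup.normalizer_eq_top]
    have hOp : IsPGroup p (pCoreOf p (H.subgroupOf K)) := isPGroup_pCoreOf _
    rw [← isPClosed_map_iff hOp]
    set O := pCoreOf p (H.subgroupOf K) with hO
    have hs := QuotientGroup.mk'_surjective O
    have hNn : (N.map (QuotientGroup.mk' O)).Normal := Subgroup.Normal.map hN _ hs
    obtain ⟨SK, hSK, hPSK⟩ := L.exists_sylIn_ge hPp (hPH.trans hHK)
    have hSKY : SK ≤ Subgroup.normalizer (Y : Set G) :=
      (h.le_dag_of_isPGroup hasym hSK.isPGroup hPSK).trans h.dag_le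
    have hSKs : L.SylIn p (SK.subgroupOf K) ⊤ := by
      have h7 := sylIn_subgroupOf (L := K) le_rfl hSK
      rwa [Subgroup.subgroupOf_self] at h7
    have hT' := sylIn_map_mk' O hSKs
    rw [isPClosed_normal_iff hT']
    have hXK : X.subgroupOf K = pResidual p K := by
      rw [hres, Subgroup.subgroupOf, Subgroup.comap_map_eq_self_of_injective K.subtype_injective]
    have hXle : X ≤ K := (pRes_le H).trans hHK
    have hXn : ((pResidual p K).map (QuotientGroup.mk' O)).Normal :=
      Subgroup.Normal.map inferInstance _ hs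
    refine inf_le_pCore_of_central (X := (pResidual p K).map (QuotientGroup.mk' O))
      (Y := (Y.subgroupOf K).map (QuotientGroup.mk' O)) hT'
      ((isPGroup_subgroupOf h.pRed.isPGroup).map _) ?_ ?_ ?_ ?_ ?_
    · refine le_normalizer_of_conj_mem ?_
      rintro _ ⟨a, ha, rfl⟩ _ ⟨y, hy, rfl⟩
      exact ⟨a * y * a⁻¹, conj_mem_of_mem_normalizer (H := Y) (g := (a : G)) (x := (y : G))
          (hSKY ha) hy, by simp⟩
    · rw [← Subgroup.map_commutator, ← hXK, commutator_subgroupOf hXle hYK, h3]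
    · rw [pResidual_map hs]
      exact pRes_le_pResidual _
    · rw [eq_bot_iff, ← pCoreOf_map_mk'_eq_bot (p := p) (H := H.subgroupOf K)]
      refine pCoreOf_mono_of_normalizes (Subgroup.map_mono ?_) le_normalizer_of_normal
      rw [← hXK]
      exact Subgroup.comap_mono (pRes_le H)
    · -- N₀ and Y
      have hN₀ : (𝕆(p, N)).map K.subtype ≤ X := by
        have h7 := Subgroup.map_mono (f := K.subtype) (pRes_le_pResidual (p := p) N)
        rwa [← hXK, Subgroup.map_subgroupOf_eq_of_le hXle] at h7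
      set N₀ := (𝕆(p, N)).map K.subtype with hN₀def
      have hKN₀ : K ≤ Subgroup.normalizer (N₀ : Set G) := by
        have h7 : (𝕆(p, N)).Normal := pRes_normal N
        rw [← normal_subgroupOf_iff (Subgroup.map_subtype_le _), Subgroup.subgroupOf,
          Subgroup.comap_map_eq_self_of_injective K.subtype_injective]
        exact h7
      have hne : N₀ ⊔ P ≠ H := by
        intro hne
        apply hres'
        have h7 : X = 𝕆(p, N₀) := by
          rw [hX, ← hne]
          exact pRes_sup_eq hPp ((hPH.trans hHK).trans hKN₀)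
        have h8 : X ≤ N.map K.subtype := by
          rw [h7]
          exact (pRes_le N₀).trans (Subgroup.map_mono (pRes_le N))
        rw [← hXK]
        intro x hx
        obtain ⟨n, hn, e⟩ := h8 hx
        have : n = x := Subtype.ext e
        rwa [← this]
      have hle : N₀ ⊔ P ≤ H := sup_le (hN₀.trans (pRes_le H)) hPH
      have h7 := hmin _ le_sup_right (lt_of_le_of_ne hle hne)
      have h8 : ⁅N₀, Y⁆ ≤ pCoreOf p H := by
        have h9 : ⁅N₀, Y⁆ ≤ pCoreOf p N₀ := by
          refine le_trans (le_inf ?_ ?_ : _ ≤ N₀ ⊓ pCoreOf p (N₀ ⊔ P)) ?_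
          · exact Subgroup.le_normalizer_iff_commutator_le_left.1 (hYK.trans hKN₀)
          · refine (Subgroup.commutator_mono le_rfl h7).trans ?_
            exact Subgroup.le_normalizer_iff_commutator_le_right.1
              (le_sup_left.trans (le_normalizer_pCoreOf (N₀ ⊔ P)))
          · refine le_pCoreOf inf_le_left ?_ ((isPGroup_pCoreOf _).to_le inf_le_right)
            exact le_normalizer_inf Subgroup.le_normalizer
              (le_sup_left.trans (le_normalizer_pCoreOf (N₀ ⊔ P)))
        exact h9.trans (pCoreOf_mono_of_normalizes (hN₀.trans (pRes_le H)) (hHK.trans hKN₀))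
      have hOeq' : pCoreOf p (H.subgroupOf K) = (pCoreOf p H).subgroupOf K := hOeq
      rw [Subgroup.le_centralizer_iff, ← Subgroup.commutator_eq_bot_iff_le_centralizer,
        ← pRes_map, ← Subgroup.map_commutator, Subgroup.map_eq_bot_iff, QuotientGroup.ker_mk',
        hOeq']
      refine Subgroup.map_le_iff_le_comap.1 ?_
      rw [Subgroup.map_commutator, Subgroup.map_subgroupOf_eq_of_le hYK]
      exact h8

end

end Cfsg.Agent.H18
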