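import Cfsg.Agent.H18.MinOver

set_option autoImplicit false
open Cfsg
open scoped commutatorElement

namespace Cfsg.Agent.H18

variable {H : Type*} [Group H] {p : ℕ}

/-- the elements conjugating `A` into both `T^g` and `T^h` -/
def SS (A T : Subgroup H) (g h : H) : Set H :=
  {x | L.cj x A ≤ L.cj g T ∧ L.cj x A ≤ L.cj h T}

theorem ncard_SS_self (A T : Subgroup H) (g h : H) : (SS A T g g).ncard = (SS A T h h).ncard := by
  have : SS A T h h = (fun x => h * g⁻¹ * x) '' SS A T g g := by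
    ext x
    constructor
    · rintro ⟨h1, -⟩
      refine ⟨g * h⁻¹ * x, ?_, by group⟩
      have h2 : L.cj (g * h⁻¹ * x) A ≤ L.cj g T := by
        rw [mul_assoc, ← L.cj_cj, L.cj_le_cj, ← L.cj_cj, L.cj_le_iff, inv_inv]
        exact h1
      exact ⟨h2, h2⟩
    · rintro ⟨y, ⟨h1, -⟩, rfl⟩
      have h2 : L.cj (h * g⁻¹ * y) A ≤ L.cj h T := by
        rw [mul_assoc, ← L.cj_cj, L.cj_le_cj, ← L.cj_cj, L.cj_le_iff, inv_inv]
        exact h1
      exact ⟨h2, h2⟩
  rw [this, Set.ncard_image_of_injective]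
  intro x y hxy
  exact mul_left_cancel hxy

theorem eq_of_cj_le [Finite H] {D : Subgroup H} {g : H} (h : L.cj g D ≤ D) : L.cj g D = D :=
  L.eq_of_le_of_card_le h (by rw [L.card_cj])

theorem cj_gen (A O : Subgroup H) [O.Normal] (S : Set H) (g : H) :
    L.cj g ((⨆ x : S, L.cj (x : H) A) ⊔ O) = (⨆ x : S, L.cj (g * (x : H)) A) ⊔ O := by
  rw [L.cj_sup, L.cj_iSup]
  congr 1
  · exact iSup_congr fun x => L.cj_cj _ _ _
  · exact mem_normalizer_iff_map.1 (le_normalizer_of_normal (A := ⊤) (Subgroup.mem_top g))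

/-- if `D ≤ T₁` is generated by conjugates of `A` (and a normal subgroup) and contains every
conjugate of `A` in `N_{T₁}(D)` then it contains all conjugates in `T₁` -/
theorem all_le_of_normalizer [Finite H] [Fact p.Prime] {A T₁ O D : Subgroup H} [O.Normal]
    {S : Set H} (hT₁ : IsPGroup p T₁) (hD : D = (⨆ x : S, L.cj (x : H) A) ⊔ O) (hDT : D ≤ T₁)
    (h : ∀ x : H, L.cj x A ≤ T₁ → L.cj x A ≤ Subgroup.normalizer (D : Set H) → L.cj x A ≤ D) :
    ∀ x : H, L.cj x A ≤ T₁ → L.cj x A ≤ D := by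
  by_cases hE : T₁ ≤ Subgroup.normalizer (D : Set H)
  · exact fun x hx => h x hx (hx.trans hE)
  exfalso
  set E := T₁ ⊓ Subgroup.normalizer (D : Set H) with hEdef
  have hlt : E < T₁ := lt_of_le_of_ne inf_le_left fun e => hE (by rw [← e]; exact inf_le_right)
  have h1 := L.lt_inf_nz hT₁ hlt
  obtain ⟨g, hg, hgE⟩ := SetLike.exists_of_lt h1
  apply hgE
  refine Subgroup.mem_inf.2 ⟨hg.1, ?_⟩
  rw [mem_normalizer_iff_map]
  refine eq_of_cj_le ?_
  have hDE : D ≤ E := le_inf hDT Subgroup.le_normalizer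
  have hgE' : L.cj g E = E := L.mem_nz_iff.1 hg.2
  conv_lhs => rw [hD, cj_gen]
  refine sup_le (iSup_le fun x => ?_) (by rw [hD]; exact le_sup_right)
  have h2 : L.cj (x : H) A ≤ D := by
    rw [hD]
    exact (le_iSup (fun x : S => L.cj (x : H) A) x).trans le_sup_left
  have h3 : L.cj (g * (x : H)) A ≤ E := by
    rw [← L.cj_cj, ← hgE']
    exact L.cj_mono (h2.trans hDE)
  exact h _ (h3.trans inf_le_left) (h3.trans inf_le_right)

theorem cj_le_cj_iff_left {A B : Subgroup H} {g k : H} :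
    L.cj g A ≤ L.cj k B ↔ A ≤ L.cj (g⁻¹ * k) B := by
  rw [L.cj_le_iff, L.cj_cj]

theorem IsMinimalOver.cj_eq [Finite H] {T M : Subgroup H} (h : IsMinimalOver T)
    (hM : IsCoatom M) (hTM : T ≤ M) {g k : H} (hk : L.cj g T ≤ L.cj k M) :
    L.cj k M = L.cj g M := by
  have h1 : T ≤ L.cj (g⁻¹ * k) M := cj_le_cj_iff_left.1 hk
  have h2 : L.cj (g⁻¹ * k) M ≠ ⊤ := by
    intro e
    rw [L.cj_eq_iff, L.cj_top] at e
    exact hM.1 e
  have h3 : L.cj (g⁻¹ * k) M ≤ M := IsMinimalOver.le_of_ne h hM hTM h1 h2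
  have h4 := eq_of_cj_le h3
  rw [← L.cj_cj, L.cj_eq_iff, inv_inv] at h4
  exact h4

theorem IsMinimalOver.normalizer_le [Finite H] {T M D : Subgroup H} (h : IsMinimalOver T)
    (hM : IsCoatom M) (hTM : T ≤ M) {g : H} (hD : L.cj g T ≤ D) (hne : D ≠ ⊤) :
    D ≤ L.cj g M := by
  have h1 : T ≤ L.cj g⁻¹ D := by rw [← L.cj_le_iff]; exact hD
  have h2 : L.cj g⁻¹ D ≠ ⊤ := by
    intro e
    rw [L.cj_eq_iff, L.cj_top] at e
    exact hne e
  have h3 := IsMinimalOver.le_of_ne h hM hTM h1 h2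
  rwa [L.cj_le_iff, inv_inv] at h3

theorem exists_cj_sylow [Finite H] [Fact p.Prime] {T M E : Subgroup H} (hT : L.SylIn p T ⊤)
    (hTM : T ≤ M) {k : H} (hE : IsPGroup p E) (hEM : E ≤ L.cj k M) :
    ∃ k', E ≤ L.cj k' T ∧ L.cj k' M = L.cj k M := by
  have hTM' : L.SylIn p T M := hT.of_le hTM le_top
  obtain ⟨x, hx, e⟩ := (hTM'.cj k).exists_conj_le hE hEM
  refine ⟨x⁻¹ * k, ?_, ?_⟩
  · rw [L.cj_le_iff, L.cj_cj] at e
    exact e
  · rw [← L.cj_cj]
    exact L.cj_eq_self_of_mem (inv_mem hx)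

theorem pCore_le_cj [Finite H] [Fact p.Prime] {T : Subgroup H} (hT : L.SylIn p T ⊤) (g : H) :
    pCore p H ≤ L.cj g T := by
  have h1 : L.SylIn p (L.cj g T) ⊤ := by
    have := hT.cj g
    rwa [L.cj_top] at this
  have h2 := pCore_le_sylow (sylInTop h1)
  rwa [sylInTop_coe] at h2

section Main

variable [Finite H] [Fact p.Prime] {T M A : Subgroup H}

theorem llemma_side (hT : L.SylIn p T ⊤) (hmin : IsMinimalOver T) (hM : IsCoatom M) (hTM : T ≤ M)
    (hAT : A ≤ T) (hA : ¬ A ≤ pCore p H) {g h : H} (hne : L.cj g M ≠ L.cj h M)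
    {S : Set H} (hS : S = SS A T g h) {D : Subgroup H}
    (hD : D = (⨆ x : S, L.cj (x : H) A) ⊔ pCore p H) :
    ∃ b, L.cj b A ≤ L.cj g T ∧ L.cj b A ≤ Subgroup.normalizer (D : Set H) ∧ ¬ L.cj b A ≤ D := by
  by_contra hcon
  push Not at hcon
  have hpg := pCore_le_cj hT g
  have hph := pCore_le_cj hT h
  have hmemS : ∀ x ∈ S, x ∈ SS A T g h := fun x hx => hS ▸ hx
  have hDg : D ≤ L.cj g T := by
    rw [hD]
    refine sup_le (iSup_le fun x => ?_) hpg
    exact (hmemS x.1 x.2).1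
  have hDh : D ≤ L.cj h T := by
    rw [hD]
    refine sup_le (iSup_le fun x => ?_) hph
    exact (hmemS x.1 x.2).2
  have hTg : IsPGroup p (L.cj g T) := L.cj_isPGroup hT.isPGroup
  have h1 := all_le_of_normalizer hTg hD hDg hcon
  have hsub1 : SS A T g g ⊆ S := by
    intro x hx
    rw [hS]
    exact ⟨hx.1, (h1 x hx.1).trans hDh⟩
  have hsub2 : S ⊆ SS A T h h := by
    intro x hx
    rw [hS] at hx
    exact ⟨hx.2, hx.2⟩
  have heq : SS A T g g = SS A T h h :=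
    Set.eq_of_subset_of_ncard_le (hsub1.trans hsub2) (ncard_SS_self A T h g).le (Set.toFinite _)
  have hSg : S = SS A T g g := Set.Subset.antisymm (by rw [heq]; exact hsub2) hsub1
  have hSh : S = SS A T h h := hSg.trans heq
  have hnorm : ∀ k : H, S = SS A T k k → L.cj k T ≤ Subgroup.normalizer (D : Set H) := by
    intro k hk t ht
    rw [mem_normalizer_iff_map]
    refine eq_of_cj_le ?_
    conv_lhs => rw [hD, cj_gen]
    refine sup_le (iSup_le fun x => ?_) (by rw [hD]; exact le_sup_right)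
    have hx : (x : H) ∈ SS A T k k := (Set.ext_iff.1 hk x).1 x.2
    have h3 : L.cj (t * (x : H)) A ≤ L.cj k T := by
      rw [← L.cj_cj, ← L.cj_eq_self_of_mem ht]
      exact L.cj_mono hx.1
    have h4 : t * (x : H) ∈ S := (Set.ext_iff.1 hk _).2 ⟨h3, h3⟩
    rw [hD]
    exact (le_iSup (fun x : S => L.cj (x : H) A) ⟨_, h4⟩).trans le_sup_left
  have hng := hnorm g hSg
  have hnh := hnorm h hSh
  have hntop : Subgroup.normalizer (D : Set H) ≠ ⊤ := by
    intro htop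
    have hDn : D.Normal := Subgroup.normalizer_eq_top_iff.1 htop
    have h5 : D ≤ pCore p H := le_pCore hDn (hTg.to_le hDg)
    have h6 := (h1 g (L.cj_mono hAT)).trans h5
    apply hA
    have h7 : L.cj g (pCore p H) = pCore p H :=
      mem_normalizer_iff_map.1 (le_normalizer_of_normal (A := ⊤) (Subgroup.mem_top g))
    rw [← h7, L.cj_le_cj] at h6
    exact h6
  have h8 := IsMinimalOver.normalizer_le hmin hM hTM hng hntop
  exact hne (IsMinimalOver.cj_eq hmin hM hTM (hnh.trans h8))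

theorem exists_llemma_data (hT : L.SylIn p T ⊤) (hmin : IsMinimalOver T) (hM : IsCoatom M)
    (hTM : T ≤ M) (hAT : A ≤ T) (hA : ¬ A ≤ pCore p H) :
    ∃ (g : H) (D : Subgroup H), A ≤ L.cj g T ∧ D ≤ L.cj g T ∧
      A ≤ Subgroup.normalizer (D : Set H) ∧ pCore p H ≤ D ∧
      ¬ Subgroup.normalizer (D : Set H) ≤ L.cj g M ∧
      (∀ k : H, A ⊔ D ≤ L.cj k M → L.cj k M = L.cj g M) := by
  -- M is not normal
  have hMn : ∃ x : H, L.cj x M ≠ M := by
    by_contra hcon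
    push Not at hcon
    have hn : M.Normal := by
      refine ⟨fun n hn g => ?_⟩
      have h1 : g * n * g⁻¹ ∈ L.cj g M := L.conj_mem_cj hn
      rwa [hcon g] at h1
    have h2 : Subgroup.normalClosure (T : Set H) ≤ M :=
      Subgroup.normalClosure_le_normal (SetLike.coe_subset_coe.2 hTM)
    rw [hmin.1, top_le_iff] at h2
    exact hM.1 h2
  obtain ⟨x, hx⟩ := hMn
  let 𝒮 : Set (H × H) := {q | L.cj q.1 M ≠ L.cj q.2 M}
  obtain ⟨⟨g, h⟩, hgh, hmax⟩ := Set.exists_max_image 𝒮 (fun q => (SS A T q.1 q.2).ncard)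
    (Set.toFinite _) ⟨(x, 1), by
      show L.cj x M ≠ L.cj 1 M
      rwa [L.cj_one]⟩
  have hgh' : L.cj g M ≠ L.cj h M := hgh
  have hmax' : ∀ g' h' : H, L.cj g' M ≠ L.cj h' M →
      (SS A T g' h').ncard ≤ (SS A T g h).ncard := fun g' h' hne => hmax (g', h') hne
  set S := SS A T g h with hS
  set D := (⨆ x : S, L.cj (x : H) A) ⊔ pCore p H with hD
  obtain ⟨b, hb1, hb2, hb3⟩ := llemma_side hT hmin hM hTM hAT hA hgh' hS hD
  obtain ⟨b', hb1', hb2', hb3'⟩ := llemma_side hT hmin hM hTM hAT hA hgh'.symm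
    (S := S) (by rw [hS]; ext x; exact and_comm) hD
  have hmemD : ∀ x ∈ S, L.cj x A ≤ D := fun x hx =>
    (le_iSup (fun x : S => L.cj (x : H) A) ⟨x, hx⟩).trans le_sup_left
  have hDg : D ≤ L.cj g T := by
    rw [hD]
    exact sup_le (iSup_le fun x => x.2.1) (pCore_le_cj hT g)
  have hDh : D ≤ L.cj h T := by
    rw [hD]
    exact sup_le (iSup_le fun x => x.2.2) (pCore_le_cj hT h)
  have hDp : IsPGroup p D := (L.cj_isPGroup hT.isPGroup).to_le hDg
  have hAp : IsPGroup p A := hT.isPGroup.to_le hAT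
  -- the uniqueness property, for both sides
  have key : ∀ (b g : H), L.cj b A ≤ L.cj g T → L.cj b A ≤ Subgroup.normalizer (D : Set H) →
      ¬ L.cj b A ≤ D → D ≤ L.cj g T → ∀ k : H, L.cj b A ⊔ D ≤ L.cj k M → L.cj k M = L.cj g M := by
    intro b g hb1 hb2 hb3 hDg k hk
    obtain ⟨k', hk', e⟩ := exists_cj_sylow hT hTM
      (isPGroup_sup_of_le_normalizer (L.cj_isPGroup hAp) hDp hb2) hk
    by_contra hne
    have h1 := hmax' g k' (by rw [e]; exact fun e' => hne e'.symm)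
    have h2 : insert b S ⊆ SS A T g k' := by
      intro y hy
      rcases hy with rfl | hy
      · exact ⟨hb1, le_sup_left.trans hk'⟩
      · exact ⟨(hmemD y hy).trans hDg, ((hmemD y hy).trans le_sup_right).trans hk'⟩
    have h3 := Set.ncard_le_ncard h2 (Set.toFinite _)
    rw [Set.ncard_insert_of_notMem (fun hbS => hb3 (hmemD b hbS)) (Set.toFinite _)] at h3
    omega
  have hF4 := key b g hb1 hb2 hb3 hDg
  have hF4' := key b' h hb1' hb2' hb3' hDh
  have hb4' : ¬ L.cj b' A ≤ L.cj g M := by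
    intro hle
    exact hgh' (hF4' g (sup_le hle (hDg.trans (L.cj_mono hTM))))
  refine ⟨b⁻¹ * g, L.cj b⁻¹ D, ?_, ?_, ?_, ?_, ?_, ?_⟩
  · exact cj_le_cj_iff_left.1 hb1
  · rw [← L.cj_cj]; exact L.cj_mono hDg
  · have h1 := L.cj_mono (g := b⁻¹) hb2
    rw [L.cj_inv_cj] at h1
    exact h1.trans (L.nz_cj b⁻¹ D).ge
  · have h1 := L.cj_mono (g := b⁻¹) (show pCore p H ≤ D from le_sup_right)
    rwa [show L.cj b⁻¹ (pCore p H) = pCore p H from
      mem_normalizer_iff_map.1 (le_normalizer_of_normal (A := ⊤) (Subgroup.mem_top _))] at h1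
  · intro hle
    have h1 : L.cj b⁻¹ (Subgroup.normalizer (D : Set H)) ≤ L.cj (b⁻¹ * g) M :=
      (L.nz_cj b⁻¹ D).ge.trans hle
    rw [← L.cj_cj, L.cj_le_cj] at h1
    exact hb4' (hb2'.trans h1)
  · intro k hk
    have h1 := L.cj_mono (g := b) hk
    rw [L.cj_sup, L.cj_cj_inv, L.cj_cj] at h1
    have h2 := hF4 (b * k) h1
    rw [← L.cj_cj b k M, L.cj_eq_iff, L.cj_cj] at h2
    exact h2

theorem llemma (hT : L.SylIn p T ⊤) (hmin : IsMinimalOver T) (hM : IsCoatom M)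
    (hTM : T ≤ M) (hAT : A ≤ T) (hA : ¬ A ≤ pCore p H) :
    ∃ L' : Subgroup H, A ⊔ pCore p H ≤ L' ∧ ∃ L₀ : Subgroup H, A ⊔ pCoreOf p L' ≤ L₀ ∧ L₀ < L' ∧
      (∀ X : Subgroup H, A ⊔ pCoreOf p L' ≤ X → X < L' → X ≤ L₀) ∧
      (∃ g : H, L₀ = L' ⊓ L.cj g M) ∧
      ∀ x ∈ L', x ∉ L₀ → (A ⊔ L.cj x A) ⊔ pCoreOf p L' = L' := by
  obtain ⟨g, D, h1, h2, h3, h4, h5, h6⟩ := exists_llemma_data hT hmin hM hTM hAT hA
  have hAp : IsPGroup p A := hT.isPGroup.to_le hAT
  have hDp : IsPGroup p D := (L.cj_isPGroup hT.isPGroup).to_le h2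
  -- minimal choice
  let 𝒮 : Set (Subgroup H) := {X | A ⊔ D ≤ X ∧ X ≤ Subgroup.normalizer (D : Set H) ∧
    ¬ X ≤ L.cj g M}
  obtain ⟨K, hK, hKmin⟩ : ∃ K ∈ 𝒮, ∀ X ∈ 𝒮, Nat.card K ≤ Nat.card X := by
    obtain ⟨K, hK, hKm⟩ := Set.exists_min_image 𝒮 (fun X => Nat.card X) (Set.toFinite _)
      ⟨Subgroup.normalizer (D : Set H), sup_le h3 Subgroup.le_normalizer, le_rfl, h5⟩
    exact ⟨K, hK, hKm⟩
  obtain ⟨hK1, hK2, hK3⟩ := hK
  have hprop : ∀ X : Subgroup H, A ⊔ D ≤ X → X < K → X ≤ L.cj g M := by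
    intro X hX1 hX2
    by_contra hcon
    have := hKmin X ⟨hX1, hX2.le.trans hK2, hcon⟩
    exact absurd (L.card_lt_of_lt hX2) (by omega)
  have hAK : A ≤ K := le_sup_left.trans hK1
  have hDK : D ≤ K := le_sup_right.trans hK1
  have hDO : D ≤ pCoreOf p K := le_pCoreOf hDK hK2 hDp
  have hOK : pCoreOf p K ≤ K := pCoreOf_le K
  have hAO : A ⊔ pCoreOf p K ≤ L.cj g M := by
    have hp : IsPGroup p (A ⊔ pCoreOf p K : Subgroup H) :=
      isPGroup_sup_of_le_normalizer hAp (isPGroup_pCoreOf K) (hAK.trans (le_normalizer_pCoreOf K))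
    obtain ⟨y, -, hy⟩ := hT.exists_conj_le hp le_top
    rw [L.cj_le_iff] at hy
    have h7 : A ⊔ pCoreOf p K ≤ L.cj y⁻¹ M := hy.trans (L.cj_mono hTM)
    rw [← h6 y⁻¹ ((sup_le_sup_left hDO A).trans h7)]
    exact h7
  refine ⟨K, sup_le hAK (h4.trans hDK), K ⊓ L.cj g M, le_inf (sup_le hAK hOK) hAO, ?_, ?_,
    ⟨g, rfl⟩, ?_⟩
  · exact lt_of_le_of_ne inf_le_left fun e => hK3 (by rw [← e]; exact inf_le_right)
  · intro X hX1 hX2
    exact le_inf hX2.le (hprop X ((sup_le_sup_left hDO A).trans hX1) hX2)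
  · intro x hxK hxn
    by_contra hne
    have hle : (A ⊔ L.cj x A) ⊔ pCoreOf p K ≤ K := by
      refine sup_le (sup_le hAK ?_) hOK
      have := L.cj_mono (g := x) hAK
      rwa [L.cj_eq_self_of_mem hxK] at this
    have h7 := hprop _ (sup_le (le_sup_left.trans le_sup_left) (hDO.trans le_sup_right))
      (lt_of_le_of_ne hle hne)
    have h8 : L.cj x (A ⊔ D) ≤ L.cj g M := by
      rw [L.cj_sup, show L.cj x D = D from mem_normalizer_iff_map.1 (hK2 hxK)]
      exact sup_le ((le_sup_right.trans le_sup_left).trans h7) ((hDO.trans le_sup_right).trans h7)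
    rw [cj_le_cj_iff_left] at h8
    have h9 := h6 _ h8
    -- x normalizes M^g
    apply hxn
    refine Subgroup.mem_inf.2 ⟨hxK, ?_⟩
    have h10 : L.cj x⁻¹ (L.cj g M) = L.cj g M := by rw [L.cj_cj]; exact h9
    have h11 : L.cj (g⁻¹ * x⁻¹ * g) M = M := by
      rw [← L.cj_cj, ← L.cj_cj, h10, L.cj_inv_cj]
    -- M is self-normalizing
    have h12 : g⁻¹ * x⁻¹ * g ∈ M := by
      have h13 : g⁻¹ * x⁻¹ * g ∈ Subgroup.normalizer (M : Set H) := mem_normalizer_iff_map.2 h11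
      have h14 : Subgroup.normalizer (M : Set H) = M := by
        rcases hM.le_iff.1 (Subgroup.le_normalizer (H := M)) with h | h
        · exfalso
          have hn : M.Normal := Subgroup.normalizer_eq_top_iff.1 h
          have h2 : Subgroup.normalClosure (T : Set H) ≤ M :=
            Subgroup.normalClosure_le_normal (SetLike.coe_subset_coe.2 hTM)
          rw [hmin.1, top_le_iff] at h2
          exact hM.1 h2
        · exact h
      rwa [h14] at h13
    rw [L.mem_cj]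
    have := inv_mem h12
    simpa [mul_assoc] using this

end Main

end Cfsg.Agent.H18
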