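import Cfsg.Agent.H18.MaxSub1
import Cfsg.Agent.H23.Coprime

/-!
# Bender's maximal subgroup theorem: invariant `q`-subgroups (helper18)
-/

set_option autoImplicit false
set_option linter.style.haveILetI false
open Cfsg
open scoped commutatorElement

namespace Cfsg.Agent.H18

open Cfsg.Agent.H10

variable {G : Type*} [Group G]

/-- `C_H(F(H)) ∩ R ≤ F(H)` for `R` solvable normalized by `C_H(F(H))`. -/
theorem inf_le_cF [Finite G] {H R : Subgroup G} (hR : Group.IsSolvable R)
    (hXR : H ⊓ Subgroup.centralizer (cF H : Set G) ≤ Subgroup.normalizer (R : Set G)) :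
    H ⊓ Subgroup.centralizer (cF H : Set G) ⊓ R ≤ cF H := by
  set X := H ⊓ Subgroup.centralizer (cF H : Set G) with hX
  set Y := X ⊓ R with hY
  have hYs : Group.IsSolvable Y := isSolvable_of_le inf_le_right hR
  have hXn : H ≤ Subgroup.normalizer (X : Set G) := by
    refine inf_le_normalizer_inf Subgroup.le_normalizer ?_
    exact (le_nz_cF H).trans (normalizer_le_normalizer_centralizer _)
  have hYn : X ≤ Subgroup.normalizer (Y : Set G) :=
    inf_le_normalizer_inf Subgroup.le_normalizer hXR
  have h1 : SubnIn Y H := (subnIn_of_normal inf_le_left hYn).trans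
    (subnIn_of_normal inf_le_left hXn)
  have h2 : SubnIn (cF Y) H := (subnIn_of_normal (cF_le Y) (le_nz_cF Y)).trans h1
  have h3 : cF Y ≤ cF H := le_cF_of_subnIn h2 (cF_isNilpotent Y)
  have h4 : Y ≤ Subgroup.centralizer (cF Y : Set G) := by
    refine le_trans ?_ (Subgroup.centralizer_le h3)
    exact (inf_le_left : Y ≤ X).trans inf_le_right
  exact ((le_inf h4 le_rfl).trans (centralizer_cF_le hYs)).trans h3

theorem inf_bot_of_coprime [Finite G] {A B : Subgroup G}
    (h : Nat.Coprime (Nat.card A) (Nat.card B)) : A ⊓ B = ⊥ := H23.inf_eq_bot_of_coprime h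

/-- an `M`-invariant `π'`-subgroup of `R` has no fixed points under `M_r`. -/
theorem fix_bot [Finite G] {H M R V : Subgroup G} (hM : M ≤ cF H)
    (hCM : cF H ⊓ Subgroup.centralizer (M : Set G) ≤ M)
    (hR : Group.IsSolvable R)
    (hXR : H ⊓ Subgroup.centralizer (cF H : Set G) ≤ Subgroup.normalizer (R : Set G))
    (hVR : V ≤ R) (hMV : M ≤ Subgroup.normalizer (V : Set G))
    (hcop : Nat.Coprime (Nat.card V) (Nat.card (cF H))) {r : ℕ} (hr : r.Prime)
    (hN : Subgroup.normalizer (zO r H : Set G) ≤ H) :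
    V ⊓ Subgroup.centralizer ((M ⊓ cO r H : Subgroup G) : Set G) = ⊥ := by
  have hZM : cF H ⊓ Subgroup.centralizer (cF H : Set G) ≤ M :=
    (inf_le_inf le_rfl (Subgroup.centralizer_le hM)).trans hCM
  set D := V ⊓ Subgroup.centralizer ((M ⊓ cO r H : Subgroup G) : Set G) with hD
  have hDH : D ≤ H := inf_le_right.trans (centralizer_le_H hr hZM hN)
  have hVF : V ⊓ cF H = ⊥ := inf_bot_of_coprime hcop
  have hDM : ⁅D, M⁆ = ⊥ := by
    rw [← le_bot_iff, ← hVF]
    refine le_inf ?_ (comm_le_right (hDH.trans (le_nz_cF H)) hM)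
    exact (Subgroup.commutator_mono inf_le_left le_rfl).trans
      (H23.commutator_le_of_le_normalizer hMV)
  have hDMc : M ≤ Subgroup.centralizer (D : Set G) := by
    rw [← Subgroup.commutator_eq_bot_iff_le_centralizer, Subgroup.commutator_comm]; exact hDM
  have hDF : cF H ≤ Subgroup.centralizer (D : Set G) := by
    apply cF_le_of_cO
    intro p hp
    haveI : Fact p.Prime := ⟨hp⟩
    by_cases h0 : cO p H = ⊥
    · rw [h0]; exact bot_le
    rw [← Subgroup.commutator_eq_bot_iff_le_centralizer]
    have hDp : (Nat.card D).Coprime p := by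
      have h1 : Nat.Coprime (Nat.card D) (Nat.card (cF H)) :=
        Nat.Coprime.coprime_dvd_left (Subgroup.card_dvd_of_le inf_le_left) hcop
      exact Nat.Coprime.coprime_dvd_right ((dvd_card_cF_iff hp).2 h0) h1
    refine axb_coprime (B := M ⊓ cO p H) ?_ ((cO_isPGroup p H).to_le inf_le_right) hDp
      (cO_isPGroup p H) (hDH.trans (le_nz_cO p H))
      ((inf_le_right.trans (cO_le p H)).trans (le_nz_cO p H)) ?_
    · rw [← le_bot_iff, ← hDM]
      exact Subgroup.commutator_mono le_rfl inf_le_left
    · have h2 : cO p H ⊓ Subgroup.centralizer ((M ⊓ cO p H : Subgroup G) : Set G) ≤ M := by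
        refine le_trans (le_inf (inf_le_left.trans (cO_le_cF p H)) ?_) hCM
        rw [Subgroup.le_centralizer_iff]
        apply le_of_inf_cO hM
        intro q hq
        rw [Subgroup.le_centralizer_iff]
        by_cases hqp : q = p
        · subst hqp; exact inf_le_right
        · refine le_trans inf_le_left (le_trans ?_ (Subgroup.centralizer_le
            (inf_le_right : M ⊓ cO q H ≤ cO q H)))
          rw [← Subgroup.commutator_eq_bot_iff_le_centralizer]
          exact cO_comm hp hq (Ne.symm hqp) H
      rw [← le_bot_iff, ← hDM, Subgroup.commutator_comm D M]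
      exact Subgroup.commutator_mono h2 le_rfl
  rw [eq_bot_iff, ← hVF]
  refine le_inf inf_le_left ?_
  refine le_trans (le_inf (le_inf hDH ?_) (inf_le_left.trans hVR)) (inf_le_cF hR hXR)
  rwa [Subgroup.le_centralizer_iff]

end Cfsg.Agent.H18
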