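import Cfsg.Agent.H18.MaxSub2
import Cfsg.Agent.OOT.Base
import Cfsg.Agent.H2.Basic

/-!
# Bender's maximal subgroup theorem: invariant `q`-subgroups (helper18)
-/

set_option autoImplicit false
set_option linter.style.haveILetI false
open Cfsg
open scoped commutatorElement

namespace Cfsg.Agent.H18

open Cfsg.Agent.H10

variable {G : Type*} [Group G]

theorem coprime_of_isPiSub [Finite G] {V : Subgroup G} {n : ℕ}
    (h : H14.IsPiSub (primesNotDvd n) V) : Nat.Coprime (Nat.card V) n := by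
  rw [Nat.coprime_iff_gcd_eq_one]
  by_contra hne
  obtain ⟨p, hp, hpd⟩ := Nat.exists_prime_and_dvd hne
  exact (h p hp (hpd.trans (Nat.gcd_dvd_left _ _))).2 (hpd.trans (Nat.gcd_dvd_right _ _))

theorem isPiSub_of_pgroup [Finite G] {V : Subgroup G} {n q : ℕ} (hq : q.Prime) (hV : IsPGroup q V)
    (hn : ¬ q ∣ n) : H14.IsPiSub (primesNotDvd n) V := by
  haveI : Fact q.Prime := ⟨hq⟩
  intro p hp hd
  obtain ⟨k, hk⟩ := IsPGroup.iff_card.1 hV
  rw [hk] at hd
  have h1 : p = q := (Nat.prime_dvd_prime_iff_eq hp hq).1 (hp.dvd_of_dvd_pow hd)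
  rw [h1]
  exact ⟨hq, hn⟩

theorem le_normalizer_map_sub {K : Subgroup G} {C : Subgroup K} (hC : C.Normal) :
    K ≤ Subgroup.normalizer ((C.map K.subtype : Subgroup G) : Set G) := by
  refine H23.le_normalizer_of_conj_mem ?_
  rintro k hk _ ⟨c, hc, rfl⟩
  exact ⟨⟨k, hk⟩ * c * ⟨k, hk⟩⁻¹, hC.conj_mem c hc _, rfl⟩

theorem q_le_core [Finite G] {H M R : Subgroup G} (hM : M ≤ cF H)
    (hCM : cF H ⊓ Subgroup.centralizer (M : Set G) ≤ M)
    (hF2 : 2 ≤ (Nat.card (cF H)).primeFactors.card)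
    (hN : ∀ p : ℕ, p.Prime → cO p H ≠ ⊥ → Subgroup.normalizer (zO p H : Set G) ≤ H)
    (hR : Group.IsSolvable R) (hMR : M ≤ Subgroup.normalizer (R : Set G))
    (hXR : H ⊓ Subgroup.centralizer (cF H : Set G) ≤ Subgroup.normalizer (R : Set G))
    {q : ℕ} (hq : q.Prime) (hqF : ¬ q ∣ Nat.card (cF H)) {Q : Subgroup G} (hQR : Q ≤ R)
    (hQ : IsPGroup q Q) (hMQ : M ≤ Subgroup.normalizer (Q : Set G)) :
    Q ≤ piCoreOf (primesNotDvd (Nat.card (cF H))) R := by
  classical
  haveI : Fact q.Prime := ⟨hq⟩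
  have hZM : cF H ⊓ Subgroup.centralizer (cF H : Set G) ≤ M :=
    (inf_le_inf le_rfl (Subgroup.centralizer_le hM)).trans hCM
  have hMnil : Group.IsNilpotent M := isNilpotent_of_le hM (cF_isNilpotent H)
  set n := Nat.card (cF H) with hn
  set U := piCoreOf (primesNotDvd n) R with hU
  have hUR : U ≤ R := OOT.piCoreOf_le _ _
  have hUpi : H14.IsPiSub (primesNotDvd n) U := OOT.isPiSub_piCoreOf _ _
  have hUcop : Nat.Coprime (Nat.card U) n := coprime_of_isPiSub hUpi
  have hRU : R ≤ Subgroup.normalizer (U : Set G) := OOT.le_normalizer_piCoreOf _ _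
  have hMU : M ≤ Subgroup.normalizer (U : Set G) :=
    hMR.trans (OOT.normalizer_le_normalizer_piCoreOf _ _)
  set K := R ⊔ M with hK
  have hRK : R ≤ K := le_sup_left
  have hMK : M ≤ K := le_sup_right
  have hUK : U ≤ K := hUR.trans hRK
  have hKU : K ≤ Subgroup.normalizer (U : Set G) := sup_le hRU hMU
  have hKR : K ≤ Subgroup.normalizer (R : Set G) := sup_le Subgroup.le_normalizer hMR
  set U' := U.subgroupOf K with hU'
  haveI hUn : U'.Normal := Subgroup.normal_subgroupOf_of_le_normalizer hKU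
  set mk := QuotientGroup.mk' U' with hmk
  have hmks : Function.Surjective mk := QuotientGroup.mk'_surjective U'
  haveI hRn : (R.subgroupOf K).Normal := Subgroup.normal_subgroupOf_of_le_normalizer hKR
  set Rb := (R.subgroupOf K).map mk with hRb
  haveI hRbn : Rb.Normal := hRn.map mk hmks
  have hRbs : Group.IsSolvable Rb := by
    haveI := isSolvable_subgroupOf (K := K) hR
    exact Group.isSolvable_of_surjective (f := mk.subgroupMap (R.subgroupOf K))
      (mk.subgroupMap_surjective _)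
  -- the radical of the quotient
  have hWn : ∀ p : ℕ, (cO p Rb).Normal := by
    intro p
    rw [← Subgroup.normalizer_eq_top_iff, eq_top_iff]
    have h1 := le_normalizer_cO p Rb
    rw [Subgroup.normalizer_eq_top_iff.2 hRbn] at h1
    exact h1
  -- preimages
  have hWG : ∀ p : ℕ, ((cO p Rb).comap mk).map K.subtype ≤ R := by
    rintro p _ ⟨w, hw, rfl⟩
    have h1 : mk w ∈ Rb := cO_le p Rb hw
    obtain ⟨r, hr, hrw⟩ := h1
    have h2 : r⁻¹ * w ∈ U' := by
      rw [← QuotientGroup.eq]; exact hrw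
    have h3 : ((r⁻¹ * w : K) : G) ∈ U := Subgroup.mem_subgroupOf.1 h2
    have h4 : (w : G) = r * ((r⁻¹ * w : K) : G) := by push_cast; group
    show (w : G) ∈ R
    rw [h4]
    exact mul_mem (Subgroup.mem_subgroupOf.1 hr) (hUR h3)
  -- the `π'` primes
  have hW0 : ∀ p : ℕ, p.Prime → ¬ p ∣ n → cO p Rb = ⊥ := by
    intro p hp hpn
    haveI : Fact p.Prime := ⟨hp⟩
    have hWcn : ((cO p Rb).comap mk).Normal := (hWn p).comap mk
    have h1 : ((cO p Rb).comap mk).map K.subtype ≤ U := by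
      apply OOT.le_piCoreOf (hWG p) (hRK.trans (le_normalizer_map_sub hWcn))
      intro r hr hrd
      rw [H1.card_map_subtype, H2.card_comap_mk'] at hrd
      rcases hr.dvd_mul.1 hrd with h | h
      · exact isPiSub_of_pgroup hp (cO_isPGroup p Rb) hpn r hr h
      · rw [H1.card_subgroupOf hUK] at h
        exact hUpi r hr h
    rw [eq_bot_iff]
    intro x hx
    obtain ⟨w, rfl⟩ := hmks x
    have h2 : (w : G) ∈ U := h1 ⟨w, hx, rfl⟩
    exact (QuotientGroup.eq_one_iff w).2 (Subgroup.mem_subgroupOf.2 h2)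
  -- the main claim
  have key : ∀ p r : ℕ, p.Prime → r.Prime → p ≠ r → p ∣ n → r ∣ n →
      ⁅cO p Rb, ((M ⊓ cO r H).subgroupOf K).map mk⁆ = ⊥ := by
    intro p r hp hr hpr hpn hrn
    haveI : Fact p.Prime := ⟨hp⟩
    haveI : Fact r.Prime := ⟨hr⟩
    have hcp : cO p H ≠ ⊥ := (dvd_card_cF_iff hp).1 hpn
    have hcr : cO r H ≠ ⊥ := (dvd_card_cF_iff hr).1 hrn
    have hMpK : M ⊓ cO p H ≤ K := inf_le_left.trans hMK
    have hMrK : M ⊓ cO r H ≤ K := inf_le_left.trans hMK
    have hMpp : IsPGroup p (M ⊓ cO p H : Subgroup G) := (cO_isPGroup p H).to_le inf_le_right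
    have hMrr : IsPGroup r (M ⊓ cO r H : Subgroup G) := (cO_isPGroup r H).to_le inf_le_right
    have hcomm : ⁅M ⊓ cO r H, M ⊓ cO p H⁆ = ⊥ := by
      rw [← le_bot_iff, ← cO_comm hr hp hpr.symm H]
      exact Subgroup.commutator_mono inf_le_right inf_le_right
    have hAB : ⁅((M ⊓ cO r H).subgroupOf K).map mk, ((M ⊓ cO p H).subgroupOf K).map mk⁆ = ⊥ := by
      rw [← Subgroup.map_commutator]
      have h1 : ⁅(M ⊓ cO r H).subgroupOf K, (M ⊓ cO p H).subgroupOf K⁆ = ⊥ := by
        rw [← (Subgroup.map_eq_bot_iff_of_injective _ K.subtype_injective), Subgroup.map_commutator,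
          Subgroup.map_subgroupOf_eq_of_le hMrK, Subgroup.map_subgroupOf_eq_of_le hMpK, hcomm]
      rw [h1, Subgroup.map_bot]
    have hpB : IsPGroup p (((M ⊓ cO p H).subgroupOf K).map mk) :=
      (isPGroup_subgroupOf hMpp).map _
    have hrA : IsPGroup r (((M ⊓ cO r H).subgroupOf K).map mk) :=
      (isPGroup_subgroupOf hMrr).map _
    have hcopA : (Nat.card (((M ⊓ cO r H).subgroupOf K).map mk)).Coprime p := by
      obtain ⟨k, hk⟩ := IsPGroup.iff_card.1 hrA
      rw [hk]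
      exact Nat.Coprime.pow_left k ((Nat.coprime_primes hr hp).2 hpr.symm)
    have hnorm : ∀ X : Subgroup (K ⧸ U'), X ≤ Subgroup.normalizer ((cO p Rb : Subgroup _) : Set _) := by
      intro X
      rw [Subgroup.normalizer_eq_top_iff.2 (hWn p)]; exact le_top
    refine axb_coprime hAB hpB hcopA (cO_isPGroup p Rb) (hnorm _) (hnorm _) ?_
    -- the fixed points
    set E : Subgroup G := ((cO p Rb).comap mk).map K.subtype ⊓
      Subgroup.centralizer ((M ⊓ cO p H : Subgroup G) : Set G) with hE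
    have hER : E ≤ R := inf_le_left.trans (hWG p)
    have hEH : E ≤ H := inf_le_right.trans (centralizer_le_H hp hZM (hN p hp hcp))
    have hEU : E ⊓ U = ⊥ := by
      rw [eq_bot_iff, ← fix_bot hM hCM hR hXR hUR hMU hUcop hp (hN p hp hcp)]
      exact le_inf inf_le_right (inf_le_left.trans inf_le_right)
    have hEp : IsPGroup p E := by
      have hEK : E ≤ K := hER.trans hRK
      let f : E →* cO p Rb := (mk.comp (Subgroup.inclusion hEK)).codRestrict (cO p Rb) (by
        rintro ⟨x, hx⟩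
        obtain ⟨w, hw, hwx⟩ := (Subgroup.mem_inf.1 hx).1
        have : Subgroup.inclusion hEK ⟨x, hx⟩ = w := Subtype.ext hwx.symm
        show mk (Subgroup.inclusion hEK ⟨x, hx⟩) ∈ cO p Rb
        rw [this]; exact hw)
      refine (cO_isPGroup p Rb).of_injective f ?_
      rw [injective_iff_map_eq_one]
      rintro ⟨x, hx⟩ h1
      have h2 : mk (Subgroup.inclusion hEK ⟨x, hx⟩) = 1 := congrArg Subtype.val h1
      have h3 : Subgroup.inclusion hEK ⟨x, hx⟩ ∈ U' := (QuotientGroup.eq_one_iff _).1 h2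
      have h4 : x ∈ E ⊓ U := Subgroup.mem_inf.2 ⟨hx, Subgroup.mem_subgroupOf.1 h3⟩
      rw [hEU, Subgroup.mem_bot] at h4
      exact Subtype.ext h4
    have hEr : ⁅E, M ⊓ cO r H⁆ = ⊥ := by
      have hrE : M ⊓ cO r H ≤ Subgroup.normalizer (E : Set G) := by
        refine inf_le_normalizer_inf ?_ ?_
        · exact hMrK.trans (le_normalizer_map_sub ((hWn p).comap mk))
        · refine le_trans ?_ (normalizer_le_normalizer_centralizer _)
          refine le_trans ?_ (Subgroup.centralizer_le_normalizer _)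
          rwa [← Subgroup.commutator_eq_bot_iff_le_centralizer]
      rw [← le_bot_iff, ← eq_bot_of_isPGroup_inf hpr hEp (cO_isPGroup r H)]
      refine le_inf (H23.commutator_le_of_le_normalizer hrE) ?_
      exact comm_le_right (hEH.trans (le_nz_cO r H)) inf_le_right
    rw [Subgroup.commutator_eq_bot_iff_le_centralizer]
    rintro x hx
    obtain ⟨hx1, hx2⟩ := Subgroup.mem_inf.1 hx
    obtain ⟨w, rfl⟩ := hmks x
    rw [Subgroup.mem_centralizer_iff] at hx2 ⊢
    -- lift
    have hlift : ∃ u ∈ U, (w : G) * u ∈ Subgroup.centralizer ((M ⊓ cO p H : Subgroup G) : Set G) := by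
      apply H23.exists_mem_coset_centralizer ((inf_le_left : M ⊓ cO p H ≤ M).trans hMU)
      · obtain ⟨k, hk⟩ := IsPGroup.iff_card.1 hMpp
        rw [hk]
        exact Nat.Coprime.pow_left k (Nat.Coprime.coprime_dvd_right hpn hUcop).symm
      · exact Or.inr (isSolvable_of_le hUR hR)
      · intro a ha
        have h1 := hx2 (mk ⟨a, hMpK ha⟩) ⟨⟨a, hMpK ha⟩, Subgroup.mem_subgroupOf.2 ha, rfl⟩
        have h2 : w⁻¹ * ⟨a, hMpK ha⟩ * w * (⟨a, hMpK ha⟩ : K)⁻¹ ∈ U' := by
          rw [← QuotientGroup.eq_one_iff]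
          show mk (w⁻¹ * ⟨a, hMpK ha⟩ * w * (⟨a, hMpK ha⟩ : K)⁻¹) = 1
          rw [map_mul, map_mul, map_mul, map_inv, map_inv, mul_assoc, mul_assoc,
            ← mul_assoc (mk ⟨a, hMpK ha⟩), h1]
          group
        exact Subgroup.mem_subgroupOf.1 h2
    obtain ⟨u, hu, hwu⟩ := hlift
    have hmku : mk ⟨u, hUK hu⟩ = 1 := (QuotientGroup.eq_one_iff _).2 (Subgroup.mem_subgroupOf.2 hu)
    have hwuE : (w : G) * u ∈ E := by
      refine Subgroup.mem_inf.2 ⟨⟨w * ⟨u, hUK hu⟩, ?_, rfl⟩, hwu⟩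
      show mk (w * ⟨u, hUK hu⟩) ∈ cO p Rb
      rw [map_mul, hmku, mul_one]
      exact hx1
    rintro _ ⟨a, ha, rfl⟩
    have ha' : (a : G) ∈ M ⊓ cO r H := Subgroup.mem_subgroupOf.1 ha
    rw [Subgroup.commutator_eq_bot_iff_le_centralizer] at hEr
    have h5 := Subgroup.mem_centralizer_iff.1 (hEr hwuE) a ha'
    have h6 : a * (w * ⟨u, hUK hu⟩) = (w * ⟨u, hUK hu⟩) * a := Subtype.ext h5
    have h7 := congrArg mk h6
    rw [map_mul, map_mul, map_mul, map_mul, hmku, mul_one] at h7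
    exact h7
  -- `Q` centralizes everything
  have hQcop : Nat.Coprime (Nat.card Q) n := coprime_of_isPiSub (isPiSub_of_pgroup hq hQ hqF)
  have hQK : Q ≤ K := hQR.trans hRK
  have hQc : (Q.subgroupOf K).map mk ≤ Subgroup.centralizer (cF Rb : Set (K ⧸ U')) := by
    rw [Subgroup.le_centralizer_iff]
    apply cF_le_of_cO
    intro p hp
    by_cases hpn : p ∣ n
    · obtain ⟨r, hr, hrn, hrp⟩ := exists_other_prime (p := p) hF2
      have hk := key p r hp hr hrp.symm hpn hrn
      rw [Subgroup.commutator_comm, Subgroup.commutator_eq_bot_iff_le_centralizer] at hk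
      haveI : (cO p Rb).Normal := hWn p
      have hCn : ((Subgroup.centralizer (cO p Rb : Set (K ⧸ U'))).comap mk).Normal := inferInstance
      set C := ((Subgroup.centralizer (cO p Rb : Set (K ⧸ U'))).comap mk).map K.subtype with hC
      have hKC : K ≤ Subgroup.normalizer (C : Set G) := le_normalizer_map_sub hCn
      have hMrC : M ⊓ cO r H ≤ C := by
        intro x hx
        exact ⟨⟨x, hMK (Subgroup.mem_inf.1 hx).1⟩,
          hk ⟨⟨x, hMK (Subgroup.mem_inf.1 hx).1⟩, Subgroup.mem_subgroupOf.2 hx, rfl⟩, rfl⟩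
      have h1 : ⁅Q, M ⊓ cO r H⁆ ≤ C := comm_le_right (hQK.trans hKC) hMrC
      haveI : Fact r.Prime := ⟨hr⟩
      have hMrr : IsPGroup r (M ⊓ cO r H : Subgroup G) := (cO_isPGroup r H).to_le inf_le_right
      have h2 := H23.commutator_sup_centralizer (A := M ⊓ cO r H) (G := Q)
        ((inf_le_left : M ⊓ cO r H ≤ M).trans hMQ) (by
          obtain ⟨k, hk⟩ := IsPGroup.iff_card.1 hMrr
          rw [hk]
          exact Nat.Coprime.pow_left k (Nat.Coprime.coprime_dvd_right hrn hQcop).symm)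
        (Or.inr (isSolvable_of_le hQR hR))
      rw [fix_bot hM hCM hR hXR hQR hMQ hQcop hr (hN r hr ((dvd_card_cF_iff hr).1 hrn)),
        sup_bot_eq] at h2
      rw [h2] at h1
      rw [Subgroup.le_centralizer_iff]
      rintro _ ⟨x, hx, rfl⟩
      obtain ⟨y, hy, hyx⟩ := h1 (Subgroup.mem_subgroupOf.1 hx)
      have : y = x := Subtype.ext hyx
      rw [← this]; exact hy
    · rw [hW0 p hp hpn]; exact bot_le
  have hQRb : (Q.subgroupOf K).map mk ≤ Rb := by
    apply Subgroup.map_mono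
    intro x hx
    exact Subgroup.mem_subgroupOf.2 (hQR (Subgroup.mem_subgroupOf.1 hx))
  have hQF : (Q.subgroupOf K).map mk ≤ cF Rb := (le_inf hQc hQRb).trans (centralizer_cF_le hRbs)
  have hQp : IsPGroup q ((Q.subgroupOf K).map mk) := (isPGroup_subgroupOf hQ).map _
  intro x hx
  have h1 : mk ⟨x, hQK hx⟩ ∈ (Q.subgroupOf K).map mk := ⟨_, Subgroup.mem_subgroupOf.2 hx, rfl⟩
  have h2 : mk ⟨x, hQK hx⟩ ∈ cO q Rb :=
    mem_cO_of_mem_cF hq (hQF h1) (H23.isPGroup_zpowers_of_mem hQp h1)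
  rw [hW0 q hq hqF, Subgroup.mem_bot] at h2
  exact Subgroup.mem_subgroupOf.1 ((QuotientGroup.eq_one_iff _).1 h2)

end Cfsg.Agent.H18
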