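import Cfsg.Agent.H1.Part
import Cfsg.Agent.H18.PRes

set_option autoImplicit false
set_option linter.unusedSectionVars false
set_option linter.style.haveILetI false
set_option linter.unusedVariables false

/-! Minimal covers by nilpotent subgroups and abelian Sylow subgroups. -/

namespace Cfsg.Agent.H18.NilCover

open Subgroup
open scoped Pointwise

variable {G : Type*} [Group G] [Finite G]

/-- minimal cover -/
def MinCover (𝓐 : Finset (Subgroup G)) : Prop :=
  ((∀ A ∈ 𝓐, A ≠ ⊤) ∧ (∀ g : G, ∃ A ∈ 𝓐, g ∈ A)) ∧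
    (∀ 𝓑 : Finset (Subgroup G), (∀ A ∈ 𝓑, A ≠ ⊤) ∧ (∀ g : G, ∃ A ∈ 𝓑, g ∈ A) → 𝓐.card ≤ 𝓑.card)

/-- two members of a minimal cover generate the group -/
theorem not_two {𝓐 : Finset (Subgroup G)} (h : MinCover 𝓐) {A A' H : Subgroup G} (hA : A ∈ 𝓐) (hA' : A' ∈ 𝓐)
    (hne : A ≠ A') (hH : H ≠ ⊤) (h1 : A ≤ H) (h2 : A' ≤ H) : False := by
  classical
  have h3 := h.2 (insert H ((𝓐.erase A).erase A')) ⟨?_, ?_⟩
  · have h4 : A' ∈ 𝓐.erase A := Finset.mem_erase.mpr ⟨hne.symm, hA'⟩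
    have h5 := Finset.card_erase_add_one h4
    have h6 := Finset.card_erase_add_one hA
    have h7 := Finset.card_insert_le H ((𝓐.erase A).erase A')
    omega
  · intro B hB
    rcases Finset.mem_insert.mp hB with rfl | hB
    · exact hH
    · exact h.1.1 B (Finset.mem_of_mem_erase (Finset.mem_of_mem_erase hB))
  · intro g
    obtain ⟨B, hB, hg⟩ := h.1.2 g
    by_cases hBA : B = A
    · exact ⟨H, Finset.mem_insert_self _ _, h1 (hBA ▸ hg)⟩
    by_cases hBA' : B = A'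
    · exact ⟨H, Finset.mem_insert_self _ _, h2 (hBA' ▸ hg)⟩
    exact ⟨B, Finset.mem_insert_of_mem (Finset.mem_erase.mpr ⟨hBA', Finset.mem_erase.mpr ⟨hBA, hB⟩⟩), hg⟩

variable {p : ℕ} [hp : Fact p.Prime]

/-- `p`-elements commute inside `p`-subgroups -/
theorem comm_of (P : Sylow p G) (hab : ∀ x ∈ (P : Subgroup G), ∀ y ∈ (P : Subgroup G), x * y = y * x)
    {Q : Subgroup G} (hQ : IsPGroup p Q) {x y : G} (hx : x ∈ Q) (hy : y ∈ Q) : x * y = y * x := by
  obtain ⟨R, hR⟩ := hQ.exists_le_sylow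
  obtain ⟨g, hg⟩ := MulAction.exists_smul_eq G P R
  have key : ∀ z ∈ Q, g⁻¹ * z * g ∈ (P : Subgroup G) := by
    intro z hz
    have h1 : z ∈ ((g • P : Sylow p G) : Subgroup G) := by rw [hg]; exact hR hz
    rw [Sylow.smul_def, Sylow.pointwise_smul_def, Subgroup.mem_pointwise_smul_iff_inv_smul_mem] at h1
    simpa [← map_inv, MulAut.smul_def, MulAut.conj_apply] using h1
  have h2 := hab _ (key x hx) _ (key y hy)
  have h3 : g⁻¹ * (x * y) * g = g⁻¹ * (y * x) * g := by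
    calc g⁻¹ * (x * y) * g = (g⁻¹ * x * g) * (g⁻¹ * y * g) := by group
      _ = (g⁻¹ * y * g) * (g⁻¹ * x * g) := h2
      _ = _ := by group
  exact mul_left_cancel (mul_right_cancel h3)

theorem isPGroup_zpowers {x : G} {k : ℕ} (h : x ^ p ^ k = 1) : IsPGroup p (zpowers x) := by
  intro y
  obtain ⟨z, hz⟩ := y
  obtain ⟨n, rfl⟩ := mem_zpowers_iff.mp hz
  refine ⟨k, Subtype.ext ?_⟩
  change (x ^ n) ^ p ^ k = 1
  rw [← zpow_natCast, ← zpow_mul, mul_comm, zpow_mul, zpow_natCast, h, one_zpow]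

/-- nilpotent subgroups centralize their `p`-elements -/
theorem le_cent (P : Sylow p G) (hab : ∀ x ∈ (P : Subgroup G), ∀ y ∈ (P : Subgroup G), x * y = y * x)
    {A : Subgroup G} (hA : Group.IsNilpotent A) {x : G} (hx : x ∈ A) {k : ℕ} (hk : x ^ p ^ k = 1) :
    A ≤ centralizer ({x} : Set G) := by
  have hxp : x ∈ H1.part p A := H1.le_part hA (zpowers_le.mpr hx) (isPGroup_zpowers hk) (mem_zpowers x)
  apply H1.le_of_part_le hA
  intro q hq hqd
  by_cases hqp : q = p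
  · subst hqp
    intro a ha
    rw [Subgroup.mem_centralizer_singleton_iff]
    exact comm_of P hab (H1.part_isPGroup q A) ha hxp
  · intro a ha
    rw [Subgroup.mem_centralizer_singleton_iff]
    have h2 := H1.part_le_centralizer_part (p := p) (q := q) (A := A) (Ne.symm hqp) ha
    exact (Subgroup.mem_centralizer_iff.mp h2 x hxp).symm

theorem unique (hZ : center G = ⊥) {𝓐 : Finset (Subgroup G)} (h : MinCover 𝓐) (hn : ∀ A ∈ 𝓐, Group.IsNilpotent ↥A)
    (P : Sylow p G) (hab : ∀ x ∈ (P : Subgroup G), ∀ y ∈ (P : Subgroup G), x * y = y * x)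
    {A A' : Subgroup G} (hA : A ∈ 𝓐) (hA' : A' ∈ 𝓐) {x : G} (hx1 : x ≠ 1) {k : ℕ} (hk : x ^ p ^ k = 1)
    (hx : x ∈ A) (hx' : x ∈ A') : A = A' := by
  by_contra hne
  refine not_two h hA hA' hne (H := centralizer ({x} : Set G)) ?_ (le_cent P hab (hn A hA) hx hk)
    (le_cent P hab (hn A' hA') hx' hk)
  intro htop
  apply hx1
  rw [← Subgroup.mem_bot, ← hZ, Subgroup.mem_center_iff]
  intro g
  have : g ∈ centralizer ({x} : Set G) := by rw [htop]; trivial
  exact mem_centralizer_singleton_iff.mp this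

/-- the Sylow condition -/
def Cond (p : ℕ) (P : Subgroup G) : Prop := (∃ x ∈ P, x ^ p ≠ 1) ∨ (∃ g ∈ P, P ≤ zpowers g)

theorem exists_le (hZ : center G = ⊥) {𝓐 : Finset (Subgroup G)} (h : MinCover 𝓐) (hn : ∀ A ∈ 𝓐, Group.IsNilpotent ↥A)
    (P : Sylow p G) (hab : ∀ x ∈ (P : Subgroup G), ∀ y ∈ (P : Subgroup G), x * y = y * x)
    (hC : Cond p (P : Subgroup G)) : ∃ A ∈ 𝓐, (P : Subgroup G) ≤ A := by
  have hexp : ∀ x ∈ (P : Subgroup G), ∃ k : ℕ, x ^ p ^ k = 1 := by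
    intro x hx
    obtain ⟨k, hk⟩ := P.isPGroup' ⟨x, hx⟩
    exact ⟨k, congrArg Subtype.val hk⟩
  rcases hC with ⟨x, hx, hxp⟩ | ⟨g, hg, hg'⟩
  · obtain ⟨A, hA, hxA⟩ := h.1.2 x
    refine ⟨A, hA, fun y hy => ?_⟩
    by_contra hyA
    obtain ⟨A', hA', hyA'⟩ := h.1.2 y
    have hy1 : y ≠ 1 := fun h => hyA (h ▸ one_mem A)
    obtain ⟨k, hk⟩ := hexp y hy
    -- an element of order p in the cyclic group generated by y
    obtain ⟨y', hy'1, hy'2, hy'p⟩ : ∃ y' : G, y' ∈ zpowers y ∧ y' ≠ 1 ∧ y' ^ p = 1 := by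
      have hex : ∃ k : ℕ, y ^ p ^ k = 1 := ⟨k, hk⟩
      classical
      obtain ⟨m, hm⟩ : ∃ m, Nat.find hex = m := ⟨_, rfl⟩
      rcases m with _ | m
      · exfalso
        have h1 := Nat.find_spec hex
        rw [hm, pow_zero, pow_one] at h1
        exact hy1 h1
      · refine ⟨y ^ p ^ m, pow_mem (mem_zpowers y) _, Nat.find_min hex (by omega), ?_⟩
        have h1 := Nat.find_spec hex
        rw [hm, pow_succ, pow_mul] at h1
        exact h1
    have hy'P : y' ∈ (P : Subgroup G) := (zpowers_le.mpr hy) hy'1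
    have hy'A' : y' ∈ A' := (zpowers_le.mpr hyA') hy'1
    have hy'A : y' ∉ A := by
      intro hc
      have := unique hZ h hn P hab hA hA' hy'2 (k := 1) (by rw [pow_one]; exact hy'p) hc hy'A'
      exact hyA (this ▸ hyA')
    obtain ⟨B, hB, hxB⟩ := h.1.2 (x * y')
    have hcomm : Commute x y' := hab x hx y' hy'P
    have hpow : (x * y') ^ p = x ^ p := by rw [hcomm.mul_pow, hy'p, mul_one]
    obtain ⟨l, hl⟩ := hexp (x ^ p) (pow_mem hx _)
    have hAB := unique hZ h hn P hab hA hB hxp hl (pow_mem hxA _) (hpow ▸ pow_mem hxB _)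
    apply hy'A
    have h1 := A.mul_mem (A.inv_mem hxA) (hAB ▸ hxB)
    rwa [inv_mul_cancel_left] at h1
  · obtain ⟨A, hA, hgA⟩ := h.1.2 g
    exact ⟨A, hA, hg'.trans (zpowers_le.mpr hgA)⟩

theorem cent_eq (hZ : center G = ⊥) {𝓐 : Finset (Subgroup G)} (h : MinCover 𝓐) (hn : ∀ A ∈ 𝓐, Group.IsNilpotent ↥A)
    (P : Sylow p G) (hab : ∀ x ∈ (P : Subgroup G), ∀ y ∈ (P : Subgroup G), x * y = y * x)
    (hbot : (P : Subgroup G) ≠ ⊥) {A : Subgroup G} (hA : A ∈ 𝓐) (hPA : (P : Subgroup G) ≤ A) :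
    centralizer ((P : Subgroup G) : Set G) = A := by
  have hexp : ∀ x ∈ (P : Subgroup G), ∃ k : ℕ, x ^ p ^ k = 1 := by
    intro x hx
    obtain ⟨k, hk⟩ := P.isPGroup' ⟨x, hx⟩
    exact ⟨k, congrArg Subtype.val hk⟩
  apply le_antisymm
  · intro y hy
    obtain ⟨a, b, hab', haz, hbz, ⟨k, hk⟩, hcop⟩ := exists_pPart_mul (p := p) y
    have haC : a ∈ centralizer ((P : Subgroup G) : Set G) := (zpowers_le.mpr hy) haz
    have hbC : b ∈ centralizer ((P : Subgroup G) : Set G) := (zpowers_le.mpr hy) hbz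
    have haP : a ∈ (P : Subgroup G) := by
      have h1 := (isPGroup_zpowers hk).inf_normalizer_sylow P
      exact (h1.le ⟨mem_zpowers a, centralizer_le_normalizer _ haC⟩).2
    obtain ⟨x, hxP, hx1⟩ := ((P : Subgroup G)).ne_bot_iff_exists_ne_one.mp hbot |>.elim
      (fun z hz => (⟨z.1, z.2, fun hc => hz (Subtype.ext hc)⟩ : ∃ x : G, x ∈ (P : Subgroup G) ∧ x ≠ 1))
    obtain ⟨l, hl⟩ := hexp x hxP
    obtain ⟨B, hB, hxB⟩ := h.1.2 (x * b)
    have hcomm : Commute x b := mem_centralizer_iff.mp hbC x hxP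
    have hxz : x ∈ B := by
      have h1 : (x * b) ^ orderOf b = x ^ orderOf b := by
        rw [hcomm.mul_pow, pow_orderOf_eq_one, mul_one]
      have h2 : x ^ orderOf b ∈ B := h1 ▸ pow_mem hxB _
      have h3 : (orderOf x).Coprime (orderOf b) := by
        have h4 : orderOf x ∣ p ^ l := orderOf_dvd_of_pow_eq_one hl
        exact (Nat.Coprime.pow_left l hcop.symm).coprime_dvd_left h4
      obtain ⟨m, hm⟩ := exists_pow_eq_self_of_coprime (n := orderOf b) (x := x) h3.symm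
      rw [← hm]
      exact pow_mem h2 _
    have hBA := unique hZ h hn P hab hA hB hx1 hl (hPA hxP) hxz
    have hbA : b ∈ A := by
      have h1 := A.mul_mem (A.inv_mem (hPA hxP)) (hBA ▸ hxB)
      rwa [inv_mul_cancel_left] at h1
    rw [← hab']
    exact A.mul_mem (hPA haP) hbA
  · intro y hy
    rw [mem_centralizer_iff]
    intro x hx
    obtain ⟨k, hk⟩ := hexp x hx
    exact (mem_centralizer_singleton_iff.mp (le_cent P hab (hn A hA) (hPA hx) hk hy)).symm

theorem mem_smul {P : Sylow p G} {h z : G} : z ∈ ((h • P : Sylow p G) : Subgroup G) ↔ h⁻¹ * z * h ∈ (P : Subgroup G) := by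
  rw [Sylow.smul_def, Sylow.pointwise_smul_def, Subgroup.mem_pointwise_smul_iff_inv_smul_mem]
  simp [← map_inv, MulAut.smul_def, MulAut.conj_apply]

theorem smul_ab {P : Sylow p G} (hab : ∀ x ∈ (P : Subgroup G), ∀ y ∈ (P : Subgroup G), x * y = y * x) (h : G) :
    ∀ x ∈ ((h • P : Sylow p G) : Subgroup G), ∀ y ∈ ((h • P : Sylow p G) : Subgroup G), x * y = y * x :=
  fun _ hx _ hy => comm_of P hab (h • P).isPGroup' hx hy

theorem smul_bot {P : Sylow p G} (hbot : (P : Subgroup G) ≠ ⊥) (h : G) : ((h • P : Sylow p G) : Subgroup G) ≠ ⊥ := by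
  intro hc
  apply hbot
  rw [eq_bot_iff]
  intro x hx
  have h1 : h * x * h⁻¹ ∈ ((h • P : Sylow p G) : Subgroup G) := by
    rw [mem_smul]
    have : h⁻¹ * (h * x * h⁻¹) * h = x := by group
    rw [this]; exact hx
  rw [hc, mem_bot] at h1
  rw [mem_bot]
  have h2 : x = h⁻¹ * (h * x * h⁻¹) * h := by group
  rw [h2, h1]; group

theorem smul_cond {P : Sylow p G} (hC : Cond p (P : Subgroup G)) (h : G) : Cond p ((h • P : Sylow p G) : Subgroup G) := by
  rcases hC with ⟨x, hx, hxp⟩ | ⟨g, hg, hg'⟩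
  · refine Or.inl ⟨h * x * h⁻¹, ?_, ?_⟩
    · rw [mem_smul]
      have : h⁻¹ * (h * x * h⁻¹) * h = x := by group
      rw [this]; exact hx
    · rw [conj_pow]
      intro hc
      apply hxp
      have h2 : x ^ p = h⁻¹ * (h * x ^ p * h⁻¹) * h := by simp [mul_assoc]
      rw [h2, hc]; simp
  · refine Or.inr ⟨h * g * h⁻¹, ?_, ?_⟩
    · rw [mem_smul]
      have : h⁻¹ * (h * g * h⁻¹) * h = g := by group
      rw [this]; exact hg
    · intro y hy
      rw [mem_smul] at hy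
      obtain ⟨n, hn⟩ := mem_zpowers_iff.mp (hg' hy)
      refine mem_zpowers_iff.mpr ⟨n, ?_⟩
      rw [conj_zpow, hn]; group

/-- Sylow subgroups in the same member are equal -/
theorem sylow_eq {A : Subgroup G} (hA : Group.IsNilpotent A) {P P' : Sylow p G} (h : (P : Subgroup G) ≤ A)
    (h' : (P' : Subgroup G) ≤ A) : P = P' := by
  have h1 := H1.le_part hA h P.isPGroup'
  have h2 := H1.le_part hA h' P'.isPGroup'
  have h3 := P.is_maximal' (H1.part_isPGroup p A) h1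
  have h4 := P'.is_maximal' (H1.part_isPGroup p A) h2
  exact Sylow.ext (h3.symm.trans h4)

theorem le_norm (hZ : center G = ⊥) {𝓐 : Finset (Subgroup G)} (h : MinCover 𝓐) (hn : ∀ A ∈ 𝓐, Group.IsNilpotent ↥A)
    (P : Sylow p G) (hab : ∀ x ∈ (P : Subgroup G), ∀ y ∈ (P : Subgroup G), x * y = y * x)
    (hbot : (P : Subgroup G) ≠ ⊥) (hC : Cond p (P : Subgroup G)) {H : Subgroup G} (hH : H ≠ ⊤)
    (hle : centralizer ((P : Subgroup G) : Set G) ≤ H) : H ≤ normalizer ((P : Subgroup G) : Set G) := by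
  intro g hg
  obtain ⟨A, hA, hPA⟩ := exists_le hZ h hn P hab hC
  obtain ⟨A', hA', hPA'⟩ := exists_le hZ h hn (g • P) (smul_ab hab g) (smul_cond hC g)
  have e1 := cent_eq hZ h hn P hab hbot hA hPA
  have e2 := cent_eq hZ h hn (g • P) (smul_ab hab g) (smul_bot hbot g) hA' hPA'
  have h1 : A' ≤ H := by
    intro y hy
    rw [← e2] at hy
    have h2 : g⁻¹ * y * g ∈ centralizer ((P : Subgroup G) : Set G) := by
      rw [mem_centralizer_iff]
      intro x hx
      have h3 : g * x * g⁻¹ ∈ ((g • P : Sylow p G) : Subgroup G) := by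
        rw [mem_smul]
        have : g⁻¹ * (g * x * g⁻¹) * g = x := by group
        rw [this]; exact hx
      have h4 := mem_centralizer_iff.mp hy _ h3
      calc x * (g⁻¹ * y * g) = g⁻¹ * (g * x * g⁻¹ * y) * g := by group
        _ = g⁻¹ * (y * (g * x * g⁻¹)) * g := by rw [h4]
        _ = _ := by group
    have h5 : y = g * (g⁻¹ * y * g) * g⁻¹ := by group
    rw [h5]
    exact H.mul_mem (H.mul_mem hg (hle h2)) (H.inv_mem hg)
  by_cases hAA : A = A'
  · have h2 : P = g • P := sylow_eq (hn A hA) hPA (hAA ▸ hPA')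
    exact Sylow.smul_eq_iff_mem_normalizer.mp h2.symm
  · exact (not_two h hA hA' hAA hH (e1 ▸ hle) h1).elim

theorem ti (hZ : center G = ⊥) {𝓐 : Finset (Subgroup G)} (h : MinCover 𝓐) (hn : ∀ A ∈ 𝓐, Group.IsNilpotent ↥A)
    (P : Sylow p G) (hab : ∀ x ∈ (P : Subgroup G), ∀ y ∈ (P : Subgroup G), x * y = y * x)
    (hC : Cond p (P : Subgroup G)) {g : G} (hg : g ∉ normalizer ((P : Subgroup G) : Set G)) {x : G} {k : ℕ}
    (hk : x ^ p ^ k = 1) (h1 : x ∈ normalizer ((P : Subgroup G) : Set G))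
    (h2 : g⁻¹ * x * g ∈ normalizer ((P : Subgroup G) : Set G)) : x = 1 := by
  by_contra hx1
  obtain ⟨A, hA, hPA⟩ := exists_le hZ h hn P hab hC
  obtain ⟨A', hA', hPA'⟩ := exists_le hZ h hn (g • P) (smul_ab hab g) (smul_cond hC g)
  have key : ∀ {y : G}, y ^ p ^ k = 1 → y ∈ normalizer ((P : Subgroup G) : Set G) → y ∈ (P : Subgroup G) := by
    intro y hy hyN
    have h1 := (isPGroup_zpowers hy).inf_normalizer_sylow P
    exact (h1.le ⟨mem_zpowers y, hyN⟩).2
  have hxP := key hk h1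
  have hxP' : x ∈ ((g • P : Sylow p G) : Subgroup G) := by
    rw [mem_smul]
    refine key ?_ h2
    have h3 : (g⁻¹ * x * g) ^ p ^ k = g⁻¹ * x ^ p ^ k * g := by
      have := conj_pow (i := p ^ k) (a := g⁻¹) (b := x)
      rwa [inv_inv] at this
    rw [h3, hk]; simp
  have h3 := unique hZ h hn P hab hA hA' hx1 hk (hPA hxP) (hPA' hxP')
  have h4 : P = g • P := sylow_eq (hn A hA) hPA (h3 ▸ hPA')
  exact hg (Sylow.smul_eq_iff_mem_normalizer.mp h4.symm)

end Cfsg.Agent.H18.NilCover
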