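import Cfsg.Agent.H18.NilCover

set_option autoImplicit false
set_option linter.unusedSectionVars false
set_option linter.style.haveILetI false
set_option linter.unusedVariables false

/-! Nilpotent minimal covers: symmetric and alternating groups. -/

namespace Cfsg.Agent.H18.NilCover

open Subgroup Equiv Equiv.Perm

section gen
variable {G : Type*} [Group G] [Finite G]

/-- an element of prime order generating a Sylow subgroup -/
theorem no_cover {p : ℕ} [hp : Fact p.Prime] (hZ : center G = ⊥) {𝓐 : Finset (Subgroup G)} (h : MinCover 𝓐)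
    (hn : ∀ A ∈ 𝓐, Group.IsNilpotent ↥A) {s : G} (hs : orderOf s = p) (hv : ¬ p ^ 2 ∣ Nat.card G)
    {H : Subgroup G} (hH : H ≠ ⊤) (hcent : ∀ g, g * s = s * g → g ∈ H) {t : G} (ht : t ∈ H)
    (htn : t * s * t⁻¹ ∉ zpowers s) : False := by
  have hz : IsPGroup p (zpowers s) := by
    apply isPGroup_zpowers (k := 1)
    rw [pow_one, ← hs]; exact pow_orderOf_eq_one s
  obtain ⟨P, hP⟩ := hz.exists_le_sylow
  have hPc : Nat.card P = p := by
    obtain ⟨k, hk⟩ := IsPGroup.iff_card.mp P.isPGroup'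
    have h1 : p ^ k ∣ Nat.card G := by rw [← hk]; exact Subgroup.card_subgroup_dvd_card _
    have h2 : p ∣ p ^ k := by
      rw [← hk]
      calc p = Nat.card (zpowers s) := by rw [Nat.card_zpowers, hs]
        _ ∣ _ := Subgroup.card_dvd_of_le hP
    rcases k with _ | _ | k
    · exfalso
      rw [pow_zero] at h2
      exact hp.out.one_lt.ne' (Nat.dvd_one.mp h2)
    · have := hk; rw [zero_add, pow_one] at this; exact this
    · exact absurd ((pow_dvd_pow p (by omega : 2 ≤ k + 1 + 1)).trans h1) hv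
  have hPs : (P : Subgroup G) = zpowers s := by
    symm
    apply Subgroup.eq_of_le_of_card_ge hP
    rw [Nat.card_zpowers, hs]
    exact hPc.le
  have hsP : s ∈ (P : Subgroup G) := hP (mem_zpowers s)
  have hab : ∀ x ∈ (P : Subgroup G), ∀ y ∈ (P : Subgroup G), x * y = y * x := by
    intro x hx y hy
    rw [hPs] at hx hy
    obtain ⟨i, rfl⟩ := mem_zpowers_iff.mp hx
    obtain ⟨j, rfl⟩ := mem_zpowers_iff.mp hy
    rw [← zpow_add, ← zpow_add, add_comm]
  have hbot : (P : Subgroup G) ≠ ⊥ := by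
    intro hb
    rw [hb, mem_bot] at hsP
    rw [hsP, orderOf_one] at hs
    exact hp.out.one_lt.ne hs
  have hC : Cond p (P : Subgroup G) := Or.inr ⟨s, hsP, hPs.le⟩
  have h1 := le_norm hZ h hn P hab hbot hC hH (fun g hg => hcent g (mem_centralizer_iff.mp hg s hsP).symm)
  have h2 := (Subgroup.mem_normalizer_iff.mp (h1 ht) s).mp hsP
  rw [hPs] at h2
  exact htn h2

end gen

section perm
variable {n : ℕ}

/-- setwise stabilizer -/
def stab (s : Finset (Fin n)) : Subgroup (Perm (Fin n)) where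
  carrier := {g | ∀ x, g x ∈ s ↔ x ∈ s}
  mul_mem' := by
    intro g h hg hh x
    rw [Perm.mul_apply, hg, hh]
  one_mem' := fun x => Iff.rfl
  inv_mem' := by
    intro g hg x
    have h1 : g (g⁻¹ x) = x := g.apply_symm_apply x
    rw [← hg, h1]

theorem center_perm (h3 : 3 ≤ n) : center (Perm (Fin n)) = ⊥ := by
  rw [eq_bot_iff]
  intro z hz
  rw [mem_bot]
  ext x
  by_contra hne
  have hzx : z x ≠ x := fun h => hne (by rw [h]; rfl)
  obtain ⟨c, hc⟩ : ∃ c : Fin n, c ∉ ({x, z x} : Finset (Fin n)) := by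
    by_contra hcon
    push Not at hcon
    have h1 : (Finset.univ : Finset (Fin n)) ⊆ {x, z x} := fun y _ => hcon y
    have h2 := (Finset.card_le_card h1).trans Finset.card_le_two
    rw [Finset.card_univ, Fintype.card_fin] at h2
    omega
  rw [Finset.mem_insert, Finset.mem_singleton, not_or] at hc
  have h1 := congrArg (fun g : Perm (Fin n) => g x) (mem_center_iff.mp hz (swap x c))
  simp only [Perm.mul_apply, swap_apply_left] at h1
  rw [swap_apply_of_ne_of_ne hzx (Ne.symm hc.2)] at h1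
  exact hc.1 (z.injective h1).symm

theorem not_sq_dvd {p : ℕ} [hp : Fact p.Prime] (h1 : p ≤ n) (h2 : n < 2 * p) : ¬ p ^ 2 ∣ n.factorial := by
  obtain ⟨r, rfl⟩ := Nat.exists_eq_add_of_le h1
  rw [padicValNat_dvd_iff_le (Nat.factorial_ne_zero _)]
  have h3 := padicValNat_factorial_mul_add (p := p) (n := r) 1 (by omega)
  rw [padicValNat_factorial_mul, mul_one] at h3
  rw [h3]
  simp

/-- data for a cycle of prime order `p ≥ 5` -/
theorem cyc_data {p : ℕ} [hp : Fact p.Prime] (h5 : 5 ≤ p) (h1 : p < n) (h2 : n < 2 * p) {s : Perm (Fin n)}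
    (hs : orderOf s = p) : (∀ g : Perm (Fin n), g * s = s * g → g ∈ stab s.support) ∧
      (∃ u : Perm (Fin n), sign u = 1 ∧ u ∉ stab s.support) ∧
      (∃ t : Perm (Fin n), sign t = 1 ∧ t ∈ stab s.support ∧ t * s * t⁻¹ ∉ zpowers s) := by
  have hcyc : s.IsCycle := isCycle_of_prime_order' (by rw [hs]; exact hp.out) (by rw [hs, Fintype.card_fin]; exact h2)
  have hcard : s.support.card = p := by rw [← hs, hcyc.orderOf]
  obtain ⟨a, ha⟩ : ∃ a, s a ≠ a := by
    obtain ⟨x, hx, -⟩ := hcyc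
    exact ⟨x, hx⟩
  have hstep : ∀ i : ℕ, s ((s ^ i) a) ≠ (s ^ i) a := by
    intro i hi
    have h3 : (s ^ i) (s a) = (s ^ i) a := by
      rw [← Perm.mul_apply, ← pow_succ, pow_succ', Perm.mul_apply]; exact hi
    exact ha ((s ^ i).injective h3)
  have hne : ∀ i j : ℕ, i < j → j < i + p → (s ^ i) a ≠ (s ^ j) a := by
    intro i j hij hjp heq
    obtain ⟨d, rfl⟩ := Nat.exists_eq_add_of_lt hij
    have h3 : (s ^ (d + 1)) ((s ^ i) a) = (s ^ i) a := by
      rw [← Perm.mul_apply, ← pow_add, heq]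
      congr 2
      omega
    have h4 := (hcyc.pow_eq_one_iff' (hstep i)).mpr h3
    have h5 := orderOf_dvd_of_pow_eq_one h4
    rw [hs] at h5
    have := Nat.le_of_dvd (by omega) h5
    omega
  have hmem : ∀ i : ℕ, (s ^ i) a ∈ s.support := fun i => Perm.mem_support.mpr (hstep i)
  obtain ⟨a0, h0⟩ : ∃ x, x = (s ^ 0) a := ⟨_, rfl⟩
  obtain ⟨a1, e1⟩ : ∃ x, x = (s ^ 1) a := ⟨_, rfl⟩
  obtain ⟨a2, e2⟩ : ∃ x, x = (s ^ 2) a := ⟨_, rfl⟩
  obtain ⟨a3, e3⟩ : ∃ x, x = (s ^ 3) a := ⟨_, rfl⟩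
  obtain ⟨a4, e4⟩ : ∃ x, x = (s ^ 4) a := ⟨_, rfl⟩
  obtain ⟨a5, e5⟩ : ∃ x, x = (s ^ 5) a := ⟨_, rfl⟩
  have n01 : a0 ≠ a1 := by rw [h0, e1]; exact hne 0 1 (by omega) (by omega)
  have n02 : a0 ≠ a2 := by rw [h0, e2]; exact hne 0 2 (by omega) (by omega)
  have n03 : a0 ≠ a3 := by rw [h0, e3]; exact hne 0 3 (by omega) (by omega)
  have n12 : a1 ≠ a2 := by rw [e1, e2]; exact hne 1 2 (by omega) (by omega)
  have n13 : a1 ≠ a3 := by rw [e1, e3]; exact hne 1 3 (by omega) (by omega)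
  have n23 : a2 ≠ a3 := by rw [e2, e3]; exact hne 2 3 (by omega) (by omega)
  have n14 : a1 ≠ a4 := by rw [e1, e4]; exact hne 1 4 (by omega) (by omega)
  have n24 : a2 ≠ a4 := by rw [e2, e4]; exact hne 2 4 (by omega) (by omega)
  have n34 : a3 ≠ a4 := by rw [e3, e4]; exact hne 3 4 (by omega) (by omega)
  have n15 : a1 ≠ a5 := by rw [e1, e5]; exact hne 1 5 (by omega) (by omega)
  have n25 : a2 ≠ a5 := by rw [e2, e5]; exact hne 2 5 (by omega) (by omega)
  have n35 : a3 ≠ a5 := by rw [e3, e5]; exact hne 3 5 (by omega) (by omega)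
  refine ⟨?_, ?_, ?_⟩
  · intro g hg x
    rw [Perm.mem_support, Perm.mem_support]
    have h3 : s (g x) = g (s x) := (congrArg (fun z : Perm (Fin n) => z x) hg).symm
    rw [h3]
    exact g.injective.ne_iff
  · obtain ⟨b, hb⟩ : ∃ b : Fin n, b ∉ s.support := by
      by_contra hcon
      push Not at hcon
      have h3 : s.support = Finset.univ := Finset.eq_univ_iff_forall.mpr hcon
      rw [h3, Finset.card_univ, Fintype.card_fin] at hcard
      omega
    have hb1 : b ≠ a1 := fun h => hb (h ▸ e1 ▸ hmem 1)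
    refine ⟨swap a1 b * swap a2 a3, ?_, ?_⟩
    · rw [map_mul, sign_swap hb1.symm, sign_swap n23]; rfl
    · intro hu
      have h3 := (hu a1).mpr (e1 ▸ hmem 1)
      rw [Perm.mul_apply, swap_apply_of_ne_of_ne n12 n13, swap_apply_left] at h3
      exact hb h3
  · obtain ⟨t, ht⟩ : ∃ t, t = swap a1 a2 * swap a2 a3 := ⟨_, rfl⟩
    have t1 : t a1 = a2 := by
      rw [ht, Perm.mul_apply, swap_apply_of_ne_of_ne n12 n13, swap_apply_left]
    have t2 : t a2 = a3 := by
      rw [ht, Perm.mul_apply, swap_apply_left, swap_apply_of_ne_of_ne n13.symm n23.symm]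
    have t3 : t a3 = a1 := by
      rw [ht, Perm.mul_apply, swap_apply_right, swap_apply_right]
    have tf : ∀ x, x ≠ a1 → x ≠ a2 → x ≠ a3 → t x = x := by
      intro x h1 h2 h3
      rw [ht, Perm.mul_apply, swap_apply_of_ne_of_ne h2 h3, swap_apply_of_ne_of_ne h1 h2]
    refine ⟨t, ?_, ?_, ?_⟩
    · rw [ht, map_mul, sign_swap n12, sign_swap n23]; rfl
    · intro x
      by_cases h1 : x = a1
      · rw [h1, t1]; exact ⟨fun _ => e1 ▸ hmem 1, fun _ => e2 ▸ hmem 2⟩
      by_cases h2 : x = a2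
      · rw [h2, t2]; exact ⟨fun _ => e2 ▸ hmem 2, fun _ => e3 ▸ hmem 3⟩
      by_cases h3 : x = a3
      · rw [h3, t3]; exact ⟨fun _ => e3 ▸ hmem 3, fun _ => e1 ▸ hmem 1⟩
      rw [tf x h1 h2 h3]
    · intro hz
      obtain ⟨k, hk⟩ := mem_zpowers_iff.mp hz
      have s4 : s a4 = a5 := by rw [e4, e5, ← Perm.mul_apply, ← pow_succ']
      have s0 : s a0 = a1 := by rw [h0, e1, ← Perm.mul_apply, ← pow_succ']
      have i4 : t⁻¹ a4 = a4 := by
        rw [Perm.inv_eq_iff_eq]; exact (tf a4 n14.symm n24.symm n34.symm).symm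
      have i0 : t⁻¹ a0 = a0 := by
        rw [Perm.inv_eq_iff_eq]; exact (tf a0 n01 n02 n03).symm
      have r4 : (s ^ k) a4 = a5 := by
        rw [hk, Perm.mul_apply, Perm.mul_apply, i4, s4]
        exact tf a5 n15.symm n25.symm n35.symm
      have r0 : (s ^ k) a0 = a2 := by
        rw [hk, Perm.mul_apply, Perm.mul_apply, i0, s0, t1]
      have h40 : a4 = (s ^ 4) a0 := by rw [e4, h0, pow_zero, Perm.one_apply]
      have r0' : (s ^ k) a0 = s a0 := by
        apply (s ^ 4).injective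
        rw [← Perm.mul_apply, ← Perm.mul_apply, ← zpow_natCast, ← zpow_add, add_comm, zpow_add, Perm.mul_apply,
          zpow_natCast, ← h40, r4, ← s4, h40, ← Perm.mul_apply, ← pow_succ, ← pow_succ']
      rw [r0, s0] at r0'
      exact n12 r0'.symm

end perm

end Cfsg.Agent.H18.NilCover
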