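import Cfsg.Agent.H18.NilCover

set_option autoImplicit false
set_option linter.unusedSectionVars false
set_option linter.style.haveILetI false
set_option linter.unusedVariables false

/-! Nilpotent minimal covers and permutation actions. -/

namespace Cfsg.Agent.H18.NilCover

open Subgroup Equiv

variable {G : Type*} [Group G] [Finite G] {p : ℕ} [hp : Fact p.Prime] {X Y : Type*} [Finite X] [Finite Y]

theorem fix_exists (φ : G →* Perm X) (hX : ¬ p ∣ Nat.card X) {Q : Subgroup G} (hQ : IsPGroup p Q) :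
    ∃ x, ∀ q ∈ Q, φ q x = x := by
  letI : MulAction Q X := MulAction.compHom X (φ.comp Q.subtype)
  obtain ⟨x, hx⟩ := hQ.nonempty_fixed_point_of_prime_not_dvd_card X hX
  exact ⟨x, fun q hq => hx ⟨q, hq⟩⟩

theorem member_fix (φ : G →* Perm X) (hX : ¬ p ∣ Nat.card X) {A : Subgroup G} (hA : Group.IsNilpotent A)
    {u : G} {k : ℕ} (hk : u ^ p ^ k = 1) (hu : u ∈ A) {x0 : X} (hx0 : ∀ x, φ u x = x ↔ x = x0) :
    ∀ a ∈ A, φ a x0 = x0 := by
  have huQ : u ∈ H1.part p A := H1.le_part hA (zpowers_le.mpr hu) (isPGroup_zpowers hk) (mem_zpowers u)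
  obtain ⟨x, hx⟩ := fix_exists φ hX (H1.part_isPGroup p A)
  have hxx : x = x0 := (hx0 x).mp (hx u huQ)
  subst hxx
  intro a ha
  apply (hx0 _).mp
  have h1 : a⁻¹ * u * a ∈ H1.part p A := by
    have h2 := H1.le_normalizer_part p A (inv_mem ha)
    have h3 := (mem_normalizer_iff.mp h2 u).mp huQ
    rwa [inv_inv] at h3
  have h2 := hx _ h1
  rw [map_mul, map_mul, Perm.mul_apply, Perm.mul_apply, map_inv] at h2
  exact (Perm.inv_eq_iff_eq.mp h2)

/-- stabilizer -/
def st (φ : G →* Perm X) (x : X) : Subgroup G where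
  carrier := {g | φ g x = x}
  mul_mem' := by
    intro g h hg hh
    change φ (g * h) x = x
    rw [map_mul, Perm.mul_apply, hh, hg]
  one_mem' := by
    change φ 1 x = x
    rw [map_one]; rfl
  inv_mem' := by
    intro g hg
    change φ g⁻¹ x = x
    rw [map_inv, Perm.inv_eq_iff_eq]
    exact hg.symm

theorem mem_st {φ : G →* Perm X} {x : X} {g : G} : g ∈ st φ x ↔ φ g x = x := Iff.rfl

theorem fix_conj (φ : G →* Perm X) {u : G} {x0 : X} (hx0 : ∀ x, φ u x = x ↔ x = x0) (g : G) :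
    ∀ x, φ (g * u * g⁻¹) x = x ↔ x = φ g x0 := by
  intro x
  rw [map_mul, map_mul, Perm.mul_apply, Perm.mul_apply, map_inv]
  constructor
  · intro h
    have h1 : φ u ((φ g)⁻¹ x) = (φ g)⁻¹ x := by
      rw [eq_comm, Perm.inv_eq_iff_eq]; exact h.symm
    have h2 := (hx0 _).mp h1
    rw [Perm.inv_eq_iff_eq] at h2
    exact h2
  · intro h
    have h1 : (φ g)⁻¹ x = x0 := by rw [Perm.inv_eq_iff_eq]; exact h
    rw [h1, (hx0 x0).mpr rfl]
    exact h.symm

theorem conj_pow_one {u : G} {k : ℕ} (hk : u ^ p ^ k = 1) (g : G) : (g * u * g⁻¹) ^ p ^ k = 1 := by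
  rw [conj_pow, hk]; simp

/-- the case of two actions -/
theorem two_actions (φ : G →* Perm X) (ψ : G →* Perm Y) (hX : ¬ p ∣ Nat.card X) (hY : ¬ p ∣ Nat.card Y)
    {𝓐 : Finset (Subgroup G)} (h : MinCover 𝓐) (hn : ∀ A ∈ 𝓐, Group.IsNilpotent ↥A)
    {u : G} {k : ℕ} (hk : u ^ p ^ k = 1) {x0 : X} (hx0 : ∀ x, φ u x = x ↔ x = x0)
    {y0 : Y} (hy0 : ∀ y, ψ u y = y ↔ y = y0) {g g0 : G} (hg : φ g x0 = x0) (hg' : ψ g y0 ≠ y0)
    (hg0 : φ g0 x0 ≠ x0) : False := by
  obtain ⟨A, hA, huA⟩ := h.1.2 u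
  obtain ⟨A', hA', huA'⟩ := h.1.2 (g * u * g⁻¹)
  have h1 := member_fix φ hX (hn A hA) hk huA hx0
  have h2 := member_fix φ hX (hn A' hA') (conj_pow_one hk g) huA' (fix_conj φ hx0 g)
  rw [hg] at h2
  have hAA : A = A' := by
    by_contra hne
    refine not_two h hA hA' hne (H := st φ x0) ?_ h1 h2
    intro htop
    apply hg0
    rw [← mem_st, htop]; trivial
  subst hAA
  obtain ⟨y, hy⟩ := fix_exists ψ hY (H1.part_isPGroup p A)
  have e1 : u ∈ H1.part p A := H1.le_part (hn A hA) (zpowers_le.mpr huA) (isPGroup_zpowers hk) (mem_zpowers u)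
  have e2 : g * u * g⁻¹ ∈ H1.part p A :=
    H1.le_part (hn A hA) (zpowers_le.mpr huA') (isPGroup_zpowers (conj_pow_one hk g)) (mem_zpowers _)
  have e3 := (hy0 y).mp (hy u e1)
  have e4 := (fix_conj ψ hy0 g y).mp (hy _ e2)
  exact hg' (e4.symm.trans e3)

/-- the case of a subgroup of index two -/
theorem index_two (φ : G →* Perm X) (hX : ¬ p ∣ Nat.card X) (hp2 : p ≠ 2)
    {𝓐 : Finset (Subgroup G)} (h : MinCover 𝓐) (hn : ∀ A ∈ 𝓐, Group.IsNilpotent ↥A)
    {H : Subgroup G} [hHn : H.Normal] (hH : H ≠ ⊤) (hsq : ∀ a : G, a * a ∈ H) {u : G} {k : ℕ} (hk : u ^ p ^ k = 1)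
    (hcent : ∀ a : G, a * u = u * a → a ∈ H)
    {x0 : X} (hx0 : ∀ x, φ u x = x ↔ x = x0) {g : G} (hg : φ g x0 ≠ x0) : False := by
  have key : ∀ (w : G), w ^ p ^ k = 1 → (∀ a : G, a * w = w * a → a ∈ H) → ∀ A ∈ 𝓐, w ∈ A → A ≤ H := by
    intro w hw hcw A hA hwA
    have hwQ : w ∈ H1.part p A := H1.le_part (hn A hA) (zpowers_le.mpr hwA) (isPGroup_zpowers hw) (mem_zpowers w)
    apply H1.le_of_part_le (hn A hA)
    intro q hq hqd a ha
    by_cases hqp : q = p
    · subst hqp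
      obtain ⟨j, hj⟩ := H1.part_isPGroup q A ⟨a, ha⟩
      have hj' : a ^ q ^ j = 1 := congrArg Subtype.val hj
      have hodd : Odd (q ^ j) := (hq.out.odd_of_ne_two hp2).pow
      obtain ⟨m, hm⟩ := hodd
      have h1 : a = (a * a) ^ (m + 1) := by
        calc a = a ^ (q ^ j) * a := by rw [hj', one_mul]
          _ = a ^ (2 * (m + 1)) := by rw [← pow_succ, hm]; congr 1
          _ = (a ^ 2) ^ (m + 1) := by rw [pow_mul]
          _ = _ := by rw [pow_two]
      rw [h1]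
      exact pow_mem (hsq a) _
    · have h2 := H1.part_le_centralizer_part (p := p) (q := q) (A := A) (Ne.symm hqp) ha
      exact hcw a (Subgroup.mem_centralizer_iff.mp h2 w hwQ).symm
  obtain ⟨A, hA, huA⟩ := h.1.2 u
  obtain ⟨A', hA', huA'⟩ := h.1.2 (g * u * g⁻¹)
  have h1 := member_fix φ hX (hn A hA) hk huA hx0
  have e1 := key u hk hcent A hA huA
  have e2 := key (g * u * g⁻¹) (conj_pow_one hk g) (fun a ha => by
    have h3 : g⁻¹ * a * g ∈ H := by
      apply hcent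
      calc g⁻¹ * a * g * u = g⁻¹ * (a * (g * u * g⁻¹)) * g := by group
        _ = g⁻¹ * ((g * u * g⁻¹) * a) * g := by rw [ha]
        _ = _ := by group
    have h4 := hHn.conj_mem _ h3 g
    have h5 : g * (g⁻¹ * a * g) * g⁻¹ = a := by group
    rwa [h5] at h4) A' hA' huA'
  refine not_two h hA hA' ?_ hH e1 e2
  rintro rfl
  have h3 := h1 _ huA'
  exact hg ((fix_conj φ hx0 g x0).mp h3).symm

/-- the case of an element all of whose nilpotent overgroups have fixed points -/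
theorem torus (φ : G →* Perm X) (hX : ¬ p ∣ Nat.card X)
    {𝓐 : Finset (Subgroup G)} (h : MinCover 𝓐) (hn : ∀ A ∈ 𝓐, Group.IsNilpotent ↥A)
    {u : G} {k : ℕ} (hk : u ^ p ^ k = 1) {x0 : X} (hx0 : ∀ x, φ u x = x ↔ x = x0)
    (htr : ∀ x, ∃ g, φ g x0 = x) {t : G}
    (ht : ∀ A : Subgroup G, Group.IsNilpotent A → t ∈ A →
      (∃ z ∈ A, (∀ g ∈ A, g * z = z * g) ∧ ∃ a b, a ≠ b ∧ ∀ x, φ z x = x ↔ (x = a ∨ x = b)) ∧
      ∀ g ∈ A, ∃ x, φ g x = x) : False := by
  classical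
  haveI := Fintype.ofFinite X
  choose c hc using htr
  have hux : ∀ x y, φ (c x * u * (c x)⁻¹) y = y ↔ y = x := by
    intro x y
    rw [fix_conj φ hx0 (c x), hc]
  have hmem : ∀ x, ∃ A ∈ 𝓐, c x * u * (c x)⁻¹ ∈ A := fun x => h.1.2 _
  choose Af hAf hAf' using hmem
  have hst : ∀ x, Af x ≤ st φ x := fun x =>
    member_fix φ hX (hn _ (hAf x)) (conj_pow_one hk (c x)) (hAf' x) (hux x)
  have hinj : Function.Injective Af := by
    intro x y hxy
    have h1 := hst y (hxy ▸ hAf' x)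
    exact ((hux x y).mp h1).symm
  obtain ⟨A', hA', htA'⟩ := h.1.2 t
  obtain ⟨⟨z, hzA, hzc, a, b, hab, hz⟩, hfix⟩ := ht A' (hn A' hA') htA'
  have hne : ∀ x, Af x ≠ A' := by
    intro x hx
    have hw := hAf' x
    rw [hx] at hw
    have hcz := hzc _ hw
    -- z fixes x
    obtain ⟨w, hwe⟩ : ∃ w, w = c x * u * (c x)⁻¹ := ⟨_, rfl⟩
    rw [← hwe] at hcz
    have hwx : ∀ y, φ w y = y ↔ y = x := by rw [hwe]; exact hux x
    have hcomm : ∀ y, φ w (φ z y) = φ z (φ w y) := by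
      intro y
      rw [← Perm.mul_apply, ← Perm.mul_apply, ← map_mul, ← map_mul, hcz]
    have h1 : φ z x = x := by
      rw [← hwx, hcomm, (hwx x).mpr rfl]
    have hperm : ∀ y, φ z y = y → φ z (φ w y) = φ w y := by
      intro y hy
      rw [← hcomm, hy]
    have hxx := (hz x).mp h1
    have fin : ∀ a' b' : X, a' ≠ b' → (∀ x, φ z x = x ↔ (x = a' ∨ x = b')) → x = a' → False := by
      intro a' b' hab' hz' hxa
      have h2 := hperm b' ((hz' b').mpr (Or.inr rfl))
      rcases (hz' _).mp h2 with h3 | h3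
      · rw [← hxa] at h3
        have h4 : φ w x = x := (hwx x).mpr rfl
        have h5 := (φ w).injective (h3.trans h4.symm)
        exact hab' (hxa ▸ h5).symm
      · have := (hwx b').mp h3
        exact hab' (hxa.symm.trans this.symm)
    rcases hxx with h2 | h2
    · exact fin a b hab hz h2
    · exact fin b a hab.symm (fun y => by rw [hz, or_comm]) h2
  have hXtwo : ∀ x, ∃ y : X, y ≠ x := by
    intro x
    by_cases hxa : x = a
    · exact ⟨b, fun hb => hab (hxa.symm.trans hb.symm)⟩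
    · exact ⟨a, fun ha => hxa ha.symm⟩
  have hsttop : ∀ x, st φ x ≠ ⊤ := by
    intro x htop
    obtain ⟨y, hy⟩ := hXtwo x
    have h1 : c y * (c x)⁻¹ ∈ st φ x := by rw [htop]; trivial
    rw [mem_st, map_mul, Perm.mul_apply, map_inv] at h1
    have h2 : (φ (c x))⁻¹ x = x0 := by rw [Perm.inv_eq_iff_eq]; exact (hc x).symm
    rw [h2, hc] at h1
    exact hy h1
  let I : Finset (Subgroup G) := Finset.univ.image Af
  let J : Finset (Subgroup G) := Finset.univ.image (st φ)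
  have hIcard : I.card = Fintype.card X := by
    rw [Finset.card_image_of_injective _ hinj, Finset.card_univ]
  have hJcard : J.card ≤ Fintype.card X := by
    exact Finset.card_image_le.trans (by rw [Finset.card_univ])
  have hIsub : I ⊆ 𝓐 := by
    intro A hA
    obtain ⟨x, -, rfl⟩ := Finset.mem_image.mp hA
    exact hAf x
  have hA'I : A' ∈ 𝓐 \ I := by
    rw [Finset.mem_sdiff]
    refine ⟨hA', fun hc' => ?_⟩
    obtain ⟨x, -, hx⟩ := Finset.mem_image.mp hc'
    exact hne x hx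
  have h3 := h.2 (J ∪ (𝓐 \ I).erase A') ⟨?_, ?_⟩
  · have h4 := Finset.card_union_le J ((𝓐 \ I).erase A')
    have h5 := Finset.card_erase_add_one hA'I
    have h6 := Finset.card_sdiff_add_card_eq_card hIsub
    omega
  · intro B hB
    rcases Finset.mem_union.mp hB with hB | hB
    · obtain ⟨x, -, rfl⟩ := Finset.mem_image.mp hB
      exact hsttop x
    · exact h.1.1 B (Finset.mem_sdiff.mp (Finset.mem_of_mem_erase hB)).1
  · intro g
    obtain ⟨B, hB, hgB⟩ := h.1.2 g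
    by_cases hBI : B ∈ I
    · obtain ⟨x, -, hx⟩ := Finset.mem_image.mp hBI
      refine ⟨st φ x, Finset.mem_union_left _ (Finset.mem_image_of_mem _ (Finset.mem_univ x)), hst x (hx ▸ hgB)⟩
    · by_cases hBA : B = A'
      · obtain ⟨x, hx⟩ := hfix g (hBA ▸ hgB)
        exact ⟨st φ x, Finset.mem_union_left _ (Finset.mem_image_of_mem _ (Finset.mem_univ x)), hx⟩
      · exact ⟨B, Finset.mem_union_right _ (Finset.mem_erase.mpr ⟨hBA, Finset.mem_sdiff.mpr ⟨hB, hBI⟩⟩), hgB⟩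

end Cfsg.Agent.H18.NilCover
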