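import Cfsg.Agent.H18.NilCover3

set_option autoImplicit false
set_option linter.unusedSectionVars false
set_option linter.style.haveILetI false
set_option linter.unusedVariables false

/-! Nilpotent minimal covers: the projective action. -/

namespace Cfsg.Agent.H18.NilCover

open Subgroup Equiv Matrix

variable {F : Type*} [Field F] [Fintype F] {n : ℕ}

/-- action on points -/
noncomputable def act (n : ℕ) (F : Type*) [Field F] : GL (Fin n) F →* Perm (Projectivization F (Fin n → F)) :=
  (MulAction.toPermHom (LinearMap.GeneralLinearGroup F (Fin n → F)) (Projectivization F (Fin n → F))).comp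
    (Matrix.GeneralLinearGroup.toLin (n := Fin n) (R := F)).toMonoidHom

theorem mulVec_ne (g : GL (Fin n) F) {v : Fin n → F} (hv : v ≠ 0) : (g : Matrix (Fin n) (Fin n) F) *ᵥ v ≠ 0 := by
  intro h
  apply hv
  have h1 : ((g⁻¹ : GL (Fin n) F) : Matrix (Fin n) (Fin n) F) *ᵥ ((g : Matrix (Fin n) (Fin n) F) *ᵥ v) = v := by
    rw [mulVec_mulVec, ← Units.val_mul, inv_mul_cancel, Units.val_one, one_mulVec]
  rw [← h1, h, mulVec_zero]

theorem act_mk (g : GL (Fin n) F) {v : Fin n → F} (hv : v ≠ 0) :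
    act n F g (Projectivization.mk F v hv) = Projectivization.mk F ((g : Matrix (Fin n) (Fin n) F) *ᵥ v) (mulVec_ne g hv) := by
  rfl

theorem act_fix (g : GL (Fin n) F) {v : Fin n → F} (hv : v ≠ 0) :
    act n F g (Projectivization.mk F v hv) = Projectivization.mk F v hv ↔
      ∃ c : F, (g : Matrix (Fin n) (Fin n) F) *ᵥ v = c • v := by
  rw [act_mk, Projectivization.mk_eq_mk_iff']
  constructor
  · rintro ⟨c, hc⟩; exact ⟨c, hc.symm⟩
  · rintro ⟨c, hc⟩; exact ⟨c, hc.symm⟩

theorem act_center : ∀ g ∈ center (GL (Fin n) F), act n F g = 1 := by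
  intro g hg
  obtain ⟨c, hc⟩ := Matrix.GeneralLinearGroup.mem_center_iff_val_mem_range_scalar.mp hg
  ext x
  induction x using Projectivization.ind with
  | h v hv =>
    rw [Perm.one_apply, act_fix]
    refine ⟨c, ?_⟩
    rw [← hc]
    ext i
    simp [Matrix.scalar_apply, Matrix.mulVec_diagonal]

/-- inverse transpose -/
def dl (n : ℕ) (F : Type*) [Field F] : GL (Fin n) F →* GL (Fin n) F where
  toFun g := ⟨((g⁻¹ : GL (Fin n) F) : Matrix (Fin n) (Fin n) F)ᵀ, (g : Matrix (Fin n) (Fin n) F)ᵀ,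
    by rw [← transpose_mul, ← Units.val_mul, mul_inv_cancel, Units.val_one, transpose_one],
    by rw [← transpose_mul, ← Units.val_mul, inv_mul_cancel, Units.val_one, transpose_one]⟩
  map_one' := by
    apply Units.ext
    change (((1 : GL (Fin n) F)⁻¹ : GL (Fin n) F) : Matrix (Fin n) (Fin n) F)ᵀ = 1
    rw [inv_one, Units.val_one, transpose_one]
  map_mul' g h := by
    apply Units.ext
    change (((g * h)⁻¹ : GL (Fin n) F) : Matrix (Fin n) (Fin n) F)ᵀ =
      ((g⁻¹ : GL (Fin n) F) : Matrix (Fin n) (Fin n) F)ᵀ * ((h⁻¹ : GL (Fin n) F) : Matrix (Fin n) (Fin n) F)ᵀ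
    rw [_root_.mul_inv_rev, Units.val_mul, transpose_mul]

theorem dl_center : ∀ g ∈ center (GL (Fin n) F), dl n F g ∈ center (GL (Fin n) F) := by
  intro g hg
  obtain ⟨c, hc⟩ := Matrix.GeneralLinearGroup.mem_center_iff_val_mem_range_scalar.mp (inv_mem hg)
  rw [Matrix.GeneralLinearGroup.mem_center_iff_val_mem_range_scalar]
  refine ⟨c, ?_⟩
  change Matrix.scalar (Fin n) c = ((g⁻¹ : GL (Fin n) F) : Matrix (Fin n) (Fin n) F)ᵀ
  rw [← hc]
  simp [Matrix.scalar_apply]

theorem dact_fix (g : GL (Fin n) F) {v : Fin n → F} (hv : v ≠ 0) :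
    act n F (dl n F g) (Projectivization.mk F v hv) = Projectivization.mk F v hv ↔
      ∃ c : F, (g : Matrix (Fin n) (Fin n) F)ᵀ *ᵥ v = c • v := by
  rw [act_fix]
  change (∃ c : F, ((g⁻¹ : GL (Fin n) F) : Matrix (Fin n) (Fin n) F)ᵀ *ᵥ v = c • v) ↔ _
  have key : ∀ A B : Matrix (Fin n) (Fin n) F, B * A = 1 → (∃ c : F, A *ᵥ v = c • v) → ∃ c : F, B *ᵥ v = c • v := by
    rintro A B hAB ⟨c, hc⟩
    have h1 : B *ᵥ (A *ᵥ v) = v := by rw [mulVec_mulVec, hAB, one_mulVec]
    rw [hc, mulVec_smul] at h1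
    have hc0 : c ≠ 0 := by
      rintro rfl
      rw [zero_smul] at h1
      exact hv h1.symm
    exact ⟨c⁻¹, by rw [← h1, smul_smul, inv_mul_cancel₀ hc0, one_smul, h1]⟩
  constructor
  · apply key
    rw [← transpose_mul, ← Units.val_mul, inv_mul_cancel, Units.val_one, transpose_one]
  · apply key
    rw [← transpose_mul, ← Units.val_mul, mul_inv_cancel, Units.val_one, transpose_one]

/-- action of the projective group -/
noncomputable def pact (n : ℕ) (F : Type*) [Field F] [Fintype F] :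
    GL (Fin n) F ⧸ center (GL (Fin n) F) →* Perm (Projectivization F (Fin n → F)) :=
  QuotientGroup.lift _ (act n F) (fun g hg => act_center g hg)

/-- dual action of the projective group -/
noncomputable def dact (n : ℕ) (F : Type*) [Field F] [Fintype F] :
    GL (Fin n) F ⧸ center (GL (Fin n) F) →* Perm (Projectivization F (Fin n → F)) :=
  QuotientGroup.lift _ ((act n F).comp (dl n F)) (fun g hg => act_center _ (dl_center g hg))

theorem not_dvd_card {p : ℕ} [hp : Fact p.Prime] (hpF : p ∣ Fintype.card F) (hn : 0 < n) :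
    ¬ p ∣ Nat.card (Projectivization F (Fin n → F)) := by
  obtain ⟨m, rfl⟩ : ∃ m, n = m + 1 := ⟨n - 1, by omega⟩
  rw [Projectivization.card_of_finrank F (Fin (m + 1) → F) (n := m + 1) (by simp), Finset.sum_range_succ',
    pow_zero]
  intro hd
  have h1 : p ∣ ∑ i ∈ Finset.range m, Nat.card F ^ (i + 1) := by
    apply Finset.dvd_sum
    intro i _
    rw [Nat.card_eq_fintype_card]
    exact dvd_pow hpF (by omega)
  exact hp.out.one_lt.ne' (Nat.dvd_one.mp ((Nat.dvd_add_right h1).mp hd))

/-- shift matrix -/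
def NN (n : ℕ) (F : Type*) [Field F] : Matrix (Fin n) (Fin n) F := Matrix.of fun i j => if (j : ℕ) = i + 1 then 1 else 0

theorem NN_mulVec (v : Fin n → F) (i : Fin n) : (NN n F *ᵥ v) i = if h : (i : ℕ) + 1 < n then v ⟨i + 1, h⟩ else 0 := by
  unfold NN
  rw [mulVec, dotProduct]
  split_ifs with h
  · rw [Finset.sum_eq_single ⟨i + 1, h⟩]
    · simp
    · intro j _ hj
      have : (j : ℕ) ≠ i + 1 := fun hc => hj (Fin.ext hc)
      simp [this]
    · intro hc; exact absurd (Finset.mem_univ _) hc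
  · apply Finset.sum_eq_zero
    intro j _
    have : (j : ℕ) ≠ i + 1 := by have := j.2; omega
    simp [this]

theorem NN_pow (k : ℕ) (v : Fin n → F) (i : Fin n) :
    ((NN n F ^ k) *ᵥ v) i = if h : (i : ℕ) + k < n then v ⟨i + k, h⟩ else 0 := by
  induction k generalizing i with
  | zero => simp
  | succ k ih =>
    rw [pow_succ', ← mulVec_mulVec, NN_mulVec]
    by_cases h : (i : ℕ) + 1 < n
    · rw [dif_pos h, ih]
      by_cases h2 : (i : ℕ) + 1 + k < n
      · rw [dif_pos (show ((⟨(i : ℕ) + 1, h⟩ : Fin n) : ℕ) + k < n from h2), dif_pos (by omega)]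
        congr 1
        apply Fin.ext
        change (i : ℕ) + 1 + k = i + (k + 1)
        omega
      · rw [dif_neg (show ¬ ((⟨(i : ℕ) + 1, h⟩ : Fin n) : ℕ) + k < n from h2), dif_neg (by omega)]
    · rw [dif_neg h, dif_neg (by omega)]

theorem NN_nil : NN n F ^ n = 0 := by
  apply Matrix.ext_of_mulVec_single
  intro i
  ext j
  rw [NN_pow, dif_neg (by omega), zero_mulVec]; rfl

/-- the regular unipotent element -/
def uu (n : ℕ) (F : Type*) [Field F] : SpecialLinearGroup (Fin n) F :=
  ⟨1 + NN n F, by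
    rw [Matrix.det_of_upperTriangular]
    · simp [NN]
    · intro i j hij
      have h1 : (j : ℕ) < i := hij
      have h2 : i ≠ j := fun h => by rw [h] at h1; omega
      have h3 : (j : ℕ) ≠ i + 1 := by omega
      simp [NN, h2, h3]⟩

theorem uu_coe_pow {p : ℕ} [hp : Fact p.Prime] [CharP F p] (hn : 0 < n) : (1 + NN n F) ^ p ^ n = 1 := by
  haveI : Nonempty (Fin n) := ⟨⟨0, hn⟩⟩
  rw [add_pow_char_pow_of_commute p n (Commute.one_left _), one_pow]
  have h1 : n ≤ p ^ n := (Nat.lt_pow_self hp.out.one_lt).le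
  have h2 : NN n F ^ p ^ n = 0 := pow_eq_zero_of_le h1 NN_nil
  rw [h2, add_zero]

theorem uu_pow {p : ℕ} [hp : Fact p.Prime] [CharP F p] (hn : 0 < n) : uu n F ^ p ^ n = 1 := by
  apply Subtype.ext
  have h := Matrix.SpecialLinearGroup.coe_pow (uu n F) (p ^ n)
  exact h.trans (uu_coe_pow hn)

theorem eig_one {p : ℕ} [hp : Fact p.Prime] [CharP F p] {M : Matrix (Fin n) (Fin n) F} {k : ℕ} (hM : M ^ p ^ k = 1)
    {v : Fin n → F} (hv : v ≠ 0) {c : F} (h : M *ᵥ v = c • v) : c = 1 := by
  have h1 : ∀ m : ℕ, (M ^ m) *ᵥ v = c ^ m • v := by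
    intro m
    induction m with
    | zero => simp
    | succ m ih => rw [pow_succ', ← mulVec_mulVec, ih, mulVec_smul, h, smul_smul, pow_succ]
  have h2 := h1 (p ^ k)
  rw [hM, one_mulVec] at h2
  have h3 : (c ^ p ^ k - 1) • v = 0 := by rw [sub_smul, one_smul, ← h2, sub_self]
  have h4 := (smul_eq_zero.mp h3).resolve_right hv
  have h5 : (c - 1) ^ p ^ k = 0 := by rw [sub_pow_char_pow c 1, one_pow]; exact h4
  exact sub_eq_zero.mp (pow_eq_zero_iff (pow_pos hp.out.pos k).ne' |>.mp h5)

theorem uu_fix {p : ℕ} [hp : Fact p.Prime] [CharP F p] (hn : 0 < n) (x : Projectivization F (Fin n → F)) :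
    act n F (SpecialLinearGroup.toGL (uu n F)) x = x ↔
      x = Projectivization.mk F (Pi.single (⟨0, hn⟩ : Fin n) (1 : F)) (by simp) := by
  induction x using Projectivization.ind with
  | h v hv =>
    rw [act_fix, Projectivization.mk_eq_mk_iff']
    change (∃ c : F, (1 + NN n F) *ᵥ v = c • v) ↔ _
    constructor
    · rintro ⟨c, hc⟩
      have h1 := eig_one (uu_coe_pow (F := F) (p := p) hn) hv hc
      rw [h1, one_smul, add_mulVec, one_mulVec, add_eq_left] at hc
      refine ⟨v ⟨0, hn⟩, ?_⟩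
      ext i
      by_cases h0 : i = ⟨0, hn⟩
      · subst h0; simp
      · have h2 : 0 < (i : ℕ) := Nat.pos_of_ne_zero (fun h => h0 (Fin.ext h))
        have h3 := congrFun hc ⟨(i : ℕ) - 1, by omega⟩
        rw [NN_mulVec, dif_pos (show (i : ℕ) - 1 + 1 < n by omega)] at h3
        have h4 : (⟨(i : ℕ) - 1 + 1, by omega⟩ : Fin n) = i := Fin.ext (by simp; omega)
        have h5 : v i = 0 := by rw [← h4]; exact h3
        simp [h0, h5]
    · rintro ⟨c, hc⟩
      refine ⟨1, ?_⟩
      rw [add_mulVec, one_mulVec, one_smul, add_eq_left]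
      ext i
      rw [NN_mulVec]
      split_ifs with h
      · rw [← hc]
        have : (⟨(i : ℕ) + 1, h⟩ : Fin n) ≠ ⟨0, hn⟩ := fun h => by
          have := congrArg Fin.val h
          simp at this
        simp [this]
      · rfl

theorem uu_dfix {p : ℕ} [hp : Fact p.Prime] [CharP F p] (hn : 0 < n) (x : Projectivization F (Fin n → F)) :
    act n F (dl n F (SpecialLinearGroup.toGL (uu n F))) x = x ↔
      x = Projectivization.mk F (Pi.single (⟨n - 1, by omega⟩ : Fin n) (1 : F)) (by simp) := by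
  have hT : ∀ (w : Fin n → F) (i : ℕ) (h : i + 1 < n), ((NN n F)ᵀ *ᵥ w) ⟨i + 1, h⟩ = w ⟨i, by omega⟩ := by
    intro w i h
    rw [mulVec, dotProduct, Finset.sum_eq_single ⟨i, by omega⟩]
    · simp [NN]
    · intro j _ hj
      have : i ≠ (j : ℕ) := fun hc => hj (Fin.ext hc.symm)
      simp [NN, this]
    · intro hc; exact absurd (Finset.mem_univ _) hc
  have hT0 : ∀ (w : Fin n → F), ((NN n F)ᵀ *ᵥ w) ⟨0, hn⟩ = 0 := by
    intro w
    rw [mulVec, dotProduct]
    apply Finset.sum_eq_zero
    intro j _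
    simp [NN]
  induction x using Projectivization.ind with
  | h v hv =>
    rw [dact_fix, Projectivization.mk_eq_mk_iff']
    change (∃ c : F, (1 + NN n F)ᵀ *ᵥ v = c • v) ↔ _
    constructor
    · rintro ⟨c, hc⟩
      have hpow : ((1 + NN n F)ᵀ) ^ p ^ n = 1 := by
        rw [← transpose_pow, uu_coe_pow (F := F) (p := p) hn, transpose_one]
      have h1 := eig_one hpow hv hc
      rw [h1, one_smul, transpose_add, transpose_one, add_mulVec, one_mulVec, add_eq_left] at hc
      refine ⟨v ⟨n - 1, by omega⟩, ?_⟩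
      ext i
      by_cases h0 : i = ⟨n - 1, by omega⟩
      · subst h0; simp
      · have h2 : (i : ℕ) + 1 < n := by
          have := i.2
          have h3 : (i : ℕ) ≠ n - 1 := fun h => h0 (Fin.ext h)
          omega
        have h3 := congrFun hc ⟨(i : ℕ) + 1, h2⟩
        rw [hT] at h3
        have h5 : v i = 0 := h3
        simp [h0, h5]
    · rintro ⟨c, hc⟩
      refine ⟨1, ?_⟩
      rw [transpose_add, transpose_one, add_mulVec, one_mulVec, one_smul, add_eq_left]
      ext i
      by_cases h0 : (i : ℕ) = 0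
      · have : i = ⟨0, hn⟩ := Fin.ext h0
        rw [this, hT0]; rfl
      · obtain ⟨j, hj⟩ : ∃ j, (i : ℕ) = j + 1 := ⟨(i : ℕ) - 1, by omega⟩
        have hi : i = ⟨j + 1, by have := i.2; omega⟩ := Fin.ext hj
        rw [hi, hT, ← hc]
        have : (⟨j, by have := i.2; omega⟩ : Fin n) ≠ ⟨n - 1, by omega⟩ := fun h => by
          have h6 := congrArg Fin.val h
          have := i.2
          simp at h6
          omega
        simp [this]

end Cfsg.Agent.H18.NilCover
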