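import Cfsg.Agent.H18.NilCover4

set_option autoImplicit false
set_option linter.unusedSectionVars false
set_option linter.style.haveILetI false
set_option linter.unusedVariables false

/-! Nilpotent minimal covers: linear groups of degree at least three. -/

namespace Cfsg.Agent.H18.NilCover

open Subgroup Equiv Matrix

variable {F : Type*} [Field F] [Fintype F] {n : ℕ}

/-- images of special linear matrices -/
noncomputable def el {G : Subgroup (GL (Fin n) F ⧸ center (GL (Fin n) F))}
    (hG : ((Matrix.SpecialLinearGroup.toGL : Matrix.SpecialLinearGroup (Fin n) F →* GL (Fin n) F).range).map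
      (QuotientGroup.mk' (center (GL (Fin n) F))) ≤ G) : Matrix.SpecialLinearGroup (Fin n) F →* G :=
  ((QuotientGroup.mk' (center (GL (Fin n) F))).comp
    (Matrix.SpecialLinearGroup.toGL : Matrix.SpecialLinearGroup (Fin n) F →* GL (Fin n) F)).codRestrict G
    (fun s => hG (mem_map_of_mem _ ⟨s, rfl⟩))

theorem pact_el {G : Subgroup (GL (Fin n) F ⧸ center (GL (Fin n) F))}
    (hG : ((Matrix.SpecialLinearGroup.toGL : Matrix.SpecialLinearGroup (Fin n) F →* GL (Fin n) F).range).map
      (QuotientGroup.mk' (center (GL (Fin n) F))) ≤ G) (s : Matrix.SpecialLinearGroup (Fin n) F) :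
    ((pact n F).comp G.subtype) (el hG s) = act n F (Matrix.SpecialLinearGroup.toGL s) := rfl

theorem dact_el {G : Subgroup (GL (Fin n) F ⧸ center (GL (Fin n) F))}
    (hG : ((Matrix.SpecialLinearGroup.toGL : Matrix.SpecialLinearGroup (Fin n) F →* GL (Fin n) F).range).map
      (QuotientGroup.mk' (center (GL (Fin n) F))) ≤ G) (s : Matrix.SpecialLinearGroup (Fin n) F) :
    ((dact n F).comp G.subtype) (el hG s) = act n F (dl n F (Matrix.SpecialLinearGroup.toGL s)) := rfl

/-- transvections -/
def tvv (i j : Fin n) (h : i ≠ j) : Matrix.SpecialLinearGroup (Fin n) F :=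
  ⟨Matrix.transvection i j (1 : F), Matrix.det_transvection_of_ne i j h 1⟩

theorem tvv_apply (i j : Fin n) (h : i ≠ j) (a b : Fin n) :
    (Matrix.transvection i j (1 : F)) a b = (if a = b then 1 else 0) + (if i = a ∧ j = b then 1 else 0) := by
  simp [Matrix.transvection, Matrix.one_apply, Matrix.single_apply]

theorem tvv_fix {i j k : Fin n} (h : i ≠ j) (hk : j ≠ k) :
    act n F (Matrix.SpecialLinearGroup.toGL (tvv i j h)) (Projectivization.mk F (Pi.single k (1 : F)) (by simp)) =
      Projectivization.mk F (Pi.single k (1 : F)) (by simp) := by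
  rw [act_fix]
  refine ⟨1, ?_⟩
  change Matrix.transvection i j (1 : F) *ᵥ Pi.single k 1 = _
  rw [Matrix.mulVec_single_one, one_smul]
  ext a
  rw [Matrix.col_apply, tvv_apply i j h]
  by_cases hak : a = k
  · subst hak; simp [hk]
  · simp [hak, hk]

theorem tvv_move {i j : Fin n} (h : i ≠ j) :
    act n F (Matrix.SpecialLinearGroup.toGL (tvv i j h)) (Projectivization.mk F (Pi.single j (1 : F)) (by simp)) ≠
      Projectivization.mk F (Pi.single j (1 : F)) (by simp) := by
  intro hc
  rw [act_fix] at hc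
  obtain ⟨c, hc⟩ := hc
  change Matrix.transvection i j (1 : F) *ᵥ Pi.single j 1 = _ at hc
  rw [Matrix.mulVec_single_one] at hc
  have h1 := congrFun hc i
  rw [Matrix.col_apply, tvv_apply i j h] at h1
  simp [h] at h1

theorem tvv_dmove {i j : Fin n} (h : i ≠ j) :
    act n F (dl n F (Matrix.SpecialLinearGroup.toGL (tvv i j h))) (Projectivization.mk F (Pi.single i (1 : F)) (by simp)) ≠
      Projectivization.mk F (Pi.single i (1 : F)) (by simp) := by
  intro hc
  rw [dact_fix] at hc
  obtain ⟨c, hc⟩ := hc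
  change (Matrix.transvection i j (1 : F))ᵀ *ᵥ Pi.single i 1 = _ at hc
  rw [Matrix.mulVec_single_one] at hc
  have h1 := congrFun hc j
  rw [Matrix.col_apply, Matrix.transpose_apply, tvv_apply i j h] at h1
  simp [h, h.symm] at h1

theorem exists_char (F : Type*) [Field F] [Fintype F] : ∃ p : ℕ, ∃ (_ : Fact p.Prime), ∃ (_ : CharP F p), p ∣ Fintype.card F := by
  obtain ⟨p, hp⟩ := CharP.exists F
  haveI := hp
  exact ⟨p, ⟨CharP.char_is_prime F p⟩, hp, (CharP.cast_eq_zero_iff F p _).mp (FiniteField.cast_card_eq_zero F)⟩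

theorem ge_three (hn : 3 ≤ n) {G : Subgroup (GL (Fin n) F ⧸ center (GL (Fin n) F))}
    (hG : ((Matrix.SpecialLinearGroup.toGL : Matrix.SpecialLinearGroup (Fin n) F →* GL (Fin n) F).range).map
      (QuotientGroup.mk' (center (GL (Fin n) F))) ≤ G) {𝓐 : Finset (Subgroup ↥G)} (h : MinCover 𝓐)
    (hnil : ∀ A ∈ 𝓐, Group.IsNilpotent ↥A) : False := by
  classical
  obtain ⟨p, hp, hc, hpF⟩ := exists_char F
  have hX := not_dvd_card (F := F) (n := n) hpF (by omega)
  haveI : Finite (Projectivization F (Fin n → F)) := inferInstance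
  have hij : (⟨n - 1, by omega⟩ : Fin n) ≠ ⟨1, by omega⟩ := fun h => by
    have := congrArg Fin.val h
    simp at this
    omega
  have h10 : (⟨1, by omega⟩ : Fin n) ≠ ⟨0, by omega⟩ := fun h => by
    have := congrArg Fin.val h
    simp at this
  refine two_actions (p := p) ((pact n F).comp G.subtype) ((dact n F).comp G.subtype) hX hX h hnil
    (u := el hG (uu n F)) (k := n) (by rw [← map_pow, uu_pow (by omega), map_one])
    (x0 := Projectivization.mk F (Pi.single (⟨0, by omega⟩ : Fin n) (1 : F)) (by simp)) ?_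
    (y0 := Projectivization.mk F (Pi.single (⟨n - 1, by omega⟩ : Fin n) (1 : F)) (by simp)) ?_
    (g := el hG (tvv _ _ hij)) (g0 := el hG (tvv _ _ h10)) ?_ ?_ ?_
  · intro x
    rw [pact_el]
    exact uu_fix (p := p) (by omega) x
  · intro x
    rw [dact_el]
    exact uu_dfix (p := p) (by omega) x
  · rw [pact_el]
    exact tvv_fix hij h10
  · rw [dact_el]
    exact tvv_dmove hij
  · rw [pact_el]
    exact tvv_move h10

end Cfsg.Agent.H18.NilCover
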