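import Cfsg.Agent.H18.NilCover5

set_option autoImplicit false
set_option linter.unusedSectionVars false
set_option linter.style.haveILetI false
set_option linter.unusedVariables false

/-! Nilpotent minimal covers: linear groups of degree two. -/

namespace Cfsg.Agent.H18.NilCover

open Subgroup Equiv Matrix

variable {F : Type*} [Field F] [Fintype F]

theorem mk2 {v w : Fin 2 → F} (hv : v ≠ 0) (hw : w ≠ 0) :
    Projectivization.mk F v hv = Projectivization.mk F w hw ↔ v 0 * w 1 = v 1 * w 0 := by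
  rw [Projectivization.mk_eq_mk_iff']
  constructor
  · rintro ⟨a, rfl⟩
    simp only [Pi.smul_apply, smul_eq_mul]
    ring
  · intro h
    by_cases h0 : w 0 = 0
    · have h1 : w 1 ≠ 0 := by
        intro h1
        apply hw
        ext i; fin_cases i
        · exact h0
        · exact h1
      refine ⟨v 1 / w 1, ?_⟩
      rw [h0, mul_zero] at h
      have h2 : v 0 = 0 := (mul_eq_zero.mp h).resolve_right h1
      ext i; fin_cases i
      · change v 1 / w 1 * w 0 = v 0
        rw [h0, h2, mul_zero]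
      · change v 1 / w 1 * w 1 = v 1
        field_simp
    · refine ⟨v 0 / w 0, ?_⟩
      ext i; fin_cases i
      · change v 0 / w 0 * w 0 = v 0
        field_simp
      · change v 0 / w 0 * w 1 = v 1
        field_simp
        linear_combination h

theorem act2 (K : Matrix.SpecialLinearGroup (Fin 2) F) {v : Fin 2 → F} (hv : v ≠ 0) :
    act 2 F (Matrix.SpecialLinearGroup.toGL K) (Projectivization.mk F v hv) = Projectivization.mk F v hv ↔
      (K.1 0 0 * v 0 + K.1 0 1 * v 1) * v 1 = (K.1 1 0 * v 0 + K.1 1 1 * v 1) * v 0 := by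
  rw [act_mk, mk2]
  have e0 : ((Matrix.SpecialLinearGroup.toGL K : GL (Fin 2) F) : Matrix (Fin 2) (Fin 2) F) = K.1 := rfl
  rw [e0, mulVec, mulVec, dotProduct, dotProduct, Fin.sum_univ_two, Fin.sum_univ_two]

theorem vne (x y : F) (h : x ≠ 0 ∨ y ≠ 0) : (![x, y] : Fin 2 → F) ≠ 0 := by
  intro h0
  rcases h with h | h
  · exact h (by simpa using congrFun h0 0)
  · exact h (by simpa using congrFun h0 1)

theorem exists_fix (K : Matrix.SpecialLinearGroup (Fin 2) F) (x y : F) (h : x ≠ 0 ∨ y ≠ 0)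
    (e : (K.1 0 0 * x + K.1 0 1 * y) * y = (K.1 1 0 * x + K.1 1 1 * y) * x) :
    ∃ z, act 2 F (Matrix.SpecialLinearGroup.toGL K) z = z :=
  ⟨_, (act2 K (vne x y h)).mpr e⟩

theorem det2 (K : Matrix.SpecialLinearGroup (Fin 2) F) : K.1 0 0 * K.1 1 1 - K.1 0 1 * K.1 1 0 = 1 := by
  have := K.2
  rwa [Matrix.det_fin_two] at this

/-- commuting classes -/
theorem comm_lift {a b : GL (Fin 2) F}
    (h : (QuotientGroup.mk' (center (GL (Fin 2) F))) a * (QuotientGroup.mk' (center (GL (Fin 2) F))) b =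
      (QuotientGroup.mk' (center (GL (Fin 2) F))) b * (QuotientGroup.mk' (center (GL (Fin 2) F))) a) :
    ∃ c : F, (a : Matrix (Fin 2) (Fin 2) F) * (b : Matrix (Fin 2) (Fin 2) F) =
      c • ((b : Matrix (Fin 2) (Fin 2) F) * (a : Matrix (Fin 2) (Fin 2) F)) := by
  rw [← map_mul, ← map_mul] at h
  have h1 : (b * a)⁻¹ * (a * b) ∈ center (GL (Fin 2) F) := QuotientGroup.eq.mp h.symm
  obtain ⟨c, hc⟩ := Matrix.GeneralLinearGroup.mem_center_iff_val_mem_range_scalar.mp h1
  refine ⟨c, ?_⟩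
  have h2 : a * b = (b * a) * ((b * a)⁻¹ * (a * b)) := by group
  have h3 := congrArg (fun z : GL (Fin 2) F => (z : Matrix (Fin 2) (Fin 2) F)) h2
  change (a : Matrix (Fin 2) (Fin 2) F) * (b : Matrix (Fin 2) (Fin 2) F) =
    ((b * a : GL (Fin 2) F) : Matrix (Fin 2) (Fin 2) F) * (((b * a)⁻¹ * (a * b) : GL (Fin 2) F) : Matrix (Fin 2) (Fin 2) F) at h3
  rw [h3, ← hc, Matrix.scalar_apply, ← Matrix.smul_one_eq_diagonal, Matrix.mul_smul, Matrix.mul_one]
  rfl

/-- commuting classes of special matrices -/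
theorem comm_lift_sl {a b : Matrix.SpecialLinearGroup (Fin 2) F}
    (h : (QuotientGroup.mk' (center (GL (Fin 2) F))) (Matrix.SpecialLinearGroup.toGL a) *
        (QuotientGroup.mk' (center (GL (Fin 2) F))) (Matrix.SpecialLinearGroup.toGL b) =
      (QuotientGroup.mk' (center (GL (Fin 2) F))) (Matrix.SpecialLinearGroup.toGL b) *
        (QuotientGroup.mk' (center (GL (Fin 2) F))) (Matrix.SpecialLinearGroup.toGL a)) :
    a.1 * b.1 = b.1 * a.1 ∨ a.1 * b.1 = - (b.1 * a.1) := by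
  obtain ⟨c, hc⟩ := comm_lift h
  change a.1 * b.1 = c • (b.1 * a.1) at hc
  have h1 := congrArg Matrix.det hc
  rw [Matrix.det_smul, Matrix.det_mul, Matrix.det_mul, a.2, b.2, Fintype.card_fin] at h1
  have h2 : (c - 1) * (c + 1) = 0 := by linear_combination -h1
  rcases mul_eq_zero.mp h2 with h3 | h3
  · left
    rw [hc, sub_eq_zero.mp h3, one_smul]
  · right
    rw [hc, eq_neg_of_add_eq_zero_left h3, neg_smul, one_smul]

/-- determinant a square -/
theorem sq_mem (A : GL (Fin 2) F) (s : F) (hs : (A : Matrix (Fin 2) (Fin 2) F).det = s * s) :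
    QuotientGroup.mk' (center (GL (Fin 2) F)) A ∈
      ((Matrix.SpecialLinearGroup.toGL : Matrix.SpecialLinearGroup (Fin 2) F →* GL (Fin 2) F).range).map
        (QuotientGroup.mk' (center (GL (Fin 2) F))) := by
  have hdet : (A : Matrix (Fin 2) (Fin 2) F).det ≠ 0 := by
    have h1 : (A : Matrix (Fin 2) (Fin 2) F) * ((A⁻¹ : GL (Fin 2) F) : Matrix (Fin 2) (Fin 2) F) = 1 := by
      rw [← Units.val_mul, mul_inv_cancel, Units.val_one]
    have h2 := congrArg Matrix.det h1
    rw [Matrix.det_mul, Matrix.det_one] at h2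
    exact left_ne_zero_of_mul_eq_one h2
  have hs0 : s ≠ 0 := by
    rintro rfl
    rw [mul_zero] at hs
    exact hdet hs
  let M : Matrix.SpecialLinearGroup (Fin 2) F := ⟨s⁻¹ • (A : Matrix (Fin 2) (Fin 2) F), by
    rw [Matrix.det_smul, hs, Fintype.card_fin]
    field_simp⟩
  let Z : GL (Fin 2) F := ⟨Matrix.scalar (Fin 2) s, Matrix.scalar (Fin 2) s⁻¹,
    by rw [← map_mul, mul_inv_cancel₀ hs0, map_one], by rw [← map_mul, inv_mul_cancel₀ hs0, map_one]⟩
  have hZ : Z ∈ center (GL (Fin 2) F) :=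
    Matrix.GeneralLinearGroup.mem_center_iff_val_mem_range_scalar.mpr ⟨s, rfl⟩
  have hA : A = Matrix.SpecialLinearGroup.toGL M * Z := by
    apply Units.ext
    change (A : Matrix (Fin 2) (Fin 2) F) = (s⁻¹ • (A : Matrix (Fin 2) (Fin 2) F)) * Matrix.scalar (Fin 2) s
    rw [Matrix.scalar_apply, ← Matrix.smul_one_eq_diagonal, Matrix.mul_smul, Matrix.mul_one, smul_smul,
      mul_inv_cancel₀ hs0, one_smul]
  refine ⟨Matrix.SpecialLinearGroup.toGL M, ⟨M, rfl⟩, ?_⟩
  have h1 : QuotientGroup.mk' (center (GL (Fin 2) F)) Z = 1 := (QuotientGroup.eq_one_iff Z).mpr hZ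
  rw [hA, map_mul, h1, mul_one]

theorem range_normal : (((Matrix.SpecialLinearGroup.toGL : Matrix.SpecialLinearGroup (Fin 2) F →* GL (Fin 2) F).range).map
        (QuotientGroup.mk' (center (GL (Fin 2) F)))).Normal := by
  haveI : ((Matrix.SpecialLinearGroup.toGL : Matrix.SpecialLinearGroup (Fin 2) F →* GL (Fin 2) F).range).Normal := by
    constructor
    rintro _ ⟨s, rfl⟩ g
    refine ⟨⟨(g : Matrix (Fin 2) (Fin 2) F) * s.1 * ((g⁻¹ : GL (Fin 2) F) : Matrix (Fin 2) (Fin 2) F), ?_⟩, ?_⟩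
    · rw [Matrix.det_mul, Matrix.det_mul, s.2, mul_one, ← Matrix.det_mul, ← Units.val_mul, mul_inv_cancel, Units.val_one,
        Matrix.det_one]
    · apply Units.ext
      rfl
  exact Subgroup.Normal.map inferInstance _ (QuotientGroup.mk'_surjective _)

/-- commuting with the unipotent element -/
theorem comm_uu {A : GL (Fin 2) F} {c : F}
    (h : (A : Matrix (Fin 2) (Fin 2) F) * (1 + NN 2 F) = c • ((1 + NN 2 F) * (A : Matrix (Fin 2) (Fin 2) F))) :
    ∃ s, (A : Matrix (Fin 2) (Fin 2) F).det = s * s := by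
  have hdet : (A : Matrix (Fin 2) (Fin 2) F).det ≠ 0 := by
    have h1 : (A : Matrix (Fin 2) (Fin 2) F) * ((A⁻¹ : GL (Fin 2) F) : Matrix (Fin 2) (Fin 2) F) = 1 := by
      rw [← Units.val_mul, mul_inv_cancel, Units.val_one]
    have h2 := congrArg Matrix.det h1
    rw [Matrix.det_mul, Matrix.det_one] at h2
    exact left_ne_zero_of_mul_eq_one h2
  have e00 := congrFun (congrFun h 0) 0
  have e01 := congrFun (congrFun h 0) 1
  have e10 := congrFun (congrFun h 1) 0
  have e11 := congrFun (congrFun h 1) 1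
  simp [Matrix.mul_apply, Fin.sum_univ_two, NN, Matrix.one_apply] at e00 e01 e10 e11
  rw [Matrix.det_fin_two] at hdet ⊢
  obtain ⟨x, hx⟩ : ∃ x, x = (A : Matrix (Fin 2) (Fin 2) F) 0 0 := ⟨_, rfl⟩
  obtain ⟨y, hy⟩ : ∃ x, x = (A : Matrix (Fin 2) (Fin 2) F) 0 1 := ⟨_, rfl⟩
  obtain ⟨z, hz⟩ : ∃ x, x = (A : Matrix (Fin 2) (Fin 2) F) 1 0 := ⟨_, rfl⟩
  obtain ⟨w, hw⟩ : ∃ x, x = (A : Matrix (Fin 2) (Fin 2) F) 1 1 := ⟨_, rfl⟩
  rw [← hx, ← hy, ← hz, ← hw] at hdet ⊢
  rw [← hx, ← hz] at e00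
  rw [← hx, ← hy, ← hw] at e01
  rw [← hz] at e10
  rw [← hz, ← hw] at e11
  have hz0 : z = 0 := by
    by_contra hz0
    have hc : c = 1 := by
      have h1 : (c - 1) * z = 0 := by linear_combination -e10
      exact sub_eq_zero.mp ((mul_eq_zero.mp h1).resolve_right hz0)
    rw [hc] at e00
    apply hz0
    linear_combination -e00
  rw [hz0] at e00 hdet ⊢
  have hx0 : x ≠ 0 := by
    rintro rfl
    apply hdet; ring
  have hc : c = 1 := by
    have h1 : (c - 1) * x = 0 := by linear_combination -e00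
    exact sub_eq_zero.mp ((mul_eq_zero.mp h1).resolve_right hx0)
  rw [hc] at e01
  refine ⟨x, ?_⟩
  have : w = x := by linear_combination -e01
  rw [this]; ring

end Cfsg.Agent.H18.NilCover
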