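import Cfsg.Agent.H18.NilCover6

set_option autoImplicit false
set_option linter.unusedSectionVars false
set_option linter.style.haveILetI false
set_option linter.unusedVariables false
set_option maxHeartbeats 1000000

/-! Nilpotent minimal covers: linear groups of degree two, the torus argument. -/

namespace Cfsg.Agent.H18.NilCover

open Subgroup Equiv Matrix

variable {F : Type*} [Field F] [Fintype F]

/-- the torus element -/
def DD (a : F) (ha : a ≠ 0) : Matrix.SpecialLinearGroup (Fin 2) F :=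
  ⟨!![a, 0; 0, a⁻¹], by rw [Matrix.det_fin_two_of, mul_zero, sub_zero, mul_inv_cancel₀ ha]⟩

theorem entries {P Q : Matrix (Fin 2) (Fin 2) F} (h : P = Q) : P 0 0 = Q 0 0 ∧ P 0 1 = Q 0 1 ∧ P 1 0 = Q 1 0 ∧ P 1 1 = Q 1 1 := by
  subst h; exact ⟨rfl, rfl, rfl, rfl⟩

theorem z_forms {a : F} (ha0 : a ≠ 0) (ha : a * a ≠ 1) {M : Matrix.SpecialLinearGroup (Fin 2) F}
    (h : M.1 * (DD a ha0).1 = (DD a ha0).1 * M.1 ∨ M.1 * (DD a ha0).1 = - ((DD a ha0).1 * M.1)) :
    (M.1 0 1 = 0 ∧ M.1 1 0 = 0) ∨ (M.1 0 0 = 0 ∧ M.1 1 1 = 0 ∧ a * a = -1 ∧ (2 : F) ≠ 0) := by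
  obtain ⟨b, hb⟩ : ∃ b, b = a⁻¹ := ⟨_, rfl⟩
  have hab : a * b = 1 := by rw [hb, mul_inv_cancel₀ ha0]
  have hb0 : b ≠ 0 := by rw [hb]; exact inv_ne_zero ha0
  have hne : a - b ≠ 0 := by
    intro h1
    apply ha
    linear_combination a * h1 + hab
  have hdet := det2 M
  have hD : (DD a ha0).1 = !![a, 0; 0, b] := by rw [hb]; rfl
  rw [hD] at h
  have first : M.1 * !![a, 0; 0, b] = !![a, 0; 0, b] * M.1 → M.1 0 1 = 0 ∧ M.1 1 0 = 0 := by
    intro h
    obtain ⟨e00, e01, e10, e11⟩ := entries h
    simp only [Matrix.mul_apply, Fin.sum_univ_two, Matrix.of_apply, Matrix.cons_val', Matrix.cons_val_zero,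
      Matrix.cons_val_one, Matrix.cons_val_fin_one] at e00 e01 e10 e11
    constructor
    · have h1 : (a - b) * M.1 0 1 = 0 := by linear_combination -e01
      exact (mul_eq_zero.mp h1).resolve_left hne
    · have h1 : (a - b) * M.1 1 0 = 0 := by linear_combination e10
      exact (mul_eq_zero.mp h1).resolve_left hne
  rcases h with h | h
  · exact Or.inl (first h)
  · by_cases h2 : (2 : F) = 0
    · left
      apply first
      rw [h]
      have h3 : (-1 : F) = 1 := by linear_combination -h2
      rw [← neg_one_smul F (!![a, 0; 0, b] * M.1), h3, one_smul]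
    · right
      obtain ⟨e00, e01, e10, e11⟩ := entries h
      simp only [Matrix.mul_apply, Fin.sum_univ_two, Matrix.of_apply, Matrix.cons_val', Matrix.cons_val_zero,
        Matrix.cons_val_one, Matrix.cons_val_fin_one, Matrix.neg_apply] at e00 e01 e10 e11
      have h00 : M.1 0 0 = 0 := by
        have h1 : 2 * a * M.1 0 0 = 0 := by linear_combination e00
        exact (mul_eq_zero.mp h1).resolve_left (mul_ne_zero h2 ha0)
      have h11 : M.1 1 1 = 0 := by
        have h1 : 2 * b * M.1 1 1 = 0 := by linear_combination e11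
        exact (mul_eq_zero.mp h1).resolve_left (mul_ne_zero h2 hb0)
      refine ⟨h00, h11, ?_, h2⟩
      have h01 : M.1 0 1 ≠ 0 := by
        intro h01
        rw [h00, h01] at hdet
        simp at hdet
      have h3 : (a + b) * M.1 0 1 = 0 := by linear_combination e01
      have h4 := (mul_eq_zero.mp h3).resolve_right h01
      linear_combination a * h4 - hab

/-- fixed points of a nonscalar diagonal matrix -/
theorem diag_fix {M : Matrix.SpecialLinearGroup (Fin 2) F} (h01 : M.1 0 1 = 0) (h10 : M.1 1 0 = 0)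
    (hne : M.1 0 0 ≠ M.1 1 1) : ∃ a b, a ≠ b ∧ ∀ x, act 2 F (Matrix.SpecialLinearGroup.toGL M) x = x ↔ (x = a ∨ x = b) := by
  refine ⟨Projectivization.mk F ![1, 0] (vne _ _ (Or.inl one_ne_zero)),
    Projectivization.mk F ![0, 1] (vne _ _ (Or.inr one_ne_zero)), ?_, ?_⟩
  · rw [Ne, mk2]; simp
  · intro x
    induction x using Projectivization.ind with
    | h v hv =>
      rw [act2, mk2, mk2, h01, h10]
      simp only [Matrix.cons_val_zero, Matrix.cons_val_one, mul_zero, mul_one]
      constructor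
      · intro h
        have h1 : (M.1 0 0 - M.1 1 1) * (v 0 * v 1) = 0 := by linear_combination h
        rcases mul_eq_zero.mp ((mul_eq_zero.mp h1).resolve_left (sub_ne_zero.mpr hne)) with h2 | h2
        · right; exact h2
        · left; exact h2.symm
      · rintro (h | h)
        · rw [← h]; ring
        · rw [h]; ring

/-- fixed points of an antidiagonal matrix -/
theorem anti_fix {M : Matrix.SpecialLinearGroup (Fin 2) F} (h00 : M.1 0 0 = 0) (h11 : M.1 1 1 = 0) {a : F}
    (ha : a * a = -1) (h2 : (2 : F) ≠ 0) :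
    ∃ a b, a ≠ b ∧ ∀ x, act 2 F (Matrix.SpecialLinearGroup.toGL M) x = x ↔ (x = a ∨ x = b) := by
  have hdet := det2 M
  rw [h00, h11, mul_zero, zero_sub] at hdet
  have hb : M.1 0 1 ≠ 0 := by
    intro h; rw [h] at hdet; simp at hdet
  have ha0 : a ≠ 0 := by
    rintro rfl
    simp at ha
  refine ⟨Projectivization.mk F ![M.1 0 1, a] (vne _ _ (Or.inl hb)),
    Projectivization.mk F ![M.1 0 1, -a] (vne _ _ (Or.inl hb)), ?_, ?_⟩
  · rw [Ne, mk2]
    simp only [Matrix.cons_val_zero, Matrix.cons_val_one]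
    intro h
    have h3 : 2 * (a * M.1 0 1) = 0 := by linear_combination -h
    rcases mul_eq_zero.mp h3 with h4 | h4
    · exact h2 h4
    · exact mul_ne_zero ha0 hb h4
  · intro x
    induction x using Projectivization.ind with
    | h v hv =>
      rw [act2, mk2, mk2, h00, h11]
      simp only [Matrix.cons_val_zero, Matrix.cons_val_one]
      constructor
      · intro h
        have h3 : (v 0 * a - v 1 * M.1 0 1) * (v 0 * a + v 1 * M.1 0 1) = 0 := by
          linear_combination -M.1 0 1 * h + (v 0) ^ 2 * ha + (v 0) ^ 2 * hdet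
        rcases mul_eq_zero.mp h3 with h4 | h4
        · left; linear_combination h4
        · right; linear_combination -h4
      · rintro (h | h)
        · apply mul_left_cancel₀ hb
          linear_combination (-(v 1 * M.1 0 1) - v 0 * a) * h + (v 0) ^ 2 * ha + (v 0) ^ 2 * hdet
        · apply mul_left_cancel₀ hb
          linear_combination (-(v 1 * M.1 0 1) + v 0 * a) * h + (v 0) ^ 2 * ha + (v 0) ^ 2 * hdet

/-- elements commuting with a diagonal matrix up to sign have fixed points -/
theorem fix_diag {M K : Matrix.SpecialLinearGroup (Fin 2) F} (h01 : M.1 0 1 = 0) (h10 : M.1 1 0 = 0)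
    (hne : M.1 0 0 ≠ M.1 1 1) (h : K.1 * M.1 = M.1 * K.1 ∨ K.1 * M.1 = - (M.1 * K.1)) :
    ∃ x, act 2 F (Matrix.SpecialLinearGroup.toGL K) x = x := by
  have hdet := det2 M
  rw [h01, h10, mul_zero, sub_zero] at hdet
  have hdK := det2 K
  have first : K.1 * M.1 = M.1 * K.1 → ∃ x, act 2 F (Matrix.SpecialLinearGroup.toGL K) x = x := by
    intro h
    obtain ⟨e00, e01, e10, e11⟩ := entries h
    simp only [Matrix.mul_apply, Fin.sum_univ_two, h01, h10] at e00 e01 e10 e11
    have k10 : K.1 1 0 = 0 := by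
      have h1 : (M.1 0 0 - M.1 1 1) * K.1 1 0 = 0 := by linear_combination e10
      exact (mul_eq_zero.mp h1).resolve_left (sub_ne_zero.mpr hne)
    exact exists_fix K 1 0 (Or.inl one_ne_zero) (by rw [k10]; ring)
  rcases h with h | h
  · exact first h
  · by_cases h2 : (2 : F) = 0
    · apply first
      rw [h]
      have h3 : (-1 : F) = 1 := by linear_combination -h2
      rw [← neg_one_smul F (M.1 * K.1), h3, one_smul]
    · obtain ⟨e00, e01, e10, e11⟩ := entries h
      simp only [Matrix.mul_apply, Fin.sum_univ_two, h01, h10, Matrix.neg_apply] at e00 e01 e10 e11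
      have m0 : M.1 0 0 ≠ 0 := left_ne_zero_of_mul_eq_one hdet
      have m1 : M.1 1 1 ≠ 0 := right_ne_zero_of_mul_eq_one hdet
      have k00 : K.1 0 0 = 0 := by
        have h1 : 2 * M.1 0 0 * K.1 0 0 = 0 := by linear_combination e00
        exact (mul_eq_zero.mp h1).resolve_left (mul_ne_zero h2 m0)
      have k11 : K.1 1 1 = 0 := by
        have h1 : 2 * M.1 1 1 * K.1 1 1 = 0 := by linear_combination e11
        exact (mul_eq_zero.mp h1).resolve_left (mul_ne_zero h2 m1)
      rw [k00, k11, mul_zero, zero_sub] at hdK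
      have k01 : K.1 0 1 ≠ 0 := by
        intro h; rw [h] at hdK; simp at hdK
      have h3 : (M.1 0 0 + M.1 1 1) * K.1 0 1 = 0 := by linear_combination e01
      have h4 := (mul_eq_zero.mp h3).resolve_right k01
      have h5 : M.1 0 0 * M.1 0 0 = -1 := by linear_combination M.1 0 0 * h4 - hdet
      refine exists_fix K (K.1 0 1) (M.1 0 0) (Or.inl k01) ?_
      rw [k00, k11]
      linear_combination K.1 0 1 * h5 + K.1 0 1 * hdK

/-- elements commuting with an antidiagonal matrix up to sign have fixed points -/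
theorem fix_anti {M K : Matrix.SpecialLinearGroup (Fin 2) F} (h00 : M.1 0 0 = 0) (h11 : M.1 1 1 = 0) {a : F}
    (ha : a * a = -1) (h2 : (2 : F) ≠ 0) (h : K.1 * M.1 = M.1 * K.1 ∨ K.1 * M.1 = - (M.1 * K.1)) :
    ∃ x, act 2 F (Matrix.SpecialLinearGroup.toGL K) x = x := by
  have hdet := det2 M
  rw [h00, h11, mul_zero, zero_sub] at hdet
  have hb : M.1 0 1 ≠ 0 := by
    intro h; rw [h] at hdet; simp at hdet
  have hc : M.1 1 0 ≠ 0 := by
    intro h; rw [h] at hdet; simp at hdet
  have hdK := det2 K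
  rcases h with h | h
  · obtain ⟨e00, e01, e10, e11⟩ := entries h
    simp only [Matrix.mul_apply, Fin.sum_univ_two, h00, h11] at e00 e01 e10 e11
    -- K01 * γ = β * K10, K00 = K11
    have k : K.1 0 0 = K.1 1 1 := by
      apply mul_right_cancel₀ hb
      linear_combination e01
    have k' : K.1 0 1 * M.1 1 0 = M.1 0 1 * K.1 1 0 := by linear_combination e00
    refine exists_fix K (M.1 0 1) a (Or.inl hb) ?_
    apply mul_right_cancel₀ hb
    rw [← k]
    linear_combination K.1 0 1 * M.1 0 1 * ha + M.1 0 1 * M.1 0 1 * k' + K.1 0 1 * M.1 0 1 * hdet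
  · obtain ⟨e00, e01, e10, e11⟩ := entries h
    simp only [Matrix.mul_apply, Fin.sum_univ_two, h00, h11, Matrix.neg_apply] at e00 e01 e10 e11
    have k : K.1 1 1 = - K.1 0 0 := by
      apply mul_right_cancel₀ hb
      linear_combination e01
    by_cases k01 : K.1 0 1 = 0
    · refine exists_fix K 0 1 (Or.inr one_ne_zero) ?_
      rw [k01]; ring
    · refine exists_fix K (K.1 0 1) (a - K.1 0 0) (Or.inl k01) ?_
      rw [k] at hdK ⊢
      linear_combination K.1 0 1 * ha + K.1 0 1 * hdK

end Cfsg.Agent.H18.NilCover
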