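import Cfsg.Agent.H18.NilCover7

set_option autoImplicit false
set_option linter.unusedSectionVars false
set_option linter.style.haveILetI false
set_option linter.unusedVariables false
set_option maxHeartbeats 1000000

/-! Nilpotent minimal covers: linear groups of degree two. -/

namespace Cfsg.Agent.H18.NilCover

open Subgroup Equiv Matrix

variable {F : Type*} [Field F] [Fintype F]

theorem exists_a (h4 : 4 ≤ Fintype.card F) : ∃ a : F, a ≠ 0 ∧ a * a ≠ 1 := by
  classical
  by_contra hcon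
  push Not at hcon
  have h1 : (Finset.univ : Finset F) ⊆ {0, 1, -1} := by
    intro a _
    by_cases h0 : a = 0
    · simp [h0]
    · have h2 := hcon a h0
      have h3 : (a - 1) * (a + 1) = 0 := by linear_combination h2
      rcases mul_eq_zero.mp h3 with h4 | h4
      · simp [sub_eq_zero.mp h4]
      · simp [eq_neg_of_add_eq_zero_left h4]
  have h2 := (Finset.card_le_card h1).trans Finset.card_le_three
  rw [Finset.card_univ] at h2
  omega

theorem htr2 {G : Subgroup (GL (Fin 2) F ⧸ center (GL (Fin 2) F))}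
    (hG : ((Matrix.SpecialLinearGroup.toGL : Matrix.SpecialLinearGroup (Fin 2) F →* GL (Fin 2) F).range).map
      (QuotientGroup.mk' (center (GL (Fin 2) F))) ≤ G) (x : Projectivization F (Fin 2 → F)) :
    ∃ g, ((pact 2 F).comp G.subtype) g (Projectivization.mk F (Pi.single (⟨0, by omega⟩ : Fin 2) (1 : F)) (by simp)) = x := by
  induction x using Projectivization.ind with
  | h v hv =>
    have key : ∀ M : Matrix.SpecialLinearGroup (Fin 2) F, M.1 0 0 = v 0 → M.1 1 0 = v 1 →
        ∃ g, ((pact 2 F).comp G.subtype) g (Projectivization.mk F (Pi.single (⟨0, by omega⟩ : Fin 2) (1 : F)) (by simp)) =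
          Projectivization.mk F v hv := by
      intro M h0 h1
      refine ⟨el hG M, ?_⟩
      rw [pact_el, act_mk, mk2]
      have e0 : ((Matrix.SpecialLinearGroup.toGL M : GL (Fin 2) F) : Matrix (Fin 2) (Fin 2) F) = M.1 := rfl
      rw [e0, Matrix.mulVec_single_one]
      change M.1 0 0 * v 1 = M.1 1 0 * v 0
      rw [h0, h1, mul_comm]
    by_cases h0 : v 0 = 0
    · have h1 : v 1 ≠ 0 := by
        intro h1
        apply hv
        ext i; fin_cases i
        · exact h0
        · exact h1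
      exact key ⟨!![0, -(v 1)⁻¹; v 1, 0], by rw [Matrix.det_fin_two_of]; field_simp; ring⟩ h0.symm rfl
    · exact key ⟨!![v 0, 0; v 1, (v 0)⁻¹], by rw [Matrix.det_fin_two_of, zero_mul, sub_zero, mul_inv_cancel₀ h0]⟩ rfl rfl

theorem el_scalar {G : Subgroup (GL (Fin 2) F ⧸ center (GL (Fin 2) F))}
    (hG : ((Matrix.SpecialLinearGroup.toGL : Matrix.SpecialLinearGroup (Fin 2) F →* GL (Fin 2) F).range).map
      (QuotientGroup.mk' (center (GL (Fin 2) F))) ≤ G) {M : Matrix.SpecialLinearGroup (Fin 2) F}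
    (h01 : M.1 0 1 = 0) (h10 : M.1 1 0 = 0) (h : M.1 0 0 = M.1 1 1) : el hG M = 1 := by
  apply Subtype.ext
  change QuotientGroup.mk' (center (GL (Fin 2) F)) (Matrix.SpecialLinearGroup.toGL M) = 1
  apply (QuotientGroup.eq_one_iff _).mpr
  rw [Matrix.GeneralLinearGroup.mem_center_iff_val_mem_range_scalar]
  refine ⟨M.1 0 0, ?_⟩
  change Matrix.scalar (Fin 2) (M.1 0 0) = M.1
  ext i j
  fin_cases i <;> fin_cases j
  · simp [Matrix.scalar_apply]
  · simp [Matrix.scalar_apply, h01]
  · simp [Matrix.scalar_apply, h10]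
  · simp [Matrix.scalar_apply, h]

theorem el_comm {G : Subgroup (GL (Fin 2) F ⧸ center (GL (Fin 2) F))}
    (hG : ((Matrix.SpecialLinearGroup.toGL : Matrix.SpecialLinearGroup (Fin 2) F →* GL (Fin 2) F).range).map
      (QuotientGroup.mk' (center (GL (Fin 2) F))) ≤ G) {M K : Matrix.SpecialLinearGroup (Fin 2) F}
    (h : el hG K * el hG M = el hG M * el hG K) : K.1 * M.1 = M.1 * K.1 ∨ K.1 * M.1 = - (M.1 * K.1) :=
  comm_lift_sl (congrArg (fun z : G => (z : GL (Fin 2) F ⧸ center (GL (Fin 2) F))) h)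

theorem eq_two (h4 : 4 ≤ Fintype.card F) {G : Subgroup (GL (Fin 2) F ⧸ center (GL (Fin 2) F))}
    (hG : ((Matrix.SpecialLinearGroup.toGL : Matrix.SpecialLinearGroup (Fin 2) F →* GL (Fin 2) F).range).map
      (QuotientGroup.mk' (center (GL (Fin 2) F))) ≤ G) {𝓐 : Finset (Subgroup ↥G)} (h : MinCover 𝓐)
    (hnil : ∀ A ∈ 𝓐, Group.IsNilpotent ↥A) : False := by
  classical
  obtain ⟨p, hp, hc, hpF⟩ := exists_char F
  have hX := not_dvd_card (F := F) (n := 2) hpF (by omega)
  have h10 : (1 : Fin 2) ≠ 0 := by decide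
  have hx0 : ∀ x, ((pact 2 F).comp G.subtype) (el hG (uu 2 F)) x = x ↔
      x = Projectivization.mk F (Pi.single (⟨0, by omega⟩ : Fin 2) (1 : F)) (by simp) := by
    intro x
    rw [pact_el]
    exact uu_fix (p := p) (by omega) x
  have hk : (el hG (uu 2 F)) ^ p ^ 2 = 1 := by rw [← map_pow, uu_pow (by omega), map_one]
  by_cases hB : G ≤ ((Matrix.SpecialLinearGroup.toGL : Matrix.SpecialLinearGroup (Fin 2) F →* GL (Fin 2) F).range).map
      (QuotientGroup.mk' (center (GL (Fin 2) F)))
  · -- the special case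
    have hlift : ∀ x : G, ∃ M, x = el hG M := by
      intro x
      obtain ⟨_, ⟨M, rfl⟩, hM⟩ := hB x.2
      exact ⟨M, Subtype.ext hM.symm⟩
    obtain ⟨a, ha0, ha⟩ := exists_a h4
    refine torus (p := p) ((pact 2 F).comp G.subtype) hX h hnil (u := el hG (uu 2 F)) (k := 2) hk hx0 (htr2 hG)
      (t := el hG (DD a ha0)) ?_
    intro A hA htA
    have ht1 : el hG (DD a ha0) ≠ 1 := by
      intro h1
      have h2 : Matrix.SpecialLinearGroup.toGL (DD a ha0) ∈ center (GL (Fin 2) F) :=
        (QuotientGroup.eq_one_iff _).mp (congrArg (fun z : G => (z : GL (Fin 2) F ⧸ center (GL (Fin 2) F))) h1)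
      obtain ⟨c, hc⟩ := Matrix.GeneralLinearGroup.mem_center_iff_val_mem_range_scalar.mp h2
      change Matrix.scalar (Fin 2) c = !![a, 0; 0, a⁻¹] at hc
      obtain ⟨e00, -, -, e11⟩ := entries hc
      simp [Matrix.scalar_apply] at e00 e11
      apply ha
      have h3 : a = a⁻¹ := e00.symm.trans e11
      calc a * a = a * a⁻¹ := by rw [← h3]
        _ = 1 := mul_inv_cancel₀ ha0
    have hAbot : Nat.card A ≠ 1 := by
      intro h1
      have h2 := Subgroup.card_eq_one.mp h1
      rw [h2, mem_bot] at htA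
      exact ht1 htA
    obtain ⟨r, hr, hrA⟩ := Nat.exists_prime_and_dvd hAbot
    haveI : Fact r.Prime := ⟨hr⟩
    obtain ⟨z, hz, hz1, hzc⟩ := H1.exists_central_part hA hrA
    have hzA : z ∈ A := H1.part_le r A hz
    have hcm : ∀ g ∈ A, g * z = z * g := fun g hg => mem_centralizer_singleton_iff.mp (hzc hg)
    obtain ⟨M, rfl⟩ := hlift z
    have hMD := el_comm hG (hcm _ htA).symm
    rcases z_forms ha0 ha hMD with ⟨m01, m10⟩ | ⟨m00, m11, hi, h2⟩
    · have hne : M.1 0 0 ≠ M.1 1 1 := fun hc' => hz1 (el_scalar hG m01 m10 hc')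
      refine ⟨⟨el hG M, hzA, hcm, ?_⟩, ?_⟩
      · exact diag_fix m01 m10 hne
      · intro g hg
        obtain ⟨K, rfl⟩ := hlift g
        exact fix_diag m01 m10 hne (el_comm hG (hcm _ hg))
    · refine ⟨⟨el hG M, hzA, hcm, ?_⟩, ?_⟩
      · exact anti_fix m00 m11 hi h2
      · intro g hg
        obtain ⟨K, rfl⟩ := hlift g
        exact fix_anti m00 m11 hi h2 (el_comm hG (hcm _ hg))
  · -- a proper subgroup
    haveI := range_normal (F := F)
    have hp2 : p ≠ 2 := by
      rintro rfl
      apply hB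
      intro x hx
      obtain ⟨A, rfl⟩ := QuotientGroup.mk'_surjective _ x
      obtain ⟨s, hs⟩ := FiniteField.isSquare_of_char_two (ringChar.eq F 2 ▸ rfl) ((A : Matrix (Fin 2) (Fin 2) F).det)
      exact sq_mem A s hs
    refine index_two (p := p) ((pact 2 F).comp G.subtype) hX hp2 h hnil
      (H := (((Matrix.SpecialLinearGroup.toGL : Matrix.SpecialLinearGroup (Fin 2) F →* GL (Fin 2) F).range).map
        (QuotientGroup.mk' (center (GL (Fin 2) F)))).subgroupOf G) ?_ ?_ (u := el hG (uu 2 F)) (k := 2) hk ?_ hx0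
      (g := el hG (tvv 1 0 h10)) ?_
    · intro htop
      apply hB
      exact subgroupOf_eq_top.mp htop
    · intro x
      rw [mem_subgroupOf]
      obtain ⟨A, hA⟩ := QuotientGroup.mk'_surjective _ (x : GL (Fin 2) F ⧸ center (GL (Fin 2) F))
      have h1 := sq_mem (A * A) ((A : Matrix (Fin 2) (Fin 2) F).det) (by rw [Units.val_mul, Matrix.det_mul])
      rw [map_mul, hA] at h1
      exact h1
    · intro x hx
      rw [mem_subgroupOf]
      obtain ⟨A, hA⟩ := QuotientGroup.mk'_surjective _ (x : GL (Fin 2) F ⧸ center (GL (Fin 2) F))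
      have h1 := congrArg (fun z : G => (z : GL (Fin 2) F ⧸ center (GL (Fin 2) F))) hx
      change (x : GL (Fin 2) F ⧸ center (GL (Fin 2) F)) * QuotientGroup.mk' (center (GL (Fin 2) F)) (Matrix.SpecialLinearGroup.toGL (uu 2 F)) =
        QuotientGroup.mk' (center (GL (Fin 2) F)) (Matrix.SpecialLinearGroup.toGL (uu 2 F)) * (x : GL (Fin 2) F ⧸ center (GL (Fin 2) F)) at h1
      rw [← hA] at h1 ⊢
      obtain ⟨c, hc⟩ := comm_lift h1
      obtain ⟨s, hs⟩ := comm_uu hc
      exact sq_mem A s hs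
    · rw [pact_el]
      exact tvv_move h10

end Cfsg.Agent.H18.NilCover
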