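import Cfsg.Agent.H18.LLemma
import Cfsg.Agent.H18.Subnormal

set_option autoImplicit false
open Cfsg
open scoped commutatorElement

namespace Cfsg.Agent.H18

variable {G : Type*} [Group G] {p : ℕ}

local notation "𝕆(" p ", " H ")" => Subgroup.map (Subgroup.subtype H) (Cfsg.pResidual p ↥H)

/-- `M'` is the unique maximal subgroup of `E'` over `T ∩ E'` -/
def RelMin (T E' M' : Subgroup G) : Prop :=
  M' < E' ∧ T ⊓ E' ≤ M' ∧ (∀ X : Subgroup G, T ⊓ E' ≤ X → X < E' → X ≤ M')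

theorem RelMin.unique {T E' M₁ M₂ : Subgroup G} (h1 : RelMin T E' M₁) (h2 : RelMin T E' M₂) :
    M₁ = M₂ :=
  le_antisymm (h2.2.2 _ h1.2.1 h1.1) (h1.2.2 _ h2.2.1 h2.1)

theorem cj_lt_cj {A B : Subgroup G} {g : G} (h : A < B) : L.cj g A < L.cj g B :=
  lt_of_le_of_ne (L.cj_mono h.le) fun e => h.ne (L.cj_inj.1 e)

theorem RelMin.cj {T E' M' : Subgroup G} (h : RelMin T E' M') (g : G) :
    RelMin (L.cj g T) (L.cj g E') (L.cj g M') := by
  refine ⟨cj_lt_cj h.1, ?_, ?_⟩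
  · rw [← L.cj_inf]; exact L.cj_mono h.2.1
  · intro X hX1 hX2
    rw [← L.cj_inf, L.cj_le_iff] at hX1
    have h2 := cj_lt_cj (g := g⁻¹) hX2
    rw [L.cj_inv_cj] at h2
    have h3 := h.2.2 _ hX1 h2
    rwa [L.cj_le_iff, inv_inv] at h3

theorem sylIn_inf_of_sup [Finite G] [Fact p.Prime] {E O T' : Subgroup G}
    (hT' : L.SylIn p T' (E ⊔ O)) [O.Normal] (hOp : IsPGroup p O) :
    O ≤ T' ∧ L.SylIn p (T' ⊓ E) E := by
  have hOT : O ≤ T' := by
    have h1 : IsPGroup p (T' ⊔ O : Subgroup G) :=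
      isPGroup_sup_of_le_normalizer hT'.isPGroup hOp le_normalizer_of_normal
    have h2 := hT'.eq_of_le h1 (sup_le hT'.le le_sup_right) le_sup_left
    rw [h2]; exact le_sup_right
  refine ⟨hOT, ?_⟩
  obtain ⟨R, hR, hle⟩ := L.exists_sylIn_ge (H := E)
    (hT'.isPGroup.to_le (inf_le_left : T' ⊓ E ≤ T')) inf_le_right
  have h1 : IsPGroup p (R ⊔ O : Subgroup G) :=
    isPGroup_sup_of_le_normalizer hR.isPGroup hOp le_normalizer_of_normal
  obtain ⟨x, hx, hxR⟩ := hT'.exists_conj_le h1 (sup_le_sup_right hR.le O)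
  rw [Subgroup.mem_sup_of_normal_right] at hx
  obtain ⟨e, he, o, ho, rfl⟩ := hx
  rw [← L.cj_cj, L.cj_eq_self_of_mem (Subgroup.mem_sup_right ho : o ∈ R ⊔ O)] at hxR
  have h2 : L.cj e R ≤ T' ⊓ E := by
    refine le_inf ((L.cj_mono le_sup_left).trans hxR) ?_
    have := L.cj_mono (g := e) hR.le
    rwa [L.cj_eq_self_of_mem he] at this
  have h3 : R = T' ⊓ E := by
    refine (L.eq_of_le_of_card_le hle ?_).symm
    have := L.card_le_of_le h2
    rwa [L.card_cj] at this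
  rw [← h3]; exact hR

theorem relMin_sup [Finite G] [Fact p.Prime] {E O T : Subgroup G} [O.Normal]
    (hOp : IsPGroup p O) (hT : L.SylIn p (T ⊓ (E ⊔ O)) (E ⊔ O))
    (hmin : ∀ T : Sylow p ↥E, IsMinimalOver (T : Subgroup ↥E)) :
    (∃ M', RelMin T (E ⊔ O) M' ∧ (E ⊔ O) ⊓ Subgroup.normalizer (M' : Set G) ≤ M') ∧
      ∀ N : Subgroup G, N.Normal → T ≤ N → E ≤ N := by
  set T' := T ⊓ (E ⊔ O) with hT'
  obtain ⟨hOT, hT0⟩ := sylIn_inf_of_sup hT hOp
  have hm := hmin hT0.toSylow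
  rw [L.SylIn.toSylow_coe] at hm
  obtain ⟨M, ⟨hM, hTM⟩, -⟩ := hm.2
  have hgen : ∀ N : Subgroup G, E ≤ Subgroup.normalizer (N : Set G) → T' ⊓ E ≤ N → E ≤ N := by
    intro N hN hTN
    have h1 : (N ⊓ E).subgroupOf E = ⊤ := by
      have hn : ((N ⊓ E).subgroupOf E).Normal := (normal_subgroupOf_iff inf_le_right).2
        (le_normalizer_inf hN Subgroup.le_normalizer)
      rw [eq_top_iff, ← hm.1]
      refine Subgroup.normalClosure_le_normal (SetLike.coe_subset_coe.2 ?_)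
      exact Subgroup.comap_mono (le_inf hTN inf_le_right)
    rw [Subgroup.subgroupOf_eq_top] at h1
    exact h1.trans inf_le_left
  refine ⟨?_, fun N hN hTN => hgen N le_normalizer_of_normal
    ((inf_le_left.trans inf_le_left).trans hTN)⟩
  set M₀ := M.map E.subtype with hM₀
  have hM₀E : M₀ ≤ E := Subgroup.map_subtype_le M
  have hM₀lt : ¬ E ≤ M₀ := by
    intro hle
    apply hM.1
    rw [eq_top_iff]
    intro x _
    obtain ⟨y, hy, e⟩ := hle x.2
    have : y = x := Subtype.ext e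
    rwa [← this]
  have hT0M : T' ⊓ E ≤ M₀ := by
    have := Subgroup.map_mono (f := E.subtype) hTM
    rwa [Subgroup.map_subgroupOf_eq_of_le inf_le_right] at this
  have hX0 : ∀ X : Subgroup G, T' ⊓ E ≤ X → ¬ E ≤ X → X ⊓ E ≤ M₀ := by
    intro X hX1 hX2
    have h1 : X.subgroupOf E ≤ M := by
      refine IsMinimalOver.le_of_ne hm hM hTM (Subgroup.comap_mono hX1) ?_
      rwa [Ne, Subgroup.subgroupOf_eq_top]
    have := Subgroup.map_mono (f := E.subtype) h1
    rwa [Subgroup.subgroupOf_map_subtype] at this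
  have hlt : M₀ ⊔ O < E ⊔ O := by
    refine lt_of_le_of_ne (sup_le_sup_right hM₀E O) fun e => hM₀lt fun x hx => ?_
    have hx' : x ∈ M₀ ⊔ O := by rw [e]; exact Subgroup.mem_sup_left hx
    rw [Subgroup.mem_sup_of_normal_right] at hx'
    obtain ⟨m, hm', o, ho, rfl⟩ := hx'
    have ho' : o ∈ T' ⊓ E := by
      refine Subgroup.mem_inf.2 ⟨hOT ho, ?_⟩
      have := mul_mem (inv_mem (hM₀E hm')) hx
      simpa using this
    exact mul_mem hm' (hT0M ho')
  have hTle : T' ≤ M₀ ⊔ O := by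
    intro t ht
    have h1 : t ∈ E ⊔ O := hT.le ht
    rw [Subgroup.mem_sup_of_normal_right] at h1
    obtain ⟨e, he, o, ho, rfl⟩ := h1
    have h2 : e ∈ T' := by
      have := mul_mem ht (inv_mem (hOT ho))
      simpa using this
    exact mul_mem (Subgroup.mem_sup_left (hT0M (Subgroup.mem_inf.2 ⟨h2, he⟩)))
      (Subgroup.mem_sup_right ho)
  have hX : ∀ X : Subgroup G, T' ≤ X → X < E ⊔ O → X ≤ M₀ ⊔ O := by
    intro X hX1 hX2 x hx
    have h1 := hX2.le hx
    rw [Subgroup.mem_sup_of_normal_right] at h1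
    obtain ⟨e, he, o, ho, rfl⟩ := h1
    have h2 : e ∈ X := by
      have := mul_mem hx (inv_mem (hX1 (hOT ho)))
      simpa using this
    have h3 : ¬ E ≤ X := fun h3 => hX2.not_ge (sup_le h3 (hOT.trans hX1))
    exact mul_mem (Subgroup.mem_sup_left (hX0 X (inf_le_left.trans hX1) h3
      (Subgroup.mem_inf.2 ⟨h2, he⟩))) (Subgroup.mem_sup_right ho)
  refine ⟨M₀ ⊔ O, ⟨hlt, hTle, hX⟩, ?_⟩
  intro g hg
  by_contra hgM
  have h1 : (M₀ ⊔ O) ⊔ Subgroup.zpowers g = E ⊔ O := by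
    by_contra hne
    have h2 : (M₀ ⊔ O) ⊔ Subgroup.zpowers g ≤ E ⊔ O := by
      refine sup_le hlt.le ?_
      rw [Subgroup.zpowers_le]; exact hg.1
    have h3 := hX _ (hTle.trans le_sup_left) (lt_of_le_of_ne h2 hne)
    exact hgM (h3 (Subgroup.mem_sup_right (Subgroup.mem_zpowers g)))
  have h2 : E ⊔ O ≤ Subgroup.normalizer ((M₀ ⊔ O : Subgroup G) : Set G) := by
    rw [← h1]
    refine sup_le Subgroup.le_normalizer ?_
    rw [Subgroup.zpowers_le]; exact hg.2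
  have h3 := hgen _ (le_sup_left.trans h2) (inf_le_left.trans hTle)
  exact hlt.not_ge (sup_le h3 le_sup_right)

theorem pMin_prod [Finite G] [Fact p.Prime] {𝒦 : Set (Subgroup G)} (hne : 𝒦.Nonempty)
    (hinv : ∀ h : G, ∀ E ∈ 𝒦, L.cj h E ∈ 𝒦) (htr : ∀ E ∈ 𝒦, ∀ K ∈ 𝒦, ∃ h : G, K = L.cj h E)
    (hres : pResidual p G ≤ sSup 𝒦)
    (hnorm : ∀ E ∈ 𝒦, sSup 𝒦 ⊔ pCore p G ≤ Subgroup.normalizer ((E ⊔ pCore p G : Subgroup G) : Set G))
    (hmin : ∀ E ∈ 𝒦, ∀ T : Sylow p ↥E, IsMinimalOver (T : Subgroup ↥E)) {T : Subgroup G}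
    (hT : L.SylIn p T ⊤) : IsMinimalOver T := by
  set O := pCore p G with hO
  have hOn : O.Normal := pCore_normal p G
  have hOp : IsPGroup p O := isPGroup_pCore p G
  set R := sSup 𝒦 with hR
  have hER : ∀ E ∈ 𝒦, E ≤ R := fun E hE => le_sSup hE
  have hRn : R.Normal := by
    refine ⟨fun n hn g => ?_⟩
    have h1 : L.cj g R ≤ R := by
      rw [hR, sSup_eq_iSup', L.cj_iSup]
      refine iSup_le fun E => ?_
      exact le_iSup (fun E : 𝒦 => (E : Subgroup G)) ⟨_, hinv g E E.2⟩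
    exact h1 (L.conj_mem_cj hn)
  have hROn : (R ⊔ O).Normal := inferInstance
  have hsub : ∀ E ∈ 𝒦, (E ⊔ O).IsSubnormal := fun E hE =>
    isSubnormal_of_le_normalizer (sup_le_sup_right (hER E hE) O) hROn.isSubnormal (hnorm E hE)
  have hTE : ∀ E ∈ 𝒦, L.SylIn p (T ⊓ (E ⊔ O)) (E ⊔ O) := fun E hE =>
    sylIn_inf_of_isSubnormal hT (hsub E hE)
  have hfacts := fun E hE => relMin_sup hOp (hTE E hE) (hmin E hE)
  have hex : ∀ E : Subgroup G, ∃ M', E ∈ 𝒦 → RelMin T (E ⊔ O) M' ∧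
      (E ⊔ O) ⊓ Subgroup.normalizer (M' : Set G) ≤ M' := by
    intro E
    by_cases hE : E ∈ 𝒦
    · obtain ⟨M', h1, h2⟩ := (hfacts E hE).1
      exact ⟨M', fun _ => ⟨h1, h2⟩⟩
    · exact ⟨⊥, fun h => absurd h hE⟩
  choose f hf using hex
  have huniq : ∀ E ∈ 𝒦, ∀ E' ∈ 𝒦, E ⊔ O = E' ⊔ O → f E = f E' := by
    intro E hE E' hE' e
    have h1 := (hf E hE).1
    rw [e] at h1
    exact h1.unique (hf E' hE').1
  have hcjO : ∀ g : G, L.cj g O = O := fun g =>
    mem_normalizer_iff_map.1 (le_normalizer_of_normal (A := ⊤) (Subgroup.mem_top g))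
  have hcjEO : ∀ (g : G) (E : Subgroup G), L.cj g (E ⊔ O) = L.cj g E ⊔ O := fun g E => by
    rw [L.cj_sup, hcjO]
  -- the subgroup
  let M : Subgroup G :=
    { carrier := {h | ∀ E ∈ 𝒦, f (L.cj h E) = L.cj h (f E)}
      one_mem' := fun E _ => by rw [L.cj_one, L.cj_one]
      mul_mem' := by
        intro a b ha hb E hE
        rw [← L.cj_cj, ha _ (hinv b E hE), hb E hE, L.cj_cj]
      inv_mem' := by
        intro a ha E hE
        have h1 := ha _ (hinv a⁻¹ E hE)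
        rw [L.cj_cj_inv] at h1
        rw [h1, L.cj_inv_cj] }
  have hTM : T ≤ M := by
    intro t ht E hE
    have h1 := (hf E hE).1.cj t
    rw [L.cj_eq_self_of_mem ht, hcjEO] at h1
    exact (hf _ (hinv t E hE)).1.unique h1
  have hMne : M ≠ ⊤ := by
    intro htop
    obtain ⟨E, hE⟩ := hne
    obtain ⟨h1, h2⟩ := hf E hE
    apply h1.1.not_ge
    refine le_trans ?_ h2
    refine le_inf le_rfl fun h hh => ?_
    rw [mem_normalizer_iff_map]
    have h3 : h ∈ M := by rw [htop]; exact Subgroup.mem_top h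
    have h4 := h3 E hE
    rw [huniq (L.cj h E) (hinv h E hE) E hE (by
      rw [← hcjEO, L.cj_eq_self_of_mem hh])] at h4
    exact h4.symm
  have hTR : T ⊔ R = ⊤ := by
    have h1 : T ⊔ pResidual p G = ⊤ := by
      have := sylow_sup_pResidual (sylInTop hT)
      rwa [sylInTop_coe] at this
    rw [eq_top_iff, ← h1]
    exact sup_le_sup_left hres T
  have hXM : ∀ X : Subgroup G, T ≤ X → X ≠ ⊤ → X ≤ M := by
    intro X hTX hXne x hx
    have hx' : x ∈ T ⊔ R := by rw [hTR]; exact Subgroup.mem_top x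
    rw [Subgroup.mem_sup_of_normal_right] at hx'
    obtain ⟨t, ht, r, hr, rfl⟩ := hx'
    refine mul_mem (hTM ht) ?_
    have hrX : r ∈ X := by
      have := mul_mem (inv_mem (hTX ht)) hx
      simpa using this
    intro E hE
    have hrE : r ∈ Subgroup.normalizer ((E ⊔ O : Subgroup G) : Set G) :=
      hnorm E hE (Subgroup.mem_sup_left hr)
    have hrE' : L.cj r (E ⊔ O) = E ⊔ O := mem_normalizer_iff_map.1 hrE
    rw [huniq (L.cj r E) (hinv r E hE) E hE (by rw [← hcjEO, hrE'])]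
    -- E ⊔ O is not contained in X
    have hEX : ¬ E ⊔ O ≤ X := by
      intro hle
      apply hXne
      rw [eq_top_iff, ← hTR]
      refine sup_le hTX ?_
      rw [hR]
      refine sSup_le fun K hK => ?_
      obtain ⟨h, rfl⟩ := htr E hE K hK
      have hh : h ∈ T ⊔ R := by rw [hTR]; exact Subgroup.mem_top h
      rw [Subgroup.mem_sup_of_normal_right] at hh
      obtain ⟨t', ht', r', hr', rfl⟩ := hh
      have h1 : L.cj r' (E ⊔ O) = E ⊔ O :=
        mem_normalizer_iff_map.1 (hnorm E hE (Subgroup.mem_sup_left hr'))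
      have h2 : L.cj (t' * r') E ≤ L.cj t' (E ⊔ O) := by
        rw [← L.cj_cj, ← h1]
        exact L.cj_mono (L.cj_mono le_sup_left)
      refine h2.trans ?_
      have h3 := L.cj_mono (g := t') hle
      rwa [L.cj_eq_self_of_mem (hTX ht')] at h3
    obtain ⟨hs, -⟩ := hf E hE
    have h1 : X ⊓ (E ⊔ O) ≤ f E := by
      refine hs.2.2 _ (le_inf (inf_le_left.trans hTX) inf_le_right) ?_
      exact lt_of_le_of_ne inf_le_right fun e => hEX (by rw [← e]; exact inf_le_left)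
    have h2 : T ⊓ (E ⊔ O) ≤ L.cj r⁻¹ (f E) := by
      rw [← L.cj_le_iff, L.cj_inf, hrE']
      refine le_trans (inf_le_inf_right _ ?_) h1
      have := L.cj_mono (g := r) hTX
      rwa [L.cj_eq_self_of_mem hrX] at this
    have h3 : L.cj r⁻¹ (f E) < E ⊔ O := by
      have := cj_lt_cj (g := r⁻¹) hs.1
      rwa [show L.cj r⁻¹ (E ⊔ O) = E ⊔ O from mem_normalizer_iff_map.1 (inv_mem hrE)] at this
    have h4 := eq_of_cj_le (hs.2.2 _ h2 h3)
    rw [L.cj_eq_iff, inv_inv] at h4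
    exact h4
  refine ⟨?_, ?_⟩
  · rw [eq_top_iff, ← hTR]
    refine sup_le Subgroup.le_normalClosure (sSup_le fun E hE => ?_)
    exact (hfacts E hE).2 _ Subgroup.normalClosure_normal Subgroup.le_normalClosure
  · obtain ⟨K, hK, hMK⟩ := exists_coatom_ge hMne
    refine ⟨K, ⟨hK, hTM.trans hMK⟩, ?_⟩
    rintro K' ⟨hK', hTK'⟩
    have h1 : K' ≤ K := (hXM K' hTK' hK'.1).trans hMK
    rcases hK'.le_iff.1 h1 with h2 | h2
    · exact absurd h2 hK.1
    · exact h2.symm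

end Cfsg.Agent.H18
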