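import Cfsg.Agent.H18.LargeY
import Cfsg.Agent.H23.Coprime2

set_option autoImplicit false
open Cfsg
open scoped commutatorElement

namespace Cfsg.Agent.H18

variable {G : Type*} [Group G] {p : ℕ}

local notation "𝕆(" p ", " H ")" => Subgroup.map (Subgroup.subtype H) (Cfsg.pResidual p ↥H)

theorem pRed_cj {V K : Subgroup G} (h : PRed p V K) (g : G) :
    PRed p (Cfsg.Agent.L.cj g V) (Cfsg.Agent.L.cj g K) := by
  have hCV : ∀ x, x ∈ Subgroup.centralizer (V : Set G) →
      g * x * g⁻¹ ∈ Subgroup.centralizer ((Cfsg.Agent.L.cj g V : Subgroup G) : Set G) := by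
    intro x hx
    rw [Subgroup.mem_centralizer_iff] at hx ⊢
    rintro _ ⟨y, hy, rfl⟩
    have := hx y hy
    simp only [MulAut.conj_apply, MulEquiv.coe_toMonoidHom]
    calc g * y * g⁻¹ * (g * x * g⁻¹) = g * (y * x) * g⁻¹ := by group
      _ = g * (x * y) * g⁻¹ := by rw [this]
      _ = g * x * g⁻¹ * (g * y * g⁻¹) := by group
  have hCV' : ∀ x, x ∈ Subgroup.centralizer ((Cfsg.Agent.L.cj g V : Subgroup G) : Set G) →
      g⁻¹ * x * g ∈ Subgroup.centralizer (V : Set G) := by
    intro x hx
    rw [Subgroup.mem_centralizer_iff] at hx ⊢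
    intro y hy
    have h1 := hx (g * y * g⁻¹) (Cfsg.Agent.L.conj_mem_cj hy)
    calc y * (g⁻¹ * x * g) = g⁻¹ * ((g * y * g⁻¹) * x) * g := by group
      _ = g⁻¹ * (x * (g * y * g⁻¹)) * g := by rw [h1]
      _ = g⁻¹ * x * g * y := by group
  refine ⟨Cfsg.Agent.L.cj_mono h.le, ?_, ?_, ?_⟩
  · have := Cfsg.Agent.L.cj_mono (g := g) h.norm
    refine this.trans ?_
    have h2 := (Cfsg.Agent.L.nz_cj g V).ge
    exact h2
  · exact isElementaryAbelian_map _ h.elem
  · intro D hD hn hDp
    have h1 : Cfsg.Agent.L.cj g⁻¹ D ≤ Subgroup.centralizer (V : Set G) := by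
      refine h.red _ ?_ ?_ ?_
      · rw [Cfsg.Agent.L.cj_le_iff, inv_inv]; exact hD
      · refine le_normalizer_of_conj_mem ?_
        rintro a ha _ ⟨y, hy, rfl⟩
        rw [Cfsg.Agent.L.mem_cj]
        have h3 := conj_mem_of_mem_normalizer (hn (Cfsg.Agent.L.conj_mem_cj ha)) hy
        have h4 : (g⁻¹)⁻¹ * (a * ((MulEquiv.toMonoidHom (MulAut.conj g⁻¹)) y) * a⁻¹) * g⁻¹ =
            g * a * g⁻¹ * y * (g * a * g⁻¹)⁻¹ := by
          simp only [MulAut.conj_apply, MulEquiv.coe_toMonoidHom]; group
        rw [h4]; exact h3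
      · rintro _ ⟨y, hy, rfl⟩
        obtain ⟨k, hk⟩ := hDp y hy
        refine ⟨k, ?_⟩
        have h5 := hCV' _ hk
        have h6 : (((MulEquiv.toMonoidHom (MulAut.conj g⁻¹)) y) ^ p ^ k) = g⁻¹ * y ^ p ^ k * g := by
          rw [← map_pow]; simp only [MulAut.conj_apply, MulEquiv.coe_toMonoidHom]; group
        rw [h6]; exact h5
    intro x hx
    have h2 := hCV _ (h1 (Cfsg.Agent.L.conj_mem_cj (g := g⁻¹) hx))
    have h3 : g * (g⁻¹ * x * g⁻¹⁻¹) * g⁻¹ = x := by group
    rwa [h3] at h2

theorem cj_eq_of_mem_nz {g : G} {T : Subgroup G} (h : g ∈ Subgroup.normalizer (T : Set G)) :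
    Cfsg.Agent.L.cj g T = T := mem_normalizer_iff_map.1 h

theorem normalizer_le_normalizer_largest (L : Subgroup G) :
    Subgroup.normalizer (L : Set G) ≤
      Subgroup.normalizer ((largestPReducedOf p L : Subgroup G) : Set G) := by
  refine le_normalizer_of_conj_mem fun g hg x hx => ?_
  have h1 := pRed_cj (pRed_largest (p := p) L) g
  rw [cj_eq_of_mem_nz hg] at h1
  exact h1.le_largest (Cfsg.Agent.L.conj_mem_cj hx)

/-- for the normal case of S2825 -/
theorem coprime_fixed_eq_bot [Finite G] [Fact p.Prime] {A : Subgroup G}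
    (hA : IsElementaryAbelian p A) {x : G} (hx : (orderOf x).Coprime p)
    (hn : x ∈ Subgroup.normalizer (A : Set G)) :
    ⁅A, Subgroup.zpowers x⁆ ⊓ Subgroup.centralizer ((Subgroup.zpowers x : Subgroup G) : Set G) = ⊥ := by
  refine Cfsg.Agent.H23.commutator_inf_centralizer_of_abelian (by
    rwa [Subgroup.zpowers_le]) ?_ ?_
  · rw [Nat.card_zpowers]
    obtain ⟨n, hn⟩ := IsPGroup.iff_card.1 (IsElementaryAbelian.isPGroup' hA)
    rw [hn]; exact Nat.Coprime.pow_right _ hx
  · exact hA.1

/-- S2825, normal case for `C_L(Y_K) ≤ C_L(Y_L)` -/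
theorem centralizer_largest_normal [Finite G] [Fact p.Prime] {L K : Subgroup G} (hLK : L ≤ K)
    (hKN : K ≤ Subgroup.normalizer (L : Set G)) :
    L ⊓ Subgroup.centralizer ((largestPReducedOf p K : Subgroup G) : Set G) ≤
      Subgroup.centralizer ((largestPReducedOf p L : Subgroup G) : Set G) := by
  classical
  set Y := largestPReducedOf p L with hYdef
  have hY : PRed p Y L := pRed_largest L
  let S : Set (Subgroup G) := {A | A ≤ Y ∧ K ≤ Subgroup.normalizer (A : Set G) ∧
    L ⊓ Subgroup.centralizer (A : Set G) ≤ Subgroup.centralizer (Y : Set G)}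
  have hS : S.Nonempty :=
    ⟨Y, le_rfl, hKN.trans (normalizer_le_normalizer_largest L), inf_le_right⟩
  obtain ⟨A, ⟨hAY, hKA, hCA⟩, hmin⟩ := S.toFinite.exists_minimal hS
  have hAel : IsElementaryAbelian p A := isElementaryAbelian_mono hY.elem hAY
  have hAred : PRed p A K := by
    refine ⟨(hAY.trans hY.le).trans hLK, hKA, hAel, fun P hPK hn hP => ?_⟩
    have hPA : P ≤ Subgroup.normalizer (A : Set G) := hPK.trans hKA
    have hresP : 𝕆(p, P) ≤ Subgroup.centralizer (A : Set G) := pRes_le_of_pow hP
    have hPL : P ⊓ L ≤ Subgroup.centralizer (Y : Set G) := by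
      refine hY.red _ inf_le_right (le_normalizer_inf (hLK.trans hn) Subgroup.le_normalizer) ?_
      intro x hx
      obtain ⟨k, hk⟩ := hP x hx.1
      exact ⟨k, hCA (Subgroup.mem_inf.2 ⟨pow_mem hx.2 _, hk⟩)⟩
    set B := A ⊓ Subgroup.centralizer (P : Set G) with hB
    have hBS : B ∈ S := by
      refine ⟨inf_le_left.trans hAY, le_normalizer_inf hKA (le_normalizer_centralizer hn), ?_⟩
      have hx' : ∀ x ∈ L ⊓ Subgroup.centralizer (B : Set G), (orderOf x).Coprime p →
          x ∈ Subgroup.centralizer (A : Set G) := by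
        intro x hx hxp
        have hxL : x ∈ L := hx.1
        have hxA : x ∈ Subgroup.normalizer (A : Set G) := hKA (hLK hxL)
        set X := Subgroup.zpowers x with hX
        set W := ⁅A, X⁆ with hW
        have hXA : X ≤ Subgroup.normalizer (A : Set G) := by rwa [hX, Subgroup.zpowers_le]
        have hWA : W ≤ A := Subgroup.le_normalizer_iff_commutator_le_left.1 hXA
        have hW2 : W = ⁅A, X ⊔ Subgroup.centralizer (A : Set G)⁆ := by
          rw [commutator_sup_eq hXA (Subgroup.centralizer_le_normalizer _)]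
          have : ⁅A, Subgroup.centralizer (A : Set G)⁆ = ⊥ := by
            rw [Subgroup.commutator_eq_bot_iff_le_centralizer, Subgroup.le_centralizer_iff]
          rw [this, sup_bot_eq]
        have hPW : P ≤ Subgroup.normalizer (W : Set G) := by
          rw [hW2]
          refine le_normalizer_commutator hPA ?_
          refine le_normalizer_of_conj_mem fun g hg y hy => ?_
          rw [mem_sup_iff_of_le_normalizer (hXA.trans (le_normalizer_centralizer le_rfl))] at hy
          obtain ⟨z, hz, c, hc, rfl⟩ := hy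
          have e : g * (z * c) * g⁻¹ = ⁅g, z⁆ * z * (g * c * g⁻¹) := by
            simp only [commutatorElement_def]; group
          rw [e]
          have hzL : z ∈ L := by
            have : X ≤ L := by rwa [hX, Subgroup.zpowers_le]
            exact this hz
          have h1 : ⁅g, z⁆ ∈ P ⊓ L := by
            refine Subgroup.mem_inf.2 ⟨?_, ?_⟩
            · have : ⁅g, z⁆ = g * (z * g⁻¹ * z⁻¹) := by simp only [commutatorElement_def]; group
              rw [this]
              exact mul_mem hg (conj_mem_of_mem_normalizer (hn (hLK hzL)) (inv_mem hg))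
            · rw [commutatorElement_def]
              exact mul_mem (conj_mem_of_mem_normalizer (hKN (hPK hg)) hzL) (inv_mem hzL)
          have h2 : ⁅g, z⁆ ∈ Subgroup.centralizer (A : Set G) :=
            (Subgroup.centralizer_le (SetLike.coe_subset_coe.2 hAY)) (hPL h1)
          exact mul_mem (mul_mem (Subgroup.mem_sup_right h2) (Subgroup.mem_sup_left hz))
            (Subgroup.mem_sup_right
              (conj_mem_of_mem_normalizer ((le_normalizer_centralizer hPA) hg) hc))
        have hWp : IsPGroup p W := isPGroup_mono (IsElementaryAbelian.isPGroup' hAel) hWA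
        have hWbot : W = ⊥ := by
          by_contra hne
          obtain ⟨P₁, hP₁⟩ := Cfsg.Agent.L.exists_sylIn (p := p) P
          have h3 := inf_centralizer_ne_bot hWp hP₁.isPGroup (hP₁.le.trans hPW) hne
          apply h3
          rw [eq_bot_iff, ← coprime_fixed_eq_bot hAel hxp hxA]
          intro y hy
          obtain ⟨hyW, hyP₁⟩ := Subgroup.mem_inf.1 hy
          refine Subgroup.mem_inf.2 ⟨hyW, ?_⟩
          have hyP : y ∈ Subgroup.centralizer (P : Set G) := by
            rw [← sylIn_sup_pRes hP₁, centralizer_sup_eq]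
            refine Subgroup.mem_inf.2 ⟨hyP₁, ?_⟩
            have := hresP
            rw [Subgroup.le_centralizer_iff] at this
            exact this (hWA hyW)
          have hyB : y ∈ B := Subgroup.mem_inf.2 ⟨hWA hyW, hyP⟩
          have h4 : X ≤ Subgroup.centralizer (B : Set G) := by
            rw [hX, Subgroup.zpowers_le]; exact hx.2
          rw [Subgroup.le_centralizer_iff] at h4
          exact h4 hyB
        have h5 : X ≤ Subgroup.centralizer (A : Set G) := by
          rw [Subgroup.le_centralizer_iff]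
          exact Subgroup.commutator_eq_bot_iff_le_centralizer.1 hWbot
        exact h5 (Subgroup.mem_zpowers x)
      refine hY.red _ inf_le_left (le_normalizer_inf Subgroup.le_normalizer
        (le_normalizer_centralizer (hLK.trans (le_normalizer_inf hKA
          (le_normalizer_centralizer hn))))) ?_
      intro x hx
      obtain ⟨k, hk⟩ := exists_pow_coprime (p := p) x
      refine ⟨k, hCA (Subgroup.mem_inf.2 ⟨pow_mem hx.1 _, ?_⟩)⟩
      exact hx' _ (pow_mem hx _) hk
    have hAB : A ≤ B := hmin hBS inf_le_left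
    rw [Subgroup.le_centralizer_iff]
    exact hAB.trans inf_le_right
  refine le_trans (inf_le_inf_left _ ?_) hCA
  exact Subgroup.centralizer_le (SetLike.coe_subset_coe.2 hAred.le_largest)

end Cfsg.Agent.H18
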