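import Cfsg.Agent.H18.Kieler
import Cfsg.Agent.H18.FrakM
import Cfsg.Agent.H18.SylIn2
import Cfsg.Agent.H10.PComp
import Cfsg.Agent.H19.SylowJoin
import Cfsg.Agent.H23.Subnormal

/-!
# Point stabilizers in groups of local characteristic `p` (helper18)
-/

set_option autoImplicit false
set_option linter.style.haveILetI false
open Cfsg

namespace Cfsg.Agent.H18

variable {G : Type*} [Group G] {p : ℕ}

/-- local characteristic `p`, for subgroups, in ambient form -/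
def LC (p : ℕ) (M : Subgroup G) : Prop := ∀ Z : Subgroup G, Z ≤ M → IsPGroup p Z → Z ≠ ⊥ →
  (M ⊓ Subgroup.normalizer (Z : Set G)) ⊓ Subgroup.centralizer
    ((pCoreOf p (M ⊓ Subgroup.normalizer (Z : Set G)) : Subgroup G) : Set G) ≤
    pCoreOf p (M ⊓ Subgroup.normalizer (Z : Set G))

theorem LC.normal [Finite G] [Fact p.Prime] {M L : Subgroup G} (h : LC p M) (hLM : L ≤ M)
    (hn : M ≤ Subgroup.normalizer (L : Set G)) : LC p L := by
  intro Z hZ hZp hZ1
  refine charP_normal (inf_le_inf_right _ hLM) ?_ (h Z (hZ.trans hLM) hZp hZ1)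
  exact le_normalizer_inf (inf_le_left.trans hn) (inf_le_right.trans Subgroup.le_normalizer)

theorem kieler_local_step [Finite G] [Fact p.Prime] {M T K : Subgroup G} (h : LC p M)
    (hT : L.SylIn p T M) (hKM : K ≤ M) (hn : M ≤ Subgroup.normalizer (K : Set G)) (hTK : T ⊓ K ≠ ⊥) :
    K ⊓ Subgroup.centralizer ((omegaZ p T : Subgroup G) : Set G) =
      K ⊓ Subgroup.centralizer ((omegaZ p (T ⊓ K) : Subgroup G) : Set G) := by
  have hTp := hT.isPGroup
  have hSp : IsPGroup p (T ⊓ K : Subgroup G) := hTp.to_le inf_le_left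
  have hT1 : T ≠ ⊥ := fun h => hTK (by rw [h, bot_inf_eq])
  have hTn : T ≤ Subgroup.normalizer ((T ⊓ K : Subgroup G) : Set G) :=
    le_normalizer_inf Subgroup.le_normalizer (hT.le.trans hn)
  -- the general step
  have key : ∀ Z : Subgroup G, Z ≤ T → Z ≠ ⊥ → T ≤ Subgroup.normalizer (Z : Set G) →
      (K ⊓ Subgroup.normalizer (Z : Set G)) ⊓ Subgroup.centralizer ((omegaZ p T : Subgroup G) : Set G) =
      (K ⊓ Subgroup.normalizer (Z : Set G)) ⊓ Subgroup.centralizer ((omegaZ p (T ⊓ K) : Subgroup G) : Set G) := by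
    intro Z hZT hZ1 hTZ
    have h1 := h Z (hZT.trans hT.le) (hTp.to_le hZT) hZ1
    have h2 : L.SylIn p T (M ⊓ Subgroup.normalizer (Z : Set G)) := hT.of_le (le_inf hT.le hTZ) inf_le_left
    have h3 := kieler_normal h1 h2 (inf_le_inf_right _ hKM : K ⊓ Subgroup.normalizer (Z : Set G) ≤ _)
      (le_normalizer_inf (inf_le_left.trans hn) (inf_le_right.trans Subgroup.le_normalizer))
    have h4 : T ⊓ (K ⊓ Subgroup.normalizer (Z : Set G)) = T ⊓ K := by
      rw [← inf_assoc]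
      exact inf_eq_left.2 (inf_le_left.trans hTZ)
    rw [h4] at h3
    exact h3
  apply le_antisymm
  · have hk := key (omegaZ p T) (omegaZ_le T) (omegaZ_ne_bot hTp hT1)
      ((Subgroup.le_centralizer_iff.1 (omegaZ_le_centralizer T)).trans (Subgroup.centralizer_le_normalizer _))
    intro x hx
    obtain ⟨h1, h2⟩ := Subgroup.mem_inf.1 hx
    have h3 : x ∈ (K ⊓ Subgroup.normalizer ((omegaZ p T : Subgroup G) : Set G)) ⊓
        Subgroup.centralizer ((omegaZ p T : Subgroup G) : Set G) :=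
      ⟨⟨h1, Subgroup.centralizer_le_normalizer _ h2⟩, h2⟩
    rw [hk] at h3
    exact Subgroup.mem_inf.2 ⟨h1, (Subgroup.mem_inf.1 h3).2⟩
  · have hchar : T ≤ Subgroup.normalizer ((omegaZ p (T ⊓ K) : Subgroup G) : Set G) := by
      intro t ht
      rw [Subgroup.mem_normalizer_iff_map_conj_eq]
      have h1 := omegaZ_map_conj (p := p) (T ⊓ K) t
      have h2 := Subgroup.mem_normalizer_iff_map_conj_eq.1 (hTn ht)
      change (T ⊓ K).map (MulAut.conj t).toMonoidHom = T ⊓ K at h2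
      rw [h2] at h1
      exact h1
    have hk := key (omegaZ p (T ⊓ K)) ((omegaZ_le _).trans inf_le_left) (omegaZ_ne_bot hSp hTK) hchar
    intro x hx
    obtain ⟨h1, h2⟩ := Subgroup.mem_inf.1 hx
    have h3 : x ∈ (K ⊓ Subgroup.normalizer ((omegaZ p (T ⊓ K) : Subgroup G) : Set G)) ⊓
        Subgroup.centralizer ((omegaZ p (T ⊓ K) : Subgroup G) : Set G) :=
      ⟨⟨h1, Subgroup.centralizer_le_normalizer _ h2⟩, h2⟩
    rw [← hk] at h3
    exact Subgroup.mem_inf.2 ⟨h1, (Subgroup.mem_inf.1 h3).2⟩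

theorem kieler_local [Finite G] [Fact p.Prime] (hG : LC p (⊤ : Subgroup G)) {T K : Subgroup G}
    (hT : L.SylIn p T ⊤) (hK : K.IsSubnormal) : LC p K ∧ (T ⊓ K ≠ ⊥ →
    K ⊓ Subgroup.centralizer ((omegaZ p T : Subgroup G) : Set G) =
      K ⊓ Subgroup.centralizer ((omegaZ p (T ⊓ K) : Subgroup G) : Set G)) := by
  induction hK with
  | top => exact ⟨hG, fun _ => by rw [inf_top_eq]⟩
  | step A B h_le hSubn hN ih =>
    have hn := (normal_subgroupOf_iff h_le).1 hN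
    refine ⟨ih.1.normal h_le hn, ?_⟩
    intro hne
    have hTB := sylIn_inf_of_isSubnormal hT hSubn
    have e1 : T ⊓ B ⊓ A = T ⊓ A := by rw [inf_assoc, inf_eq_right.2 h_le]
    have hne' : T ⊓ B ≠ ⊥ := fun h => hne (by rw [← e1, h, bot_inf_eq])
    have h1 := kieler_local_step ih.1 hTB h_le hn (by rw [e1]; exact hne)
    rw [e1] at h1
    rw [← h1]
    have h2 := ih.2 hne'
    calc A ⊓ Subgroup.centralizer ((omegaZ p T : Subgroup G) : Set G)
        = A ⊓ (B ⊓ Subgroup.centralizer ((omegaZ p T : Subgroup G) : Set G)) := by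
          rw [← inf_assoc, inf_eq_left.2 h_le]
      _ = A ⊓ Subgroup.centralizer ((omegaZ p (T ⊓ B) : Subgroup G) : Set G) := by
          rw [h2, ← inf_assoc, inf_eq_left.2 h_le]

theorem LC_top [Finite G] (h : Cfsg.IsOfLocalCharacteristic p G) : LC p (⊤ : Subgroup G) := by
  intro Z _ hZp hZ1
  rw [top_inf_eq]
  exact charP_iff_pCoreOf.1 (h.2 Z hZp hZ1)

/-- `p`-elements: two notions -/
theorem isPElt_iff_orderOf [hp : Fact p.Prime] {x : G} : H10.IsPElt p x ↔ ∃ k : ℕ, orderOf x = p ^ k := by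
  constructor
  · rintro ⟨k, hk⟩
    obtain ⟨m, -, hm⟩ := (Nat.dvd_prime_pow hp.out).1 (orderOf_dvd_of_pow_eq_one hk)
    exact ⟨m, hm⟩
  · rintro ⟨k, hk⟩
    exact ⟨k, by rw [← hk, pow_orderOf_eq_one]⟩

theorem pointStabilizer_eq [Finite G] [Fact p.Prime] (hG : LC p (⊤ : Subgroup G)) {T K : Subgroup G}
    (hT : L.SylIn p T ⊤) (hK : K.IsSubnormal) :
    Cfsg.pointStabilizer p K (T ⊓ K) =
      H10.opp p (K ⊓ Subgroup.centralizer ((omegaZ p T : Subgroup G) : Set G)) := by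
  have h1 : Cfsg.pointStabilizer p K (T ⊓ K) =
      H10.opp p (K ⊓ Subgroup.centralizer ((omegaZ p (T ⊓ K) : Subgroup G) : Set G)) := by
    unfold Cfsg.pointStabilizer H10.opp
    congr 1
    ext x
    rw [Set.mem_setOf_eq, Set.mem_setOf_eq, isPElt_iff_orderOf]
  by_cases hTK : T ⊓ K = ⊥
  · have hpel : ∀ x ∈ K, H10.IsPElt p x → x = 1 := by
      intro x hxK hx
      have hs := sylIn_inf_of_isSubnormal hT hK
      have hxp : IsPGroup p (Subgroup.zpowers x) := by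
        obtain ⟨k, hk⟩ := isPElt_iff_orderOf.1 hx
        exact IsPGroup.of_card (n := k) (by rw [Nat.card_zpowers, hk])
      have hc := hs.card_le hxp ((Subgroup.zpowers_le).2 hxK)
      rw [hTK, Subgroup.card_bot, Nat.card_zpowers] at hc
      exact orderOf_eq_one_iff.1 (le_antisymm hc (orderOf_pos x))
    have hbot : ∀ X : Subgroup G, X ≤ K → H10.opp p X = ⊥ := by
      intro X hX
      rw [eq_bot_iff, H10.opp_le_iff]
      intro x hx hxp
      rw [hpel x (hX hx) hxp]; exact one_mem _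
    rw [h1, hbot _ inf_le_left, hbot _ inf_le_left]
  · rw [h1, (kieler_local hG hT hK).2 hTK]

theorem point_sup [Finite G] [Fact p.Prime] (hG : LC p (⊤ : Subgroup G)) {T L₁ L₂ : Subgroup G}
    (hT : L.SylIn p T ⊤) (hT' : H23.IsSylowOf p T ⊤) (h₁ : L₁.IsSubnormal) (h₂ : L₂.IsSubnormal) :
    Cfsg.pointStabilizer p (L₁ ⊔ L₂) (T ⊓ (L₁ ⊔ L₂)) =
      Cfsg.pointStabilizer p L₁ (T ⊓ L₁) ⊔ Cfsg.pointStabilizer p L₂ (T ⊓ L₂) := by
  have h12 : (L₁ ⊔ L₂).IsSubnormal := H23.isSubnormal_sup h₁ h₂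
  rw [pointStabilizer_eq hG hT h12, pointStabilizer_eq hG hT h₁, pointStabilizer_eq hG hT h₂]
  set C := Subgroup.centralizer ((omegaZ p T : Subgroup G) : Set G) with hC
  have hTC : T ≤ C := Subgroup.le_centralizer_iff.1 (omegaZ_le_centralizer T)
  apply le_antisymm
  swap
  · exact sup_le (H10.opp_mono (inf_le_inf_right _ le_sup_left)) (H10.opp_mono (inf_le_inf_right _ le_sup_right))
  -- inside `C`
  have hsub : ∀ K : Subgroup G, K.IsSubnormal → (K.subgroupOf C).IsSubnormal := by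
    intro K hK
    exact hK.subgroupOf
  have hopp : ∀ K : Subgroup G, (H10.opp p (K.subgroupOf C)).map C.subtype = H10.opp p (K ⊓ C) := by
    intro K
    unfold H10.opp
    rw [MonoidHom.map_closure]
    congr 1
    ext x
    constructor
    · rintro ⟨y, ⟨hy1, hy2⟩, rfl⟩
      exact ⟨⟨hy1, y.2⟩, hy2.map C.subtype⟩
    · rintro ⟨⟨hx1, hx2⟩, ⟨k, hk⟩⟩
      exact ⟨⟨x, hx2⟩, ⟨hx1, k, Subtype.ext hk⟩, rfl⟩
  set A : Subgroup C := H10.opp p (L₁.subgroupOf C) ⊔ H10.opp p (L₂.subgroupOf C) with hA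
  have hAs : A.IsSubnormal := H23.isSubnormal_sup (H10.opp_isSubnormal (hsub _ h₁))
    (H10.opp_isSubnormal (hsub _ h₂))
  have hAmap : A.map C.subtype = H10.opp p (L₁ ⊓ C) ⊔ H10.opp p (L₂ ⊓ C) := by
    rw [hA, Subgroup.map_sup, hopp, hopp]
  rw [← hAmap, H10.opp_le_iff]
  intro x hx hxp
  obtain ⟨hxL, hxC⟩ := Subgroup.mem_inf.1 hx
  -- `T ⊓ L ≤ A`
  have hTA : (T ⊓ (L₁ ⊔ L₂)) ≤ A.map C.subtype := by
    rw [inf_comm, H19.sylow_join hT' h₁ h₂, hAmap]
    have : ∀ K : Subgroup G, K ⊓ T ≤ H10.opp p (K ⊓ C) := by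
      intro K y hy
      obtain ⟨hy1, hy2⟩ := Subgroup.mem_inf.1 hy
      apply H10.mem_opp (Subgroup.mem_inf.2 ⟨hy1, hTC hy2⟩)
      obtain ⟨k, hk⟩ := hT.isPGroup ⟨y, hy2⟩
      exact ⟨k, congrArg Subtype.val hk⟩
    exact sup_le_sup (this L₁) (this L₂)
  have hTL := sylIn_inf_of_isSubnormal hT h12
  have hnd : ¬ p ∣ A.relIndex ((L₁ ⊔ L₂).subgroupOf C) := by
    have h1 : A.relIndex ((L₁ ⊔ L₂).subgroupOf C) = (A.map C.subtype).relIndex ((L₁ ⊔ L₂) ⊓ C) := by
      have h2 := Subgroup.relIndex_map_map_of_injective A ((L₁ ⊔ L₂).subgroupOf C) C.subtype_injective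
      rw [Subgroup.subgroupOf_map_subtype] at h2
      exact h2.symm
    rw [h1]
    have h3 : L.SylIn p (T ⊓ (L₁ ⊔ L₂)) ((L₁ ⊔ L₂) ⊓ C) :=
      hTL.of_le (le_inf inf_le_right (inf_le_left.trans hTC)) inf_le_left
    exact fun hd => h3.not_dvd (hd.trans (Subgroup.relIndex_dvd_of_le_left _ hTA))
  have hfin := H10.mem_of_isSubnormal_of_relIndex hAs hnd (x := ⟨x, hxC⟩) hxL (by
    obtain ⟨k, hk⟩ := hxp
    exact ⟨k, Subtype.ext hk⟩)
  exact ⟨_, hfin, rfl⟩

end Cfsg.Agent.H18
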