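import Cfsg.Agent.H18.PCore
import Cfsg.Agent.H10.PBal
import Cfsg.Agent.H23.Coprime
import Cfsg.Agent.H5.Small

/-!
# Recognition of `SL₂(3)` (helper18)
-/

set_option autoImplicit false
set_option linter.style.haveILetI false
open Cfsg

namespace Cfsg.Agent.H18

universe u v

/-- `|N ⟨x⟩| ≤ n |N|` if `x` normalizes `N` and `x ^ n ∈ N`. -/
theorem card_sup_zpowers_le {G : Type u} [Group G] [Finite G] (N : Subgroup G) (x : G) (n : ℕ) (hn : 0 < n)
    (hx : x ∈ Subgroup.normalizer (N : Set G)) (hxn : x ^ n ∈ N) :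
    Nat.card ↥(N ⊔ Subgroup.zpowers x) ≤ n * Nat.card N := by
  have hle : Subgroup.zpowers x ≤ Subgroup.normalizer (N : Set G) := (Subgroup.zpowers_le).2 hx
  let f : Fin n × N → ↥(N ⊔ Subgroup.zpowers x) := fun t => ⟨(t.2 : G) * x ^ (t.1 : ℕ),
    Subgroup.mul_mem_sup t.2.2 (Subgroup.pow_mem _ (Subgroup.mem_zpowers x) _)⟩
  have hf : Function.Surjective f := by
    rintro ⟨g, hg⟩
    obtain ⟨y, hy, z, hz, rfl⟩ := (H23.mem_sup_iff_of_le_normalizer hle).1 hg
    obtain ⟨k, rfl⟩ := mem_powers_iff_mem_zpowers.2 hz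
    refine ⟨(⟨k % n, Nat.mod_lt _ hn⟩, ⟨y * x ^ (n * (k / n)), ?_⟩), ?_⟩
    · rw [pow_mul]
      exact N.mul_mem hy (N.pow_mem hxn _)
    · apply Subtype.ext
      show y * x ^ (n * (k / n)) * x ^ (k % n) = y * x ^ k
      rw [mul_assoc, ← pow_add, Nat.div_add_mod]
  have := Nat.card_le_card_of_surjective f hf
  rwa [Nat.card_prod, Nat.card_fin] at this

/-- relations of the binary tetrahedral group -/
structure BT {G : Type u} [Group G] (i j r : G) : Prop where
  i4 : i ^ 4 = 1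
  jj : j * j = i * i
  conj : j * i * j⁻¹ = i⁻¹
  ri : r * i * r⁻¹ = j
  rj : r * j * r⁻¹ = i * j
  r3 : r ^ 3 = 1

namespace BT

/-- the subgroup generated -/
def sub {G : Type u} [Group G] (i j r : G) : Subgroup G :=
  (Subgroup.zpowers i ⊔ Subgroup.zpowers j) ⊔ Subgroup.zpowers r

variable {G : Type u} [Group G] [Finite G] {i j r : G}

theorem cardA_le (h : BT i j r) : Nat.card ↥(Subgroup.zpowers i ⊔ Subgroup.zpowers j) ≤ 8 := by
  have h1 := card_sup_zpowers_le (Subgroup.zpowers i) j 2 (by norm_num) (by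
    apply H10.mem_normalizer_of_conj_le
    rintro _ ⟨k, rfl⟩
    show j * i ^ k * j⁻¹ ∈ _
    rw [← conj_zpow, h.conj]
    exact Subgroup.zpow_mem _ (Subgroup.inv_mem _ (Subgroup.mem_zpowers i)) k) (by
    rw [pow_two, h.jj]
    exact Subgroup.mul_mem _ (Subgroup.mem_zpowers i) (Subgroup.mem_zpowers i))
  have h2 : Nat.card (Subgroup.zpowers i) ≤ 4 := by
    rw [Nat.card_zpowers]
    exact Nat.le_of_dvd (by norm_num) (orderOf_dvd_of_pow_eq_one h.i4)
  omega

theorem r_norm (h : BT i j r) :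
    r ∈ Subgroup.normalizer ((Subgroup.zpowers i ⊔ Subgroup.zpowers j : Subgroup G) : Set G) := by
  apply H10.mem_normalizer_of_conj_le
  intro t ht
  have h3 : (Subgroup.zpowers i ⊔ Subgroup.zpowers j).map (MulAut.conj r).toMonoidHom ≤
      Subgroup.zpowers i ⊔ Subgroup.zpowers j := by
    rw [Subgroup.map_sup, MonoidHom.map_zpowers, MonoidHom.map_zpowers]
    refine sup_le ((Subgroup.zpowers_le).2 ?_) ((Subgroup.zpowers_le).2 ?_)
    · show r * i * r⁻¹ ∈ _
      rw [h.ri]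
      exact Subgroup.mem_sup_right (Subgroup.mem_zpowers j)
    · show r * j * r⁻¹ ∈ _
      rw [h.rj]
      exact Subgroup.mul_mem_sup (Subgroup.mem_zpowers i) (Subgroup.mem_zpowers j)
  exact h3 ⟨t, ht, rfl⟩

theorem card_sub_le (h : BT i j r) : Nat.card (sub i j r) ≤ 24 := by
  have h1 := card_sup_zpowers_le (Subgroup.zpowers i ⊔ Subgroup.zpowers j) r 3 (by norm_num)
    h.r_norm (by rw [h.r3]; exact Subgroup.one_mem _)
  have h2 := h.cardA_le
  unfold sub
  omega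

theorem orderOf_i (h : BT i j r) (hi : i * i ≠ 1) : orderOf i = 4 := by
  have hi1 : i ≠ 1 := by rintro rfl; exact hi (one_mul 1)
  have h1 : orderOf i ∣ 2 ^ 2 := orderOf_dvd_of_pow_eq_one h.i4
  obtain ⟨k, hk, hk2⟩ := (Nat.dvd_prime_pow Nat.prime_two).1 h1
  interval_cases k
  · rw [pow_zero, orderOf_eq_one_iff] at hk2; exact absurd hk2 hi1
  · exfalso
    apply hi
    rw [← pow_two, ← pow_one 2, ← hk2, pow_orderOf_eq_one]
  · exact hk2

theorem j_notMem (h : BT i j r) (hi : i * i ≠ 1) : j ∉ Subgroup.zpowers i := by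
  rintro ⟨k, rfl⟩
  have h1 := h.conj
  have h2 : (fun x => i ^ x) k * i * ((fun x => i ^ x) k)⁻¹ = i := by
    show i ^ k * i * (i ^ k)⁻¹ = i
    group
  rw [h2] at h1
  apply hi
  nth_rewrite 1 [h1]
  exact inv_mul_cancel i

theorem orderOf_r (h : BT i j r) (hi : i * i ≠ 1) : orderOf r = 3 := by
  have hr1 : r ≠ 1 := by
    rintro rfl
    have := h.ri
    rw [one_mul, inv_one, mul_one] at this
    exact h.j_notMem hi (this ▸ Subgroup.mem_zpowers i)
  exact orderOf_eq_prime h.r3 hr1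

theorem cardA (h : BT i j r) (hi : i * i ≠ 1) :
    Nat.card ↥(Subgroup.zpowers i ⊔ Subgroup.zpowers j) = 8 := by
  have hio := h.orderOf_i hi
  have h1 : 4 ∣ Nat.card ↥(Subgroup.zpowers i ⊔ Subgroup.zpowers j) := by
    rw [← hio, ← Nat.card_zpowers]
    exact Subgroup.card_dvd_of_le le_sup_left
  have h2 := h.cardA_le
  have h3 : Nat.card ↥(Subgroup.zpowers i ⊔ Subgroup.zpowers j) ≠ 4 := by
    intro h4
    have h5 : Subgroup.zpowers i = Subgroup.zpowers i ⊔ Subgroup.zpowers j :=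
      Subgroup.eq_of_le_of_card_ge le_sup_left (by rw [h4, Nat.card_zpowers, hio])
    apply h.j_notMem hi
    rw [h5]
    exact Subgroup.mem_sup_right (Subgroup.mem_zpowers j)
  have h4 : 0 < Nat.card ↥(Subgroup.zpowers i ⊔ Subgroup.zpowers j) := Nat.card_pos
  obtain ⟨k, hk⟩ := h1
  have : k = 2 := by
    have : k ≤ 2 := by omega
    have : k ≠ 0 := by rintro rfl; omega
    have : k ≠ 1 := by rintro rfl; omega
    omega
  omega

theorem card_sub (h : BT i j r) (hi : i * i ≠ 1) : Nat.card (sub i j r) = 24 := by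
  apply le_antisymm h.card_sub_le
  have h8 : 8 ∣ Nat.card (sub i j r) := by
    rw [← h.cardA hi]
    exact Subgroup.card_dvd_of_le le_sup_left
  have h3 : 3 ∣ Nat.card (sub i j r) := by
    rw [← h.orderOf_r hi, ← Nat.card_zpowers]
    exact Subgroup.card_dvd_of_le le_sup_right
  have h24 : 24 ∣ Nat.card (sub i j r) :=
    Nat.Coprime.mul_dvd_of_dvd_of_dvd (by norm_num : Nat.Coprime 8 3) h8 h3
  exact Nat.le_of_dvd Nat.card_pos h24

theorem sub_eq_top (h : BT i j r) (hi : i * i ≠ 1) (hc : Nat.card G = 24) : sub i j r = ⊤ :=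
  Subgroup.eq_top_of_card_eq _ (by rw [h.card_sub hi, hc])

theorem equiv {V : Type v} [Group V] [Finite V] {i' j' r' : V} (h : BT i j r) (h' : BT i' j' r')
    (hi : i * i ≠ 1) (hi' : i' * i' ≠ 1) (hc : Nat.card G = 24) (hc' : Nat.card V = 24) :
    Nonempty (G ≃* V) := by
  have hΓ : BT (i, i') (j, j') (r, r') :=
    ⟨Prod.ext h.i4 h'.i4, Prod.ext h.jj h'.jj, Prod.ext h.conj h'.conj, Prod.ext h.ri h'.ri,
      Prod.ext h.rj h'.rj, Prod.ext h.r3 h'.r3⟩
  set Γ : Subgroup (G × V) := sub (i, i') (j, j') (r, r') with hΓdef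
  have hle := hΓ.card_sub_le
  let p1 : Γ →* G := (MonoidHom.fst G V).comp Γ.subtype
  let p2 : Γ →* V := (MonoidHom.snd G V).comp Γ.subtype
  have hs1 : Function.Surjective p1 := by
    rw [← MonoidHom.range_eq_top, MonoidHom.range_comp, Subgroup.range_subtype, ← h.sub_eq_top hi hc,
      hΓdef, sub, sub, Subgroup.map_sup, Subgroup.map_sup, MonoidHom.map_zpowers, MonoidHom.map_zpowers,
      MonoidHom.map_zpowers]
    rfl
  have hs2 : Function.Surjective p2 := by
    rw [← MonoidHom.range_eq_top, MonoidHom.range_comp, Subgroup.range_subtype, ← h'.sub_eq_top hi' hc',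
      hΓdef, sub, sub, Subgroup.map_sup, Subgroup.map_sup, MonoidHom.map_zpowers, MonoidHom.map_zpowers,
      MonoidHom.map_zpowers]
    rfl
  have hb1 : Function.Bijective p1 := hs1.bijective_of_nat_card_le (by rw [hc]; exact hle)
  have hb2 : Function.Bijective p2 := hs2.bijective_of_nat_card_le (by rw [hc']; exact hle)
  exact ⟨(MulEquiv.ofBijective p1 hb1).symm.trans (MulEquiv.ofBijective p2 hb2)⟩

end BT

theorem BT.mk' {G : Type u} [Group G] {i j r : G} (h1 : i ^ 4 = 1) (h2 : j * j = i * i)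
    (h3 : i * (j * i) = j) (h4 : r * i = j * r) (h5 : r * j = i * j * r) (h6 : r ^ 3 = 1) : BT i j r := by
  refine ⟨h1, h2, ?_, ?_, ?_, h6⟩
  · rw [mul_inv_eq_iff_eq_mul, eq_inv_mul_iff_mul_eq]; exact h3
  · rw [mul_inv_eq_iff_eq_mul]; exact h4
  · rw [mul_inv_eq_iff_eq_mul]; exact h5

open Matrix in
theorem BT_SL23 : ∃ i j r : Matrix.SpecialLinearGroup (Fin 2) (ZMod 3), BT i j r ∧ i * i ≠ 1 := by
  have h3 : ∀ (i j r : Matrix.SpecialLinearGroup (Fin 2) (ZMod 3)), i.1 = !![0, 2; 1, 0] →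
      j.1 = !![1, 1; 1, 2] → r.1 = !![1, 1; 0, 1] → BT i j r ∧ i * i ≠ 1 := by
    intro i j r hi hj hr
    have e1 : ∀ a b : Matrix.SpecialLinearGroup (Fin 2) (ZMod 3), (a * b).1 = a.1 * b.1 := fun _ _ => rfl
    have e2 : ((1 : Matrix.SpecialLinearGroup (Fin 2) (ZMod 3))).1 = 1 := rfl
    refine ⟨BT.mk' (H5.SL_ext ?_) (H5.SL_ext ?_) (H5.SL_ext ?_) (H5.SL_ext ?_) (H5.SL_ext ?_)
      (H5.SL_ext ?_), fun h => ?_⟩
    · show i.1 ^ 4 = 1
      rw [hi]; decide
    · show j.1 * j.1 = i.1 * i.1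
      rw [hi, hj]; decide
    · show i.1 * (j.1 * i.1) = j.1
      rw [hi, hj]; decide
    · show r.1 * i.1 = j.1 * r.1
      rw [hi, hj, hr]; decide
    · show r.1 * j.1 = i.1 * j.1 * r.1
      rw [hi, hj, hr]; decide
    · show r.1 ^ 3 = 1
      rw [hr]; decide
    · have h' : i.1 * i.1 = 1 := congrArg Subtype.val h
      rw [hi] at h'
      revert h'
      decide
  exact ⟨⟨!![0, 2; 1, 0], by decide⟩, ⟨!![1, 1; 1, 2], by decide⟩, ⟨!![1, 1; 0, 1], by decide⟩,
    h3 _ _ _ rfl rfl rfl⟩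

theorem card_SL23 : Nat.card (Matrix.SpecialLinearGroup (Fin 2) (ZMod 3)) = 24 := by
  haveI : Fact (Nat.Prime 3) := ⟨Nat.prime_three⟩
  have := H5.card_SL2 (F := ZMod 3) (q := 3) (ZMod.card 3)
  rw [this]; norm_num

/-- recognition of `SL₂(3)` -/
theorem BT.equiv_SL23 {G : Type u} [Group G] [Finite G] {i j r : G} (h : BT i j r) (hi : i * i ≠ 1)
    (hc : Nat.card G = 24) : Nonempty (G ≃* Matrix.SpecialLinearGroup (Fin 2) (ZMod 3)) := by
  obtain ⟨i', j', r', h', hi'⟩ := BT_SL23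
  exact h.equiv h' hi hi' hc card_SL23

end Cfsg.Agent.H18
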