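import Cfsg.Agent.H18.SL23
import Cfsg.Agent.H24.Quat

/-!
# Groups with a normal self-centralizing quaternion group (helper18)
-/

set_option autoImplicit false
set_option linter.style.haveILetI false
open Cfsg

namespace Cfsg.Agent.H18

universe u v

set_option maxRecDepth 100000 in
theorem Q8_card_pairs : Fintype.card {t : QuaternionGroup 2 × QuaternionGroup 2 //
    t.1 * t.1 ≠ 1 ∧ t.2 * t.2 ≠ 1 ∧ t.1 * t.2 ≠ t.2 * t.1} = 24 := by
  decide

theorem Q8_center : ∀ z : QuaternionGroup 2, (∀ a : QuaternionGroup 2, a * z = z * a) →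
    z = 1 ∨ z = QuaternionGroup.a 2 := by
  decide

theorem BT.nonempty_equiv_Q8 {G : Type u} [Group G] [Finite G] {i j r : G} (h : BT i j r) (hi : i * i ≠ 1) :
    Nonempty (↥(Subgroup.zpowers i ⊔ Subgroup.zpowers j) ≃* QuaternionGroup 2) := by
  set Q := Subgroup.zpowers i ⊔ Subgroup.zpowers j with hQ
  have hiQ : i ∈ Q := Subgroup.mem_sup_left (Subgroup.mem_zpowers i)
  have hjQ : j ∈ Q := Subgroup.mem_sup_right (Subgroup.mem_zpowers j)
  refine H24.nonempty_mulEquiv_quaternion 2 (⟨i, hiQ⟩ : Q) ⟨j, hjQ⟩ (Subtype.ext h.i4) ?_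
    (Subtype.ext h.conj) ?_ ?_
  · apply Subtype.ext
    show j * j = i ^ 2
    rw [h.jj, pow_two]
  · rw [eq_top_iff]
    have h1 : (Subgroup.closure ({⟨i, hiQ⟩, ⟨j, hjQ⟩} : Set Q)).map Q.subtype = Q := by
      rw [MonoidHom.map_closure, Set.image_pair]
      show Subgroup.closure {i, j} = Q
      rw [hQ, Subgroup.zpowers_eq_closure, Subgroup.zpowers_eq_closure, ← Subgroup.closure_union]
      rfl
    rintro ⟨g, hg⟩ -
    have hg2 := hg
    rw [← h1] at hg2
    obtain ⟨w, hw, hwg⟩ := hg2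
    have e : w = ⟨g, hg⟩ := Subtype.ext hwg
    rwa [← e]
  · rw [h.cardA hi]

/-- `|G| ≤ 48` if `Q8` is normal and self-centralizing -/
theorem BT.card_le_48 {G : Type u} [Group G] [Finite G] {i j r : G} (h : BT i j r) (hi : i * i ≠ 1)
    (hQ : (Subgroup.zpowers i ⊔ Subgroup.zpowers j).Normal)
    (hC : Subgroup.centralizer ((Subgroup.zpowers i ⊔ Subgroup.zpowers j : Subgroup G) : Set G) ≤
      Subgroup.zpowers i ⊔ Subgroup.zpowers j) : Nat.card G ≤ 48 := by
  classical
  obtain ⟨e⟩ := h.nonempty_equiv_Q8 hi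
  set Q := Subgroup.zpowers i ⊔ Subgroup.zpowers j with hQdef
  have hiQ : i ∈ Q := Subgroup.mem_sup_left (Subgroup.mem_zpowers i)
  have hjQ : j ∈ Q := Subgroup.mem_sup_right (Subgroup.mem_zpowers j)
  set C := Subgroup.centralizer (Q : Set G) with hCdef
  -- the centralizer
  have hCcard : Nat.card C ≤ 2 := by
    let f : C → ({1, QuaternionGroup.a 2} : Finset (QuaternionGroup 2)) := fun c => ⟨e ⟨c, hC c.2⟩, by
      rw [Finset.mem_insert, Finset.mem_singleton]
      apply Q8_center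
      intro a
      obtain ⟨b, rfl⟩ := e.surjective a
      rw [← map_mul, ← map_mul]
      congr 1
      exact Subtype.ext (Subgroup.mem_centralizer_iff.1 c.2 b b.2)⟩
    have hf : Function.Injective f := by
      intro c d hcd
      have h1 : (⟨(c : G), hC c.2⟩ : Q) = ⟨(d : G), hC d.2⟩ := e.injective (congrArg Subtype.val hcd)
      exact Subtype.ext (Subtype.mk.inj h1)
    have h1 := Nat.card_le_card_of_injective f hf
    refine h1.trans ?_
    rw [Nat.card_eq_fintype_card, Fintype.card_coe]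
    exact Finset.card_le_two
  -- the quotient
  have hij : i * j ≠ j * i := by
    intro h1
    have h2 := h.conj
    rw [← h1, mul_inv_cancel_right] at h2
    apply hi
    nth_rewrite 1 [h2]
    exact inv_mul_cancel i
  have hquot : Nat.card (G ⧸ C) ≤ 24 := by
    rw [← Q8_card_pairs, ← Nat.card_eq_fintype_card]
    have key : ∀ g : G, e ⟨g * i * g⁻¹, hQ.conj_mem i hiQ g⟩ * e ⟨g * i * g⁻¹, hQ.conj_mem i hiQ g⟩ ≠ 1 ∧
        e ⟨g * j * g⁻¹, hQ.conj_mem j hjQ g⟩ * e ⟨g * j * g⁻¹, hQ.conj_mem j hjQ g⟩ ≠ 1 ∧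
        e ⟨g * i * g⁻¹, hQ.conj_mem i hiQ g⟩ * e ⟨g * j * g⁻¹, hQ.conj_mem j hjQ g⟩ ≠
        e ⟨g * j * g⁻¹, hQ.conj_mem j hjQ g⟩ * e ⟨g * i * g⁻¹, hQ.conj_mem i hiQ g⟩ := by
      intro g
      refine ⟨?_, ?_, ?_⟩
      · intro h1
        rw [← map_mul, map_eq_one_iff e e.injective] at h1
        have h2 : g * i * g⁻¹ * (g * i * g⁻¹) = 1 := congrArg Subtype.val h1
        have h3 : g * (i * i) * g⁻¹ = 1 := by rw [← h2]; group
        rw [conj_eq_one_iff] at h3
        exact hi h3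
      · intro h1
        rw [← map_mul, map_eq_one_iff e e.injective] at h1
        have h2 : g * j * g⁻¹ * (g * j * g⁻¹) = 1 := congrArg Subtype.val h1
        have h3 : g * (j * j) * g⁻¹ = 1 := by rw [← h2]; group
        rw [conj_eq_one_iff, h.jj] at h3
        exact hi h3
      · intro h1
        rw [← map_mul, ← map_mul] at h1
        have h2 : g * i * g⁻¹ * (g * j * g⁻¹) = g * j * g⁻¹ * (g * i * g⁻¹) :=
          congrArg Subtype.val (e.injective h1)
        have h3 : g * (i * j) * g⁻¹ = g * (j * i) * g⁻¹ := by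
          calc g * (i * j) * g⁻¹ = g * i * g⁻¹ * (g * j * g⁻¹) := by group
            _ = g * j * g⁻¹ * (g * i * g⁻¹) := h2
            _ = g * (j * i) * g⁻¹ := by group
        exact hij (mul_left_cancel (mul_right_cancel h3))
    have hwd : ∀ a b : G, a⁻¹ * b ∈ C → ∀ y ∈ Q, a * y * a⁻¹ = b * y * b⁻¹ := by
      intro a b hab y hy
      have h1 := Subgroup.mem_centralizer_iff.1 hab y hy
      calc a * y * a⁻¹ = a * (y * (a⁻¹ * b)) * b⁻¹ := by group
        _ = a * (a⁻¹ * b * y) * b⁻¹ := by rw [h1]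
        _ = b * y * b⁻¹ := by group
    let F : G ⧸ C → {t : QuaternionGroup 2 × QuaternionGroup 2 //
        t.1 * t.1 ≠ 1 ∧ t.2 * t.2 ≠ 1 ∧ t.1 * t.2 ≠ t.2 * t.1} :=
      Quotient.lift (fun g => ⟨(e ⟨g * i * g⁻¹, hQ.conj_mem i hiQ g⟩, e ⟨g * j * g⁻¹, hQ.conj_mem j hjQ g⟩), key g⟩)
        (by
          intro a b hab
          have h1 : a⁻¹ * b ∈ C := QuotientGroup.leftRel_apply.1 hab
          apply Subtype.ext
          refine Prod.ext ?_ ?_
          · exact congrArg e (Subtype.ext (hwd a b h1 i hiQ))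
          · exact congrArg e (Subtype.ext (hwd a b h1 j hjQ)))
    apply Nat.card_le_card_of_injective F
    intro a b
    induction a using QuotientGroup.induction_on with
    | H a =>
    induction b using QuotientGroup.induction_on with
    | H b =>
    intro hab
    rw [QuotientGroup.eq]
    have h0 := congrArg Subtype.val hab
    have h1 : e ⟨a * i * a⁻¹, hQ.conj_mem i hiQ a⟩ = e ⟨b * i * b⁻¹, hQ.conj_mem i hiQ b⟩ := congrArg Prod.fst h0
    have h2 : e ⟨a * j * a⁻¹, hQ.conj_mem j hjQ a⟩ = e ⟨b * j * b⁻¹, hQ.conj_mem j hjQ b⟩ := congrArg Prod.snd h0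
    have h1' : a * i * a⁻¹ = b * i * b⁻¹ := congrArg Subtype.val (e.injective h1)
    have h2' : a * j * a⁻¹ = b * j * b⁻¹ := congrArg Subtype.val (e.injective h2)
    have hc : ∀ y, a * y * a⁻¹ = b * y * b⁻¹ → y ∈ Subgroup.centralizer ({a⁻¹ * b} : Set G) := by
      intro y hy
      rw [Subgroup.mem_centralizer_singleton_iff]
      calc y * (a⁻¹ * b) = a⁻¹ * (a * y * a⁻¹) * b := by group
        _ = a⁻¹ * (b * y * b⁻¹) * b := by rw [hy]
        _ = a⁻¹ * b * y := by group
    have h3 : Q ≤ Subgroup.centralizer ({a⁻¹ * b} : Set G) :=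
      sup_le ((Subgroup.zpowers_le).2 (hc i h1')) ((Subgroup.zpowers_le).2 (hc j h2'))
    rw [hCdef, Subgroup.mem_centralizer_iff]
    intro y hy
    exact Subgroup.mem_centralizer_singleton_iff.1 (h3 hy)
  rw [Subgroup.card_eq_card_quotient_mul_card_subgroup C]
  calc Nat.card (G ⧸ C) * Nat.card C ≤ 24 * 2 := Nat.mul_le_mul hquot hCcard
    _ = 48 := by norm_num

theorem BT.exists_normal_SL23 {G : Type u} [Group G] [Finite G] {i j r : G} (h : BT i j r) (hi : i * i ≠ 1)
    (hQ : (Subgroup.zpowers i ⊔ Subgroup.zpowers j).Normal)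
    (hC : Subgroup.centralizer ((Subgroup.zpowers i ⊔ Subgroup.zpowers j : Subgroup G) : Set G) ≤
      Subgroup.zpowers i ⊔ Subgroup.zpowers j) :
    ∃ U : Subgroup G, U.Normal ∧ Nonempty (U ≃* Matrix.SpecialLinearGroup (Fin 2) (ZMod 3)) := by
  have h48 := h.card_le_48 hi hQ hC
  have h24 := h.card_sub hi
  refine ⟨BT.sub i j r, ?_, ?_⟩
  · have h1 := Subgroup.index_mul_card (BT.sub i j r)
    rw [h24] at h1
    have h2 : (BT.sub i j r).index ≤ 2 := by omega
    have h3 : (BT.sub i j r).index ≠ 0 := Subgroup.FiniteIndex.index_ne_zero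
    interval_cases hidx : (BT.sub i j r).index
    · exact absurd rfl h3
    · rw [Subgroup.index_eq_one] at hidx
      rw [hidx]; infer_instance
    · exact Subgroup.normal_of_index_eq_two hidx
  · have hiU : i ∈ BT.sub i j r := Subgroup.mem_sup_left (Subgroup.mem_sup_left (Subgroup.mem_zpowers i))
    have hjU : j ∈ BT.sub i j r := Subgroup.mem_sup_left (Subgroup.mem_sup_right (Subgroup.mem_zpowers j))
    have hrU : r ∈ BT.sub i j r := Subgroup.mem_sup_right (Subgroup.mem_zpowers r)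
    have hU : BT (⟨i, hiU⟩ : BT.sub i j r) ⟨j, hjU⟩ ⟨r, hrU⟩ :=
      ⟨Subtype.ext h.i4, Subtype.ext h.jj, Subtype.ext h.conj, Subtype.ext h.ri,
        Subtype.ext h.rj, Subtype.ext h.r3⟩
    exact hU.equiv_SL23 (fun h1 => hi (congrArg Subtype.val h1)) h24

end Cfsg.Agent.H18
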