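import Cfsg.Agent.H29.XS4
import Cfsg.Agent.H18.SL23

/-!
# Extraspecial 2-groups: decomposition and classification (helper18)
-/

set_option autoImplicit false
set_option linter.style.haveILetI false
open Cfsg

namespace Cfsg.Agent.H18

/-- extraspecial 2-groups, including the group of order two -/
structure Xt (E : Type*) [Group E] (z : E) : Prop where
  z_ne : z ≠ 1
  z_sq : z * z = 1
  z_comm : ∀ x : E, x * z = z * x
  cent : ∀ x : E, (∀ y, x * y = y * x) → x = 1 ∨ x = z
  comm : ∀ x y : E, x * y = y * x ∨ x * y = z * (y * x)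
  sq : ∀ x : E, x * x = 1 ∨ x * x = z

theorem Xt.of_xs {E : Type*} [Group E] {z : E} (h : H29.XS (⊤ : Subgroup E) z) : Xt E z where
  z_ne := h.z_ne
  z_sq := h.z_sq
  z_comm := fun x => h.z_comm x trivial
  cent := fun x hx => h.cent x trivial (fun y _ => hx y)
  comm := fun x y => h.comm x trivial y trivial
  sq := fun x => h.sq x trivial

namespace Xt

variable {E : Type*} [Group E] {z : E} (h : Xt E z)
include h

theorem zz (x : E) : z * (z * x) = x := by rw [← mul_assoc, h.z_sq, one_mul]

theorem ne_z_mul (x : E) : z * x ≠ x := fun h1 => h.z_ne (mul_eq_right.1 h1)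

/-- product rule for commutation with `x` -/
theorem comm_mul_cc {x a b : E} (h1 : x * a = a * x) (h2 : x * b = b * x) : x * (a * b) = a * b * x := by
  rw [← mul_assoc, h1, mul_assoc, h2, mul_assoc]

theorem comm_mul_cn {x a b : E} (h1 : x * a = a * x) (h2 : x * b = z * (b * x)) :
    x * (a * b) = z * (a * b * x) := by
  rw [← mul_assoc, h1, mul_assoc, h2, ← mul_assoc, h.z_comm a]; simp only [mul_assoc]

theorem comm_mul_nc {x a b : E} (h1 : x * a = z * (a * x)) (h2 : x * b = b * x) :
    x * (a * b) = z * (a * b * x) := by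
  rw [← mul_assoc, h1, mul_assoc, mul_assoc, h2]; simp only [mul_assoc]

theorem comm_mul_nn {x a b : E} (h1 : x * a = z * (a * x)) (h2 : x * b = z * (b * x)) :
    x * (a * b) = a * b * x := by
  rw [← mul_assoc, h1, mul_assoc, mul_assoc, h2, ← mul_assoc a, h.z_comm a, mul_assoc z, h.zz, mul_assoc]

theorem nsymm {x y : E} (h1 : x * y = z * (y * x)) : y * x = z * (x * y) := by
  rw [h1, h.zz]

/-- the centralizer of a pair -/
def cen (x y : E) : Subgroup E := Subgroup.centralizer {x, y}

omit h in
theorem mem_cen {x y c : E} : c ∈ cen x y ↔ x * c = c * x ∧ y * c = c * y := by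
  unfold cen
  rw [Subgroup.mem_centralizer_iff]
  constructor
  · intro h; exact ⟨h x (by simp), h y (by simp)⟩
  · rintro ⟨h1, h2⟩ w hw
    rcases hw with rfl | hw
    · exact h1
    · rw [Set.mem_singleton_iff] at hw
      rw [hw]; exact h2

theorem z_mem_cen (x y : E) : z ∈ cen x y := mem_cen.2 ⟨h.z_comm x, h.z_comm y⟩

/-- the parametrization -/
def par (x y : E) (t : Bool × Bool × cen x y) : E :=
  (if t.1 then x else 1) * (if t.2.1 then y else 1) * t.2.2

theorem par_bij {x y : E} (hxy : x * y = z * (y * x)) : Function.Bijective (par x y) := by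
  have hxx : x * x = x * x := rfl
  constructor
  · rintro ⟨i, j, c, hc⟩ ⟨i', j', c', hc'⟩ heq
    obtain ⟨hc1, hc2⟩ := mem_cen.1 hc
    obtain ⟨hc1', hc2'⟩ := mem_cen.1 hc'
    unfold par at heq
    simp only at heq
    -- commutation with `x` detects `j`
    have hj : ∀ (i j : Bool) (c : E), x * c = c * x →
        (j = false → x * ((if i then x else 1) * (if j then y else 1) * c) =
          ((if i then x else 1) * (if j then y else 1) * c) * x) ∧
        (j = true → x * ((if i then x else 1) * (if j then y else 1) * c) =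
          z * (((if i then x else 1) * (if j then y else 1) * c) * x)) := by
      intro i j c hc
      have hi : x * (if i then x else 1) = (if i then x else 1) * x := by cases i <;> simp
      constructor
      · rintro rfl
        exact h.comm_mul_cc (h.comm_mul_cc hi (by simp)) hc
      · rintro rfl
        exact h.comm_mul_nc (h.comm_mul_cn hi (by simpa using hxy)) hc
    have hi : ∀ (i j : Bool) (c : E), y * c = c * y →
        (i = false → y * ((if i then x else 1) * (if j then y else 1) * c) =
          ((if i then x else 1) * (if j then y else 1) * c) * y) ∧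
        (i = true → y * ((if i then x else 1) * (if j then y else 1) * c) =
          z * (((if i then x else 1) * (if j then y else 1) * c) * y)) := by
      intro i j c hc
      have hj : y * (if j then y else 1) = (if j then y else 1) * y := by cases j <;> simp
      constructor
      · rintro rfl
        exact h.comm_mul_cc (h.comm_mul_cc (by simp) hj) hc
      · rintro rfl
        exact h.comm_mul_nc (h.comm_mul_nc (by simpa using h.nsymm hxy) hj) hc
    have e1 : j = j' := by
      rcases Bool.eq_false_or_eq_true j with hj1 | hj1 <;>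
        rcases Bool.eq_false_or_eq_true j' with hj2 | hj2
      · rw [hj1, hj2]
      · exfalso
        have a1 := (hj i j c hc1).2 hj1
        have a2 := (hj i' j' c' hc1').1 hj2
        rw [← heq, a1] at a2
        exact h.ne_z_mul _ a2
      · exfalso
        have a1 := (hj i j c hc1).1 hj1
        have a2 := (hj i' j' c' hc1').2 hj2
        rw [← heq, a1] at a2
        exact h.ne_z_mul _ a2.symm
      · rw [hj1, hj2]
    have e2 : i = i' := by
      rcases Bool.eq_false_or_eq_true i with hj1 | hj1 <;>
        rcases Bool.eq_false_or_eq_true i' with hj2 | hj2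
      · rw [hj1, hj2]
      · exfalso
        have a1 := (hi i j c hc2).2 hj1
        have a2 := (hi i' j' c' hc2').1 hj2
        rw [← heq, a1] at a2
        exact h.ne_z_mul _ a2
      · exfalso
        have a1 := (hi i j c hc2).1 hj1
        have a2 := (hi i' j' c' hc2').2 hj2
        rw [← heq, a1] at a2
        exact h.ne_z_mul _ a2.symm
      · rw [hj1, hj2]
    subst e1 e2
    have := mul_left_cancel heq
    subst this
    rfl
  · intro g
    rcases h.comm x g with hxg | hxg <;> rcases h.comm y g with hyg | hyg
    · exact ⟨⟨false, false, g, mem_cen.2 ⟨hxg, hyg⟩⟩, by simp [par]⟩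
    · -- multiply by x
      refine ⟨⟨true, false, x⁻¹ * g, mem_cen.2 ⟨?_, ?_⟩⟩, by simp [par]⟩
      · exact h.comm_mul_cc (by group) hxg
      · refine h.comm_mul_nn ?_ hyg
        -- y x⁻¹ = z x⁻¹ y
        have h1 := h.nsymm hxy
        have h2 : y = z * (x * y * x⁻¹) := by
          rw [← mul_assoc, ← h1]; group
        have h3 : x⁻¹ * y = z * (y * x⁻¹) := by
          nth_rewrite 1 [h2]
          rw [← mul_assoc, ← mul_assoc, h.z_comm x⁻¹]; group
        rw [h3, h.zz]
    · refine ⟨⟨false, true, y⁻¹ * g, mem_cen.2 ⟨?_, ?_⟩⟩, by simp [par]⟩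
      · refine h.comm_mul_nn ?_ hxg
        have h2 : x = z * (y * x * y⁻¹) := by
          rw [← mul_assoc, ← hxy]; group
        have h3 : y⁻¹ * x = z * (x * y⁻¹) := by
          nth_rewrite 1 [h2]
          rw [← mul_assoc, ← mul_assoc, h.z_comm y⁻¹]; group
        rw [h3, h.zz]
      · exact h.comm_mul_cc (by group) hyg
    · refine ⟨⟨true, true, (x * y)⁻¹ * g, mem_cen.2 ⟨?_, ?_⟩⟩, by simp [par]; group⟩
      · refine h.comm_mul_nn ?_ hxg
        have h1 : x * (x * y) = z * (x * y * x) := h.comm_mul_cn rfl hxy
        have h2 : x = z * ((x * y) * x * (x * y)⁻¹) := by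
          rw [← mul_assoc, ← h1]; group
        have h3 : (x * y)⁻¹ * x = z * (x * (x * y)⁻¹) := by
          nth_rewrite 2 [h2]
          rw [← mul_assoc, h.z_comm (x * y)⁻¹]; group
        rw [h3, h.zz]
      · refine h.comm_mul_nn ?_ hyg
        have h1 : y * (x * y) = z * (x * y * y) := h.comm_mul_nc (h.nsymm hxy) rfl
        have h2 : y = z * ((x * y) * y * (x * y)⁻¹) := by
          rw [← mul_assoc, ← h1]; group
        have h3 : (x * y)⁻¹ * y = z * (y * (x * y)⁻¹) := by
          nth_rewrite 2 [h2]
          rw [← mul_assoc, h.z_comm (x * y)⁻¹]; group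
        rw [h3, h.zz]

end Xt

end Cfsg.Agent.H18
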