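import Cfsg.Agent.H18.Xt1

/-!
# Extraspecial 2-groups: classification (helper18)
-/

set_option autoImplicit false
set_option linter.style.haveILetI false
open Cfsg

namespace Cfsg.Agent.H18

/-- the graph of an isomorphism -/
theorem exists_equiv_of_graph {E E' : Type*} [Group E] [Finite E] [Group E'] [Finite E']
    (K : Subgroup (E × E')) (h1 : ∀ g : E, ∃ g' : E', (g, g') ∈ K)
    (h2 : ∀ g' : E', ∃ g : E, (g, g') ∈ K) (hc : Nat.card K ≤ Nat.card E)
    (hc' : Nat.card K ≤ Nat.card E') : ∃ e : E ≃* E', ∀ g g', (g, g') ∈ K → e g = g' := by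
  haveI : Finite (E × E') := inferInstance
  let p1 : K →* E := (MonoidHom.fst E E').comp K.subtype
  let p2 : K →* E' := (MonoidHom.snd E E').comp K.subtype
  have s1 : Function.Surjective p1 := fun g => by
    obtain ⟨g', hg⟩ := h1 g
    exact ⟨⟨(g, g'), hg⟩, rfl⟩
  have s2 : Function.Surjective p2 := fun g' => by
    obtain ⟨g, hg⟩ := h2 g'
    exact ⟨⟨(g, g'), hg⟩, rfl⟩
  have b1 : Function.Bijective p1 := by
    rw [Nat.bijective_iff_surjective_and_card]
    exact ⟨s1, le_antisymm hc (Nat.card_le_card_of_surjective p1 s1)⟩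
  have b2 : Function.Bijective p2 := by
    rw [Nat.bijective_iff_surjective_and_card]
    exact ⟨s2, le_antisymm hc' (Nat.card_le_card_of_surjective p2 s2)⟩
  let e1 := MulEquiv.ofBijective p1 b1
  let e2 := MulEquiv.ofBijective p2 b2
  refine ⟨e1.symm.trans e2, fun g g' hg => ?_⟩
  have : e1.symm g = ⟨(g, g'), hg⟩ := by
    rw [MulEquiv.symm_apply_eq]; rfl
  change e2 (e1.symm g) = g'
  rw [this]; rfl

namespace Xt

variable {E : Type*} [Group E] {z : E}

theorem card_eq [Finite E] (h : Xt E z) {x y : E} (hxy : x * y = z * (y * x)) :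
    Nat.card E = 4 * Nat.card (cen x y) := by
  rw [← Nat.card_congr (Equiv.ofBijective _ (h.par_bij hxy)), Nat.card_prod, Nat.card_prod]
  simp
  ring

theorem cent_xt (h : Xt E z) {x y : E} (hxy : x * y = z * (y * x)) :
    Xt (cen x y) ⟨z, h.z_mem_cen x y⟩ where
  z_ne := fun h1 => h.z_ne (congrArg Subtype.val h1)
  z_sq := Subtype.ext h.z_sq
  z_comm := fun c => Subtype.ext (h.z_comm c)
  cent := by
    rintro ⟨c, hc⟩ hcc
    have h1 : ∀ d ∈ cen x y, c * d = d * c := fun d hd => congrArg Subtype.val (hcc ⟨d, hd⟩)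
    have h2 : ∀ g, c * g = g * c := by
      intro g
      obtain ⟨⟨i, j, d, hd⟩, rfl⟩ := (h.par_bij hxy).2 g
      unfold par
      simp only
      have e1 : c * x = x * c := (mem_cen.1 hc).1.symm
      have e2 : c * y = y * c := (mem_cen.1 hc).2.symm
      refine h.comm_mul_cc (h.comm_mul_cc ?_ ?_) (h1 d hd)
      · cases i <;> simp [e1]
      · cases j <;> simp [e2]
    rcases h.cent c h2 with h3 | h3
    · left; exact Subtype.ext h3
    · right; exact Subtype.ext h3
  comm := by
    rintro ⟨c, hc⟩ ⟨d, hd⟩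
    rcases h.comm c d with h1 | h1
    · left; exact Subtype.ext h1
    · right; exact Subtype.ext h1
  sq := by
    rintro ⟨c, hc⟩
    rcases h.sq c with h1 | h1
    · left; exact Subtype.ext h1
    · right; exact Subtype.ext h1

theorem exists_pair (h : Xt E z) {x : E} (hx1 : x ≠ 1) (hxz : x ≠ z) :
    ∃ y, x * y = z * (y * x) := by
  by_contra hcon
  push Not at hcon
  rcases h.cent x (fun y => (h.comm x y).resolve_right (hcon y)) with h1 | h1
  · exact hx1 h1
  · exact hxz h1

theorem mul_sq_n (h : Xt E z) {x y : E} (hxy : x * y = z * (y * x)) :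
    (x * y) * (x * y) = z * (x * x) * (y * y) := by
  have h1 : y * x = z * (x * y) := h.nsymm hxy
  calc (x * y) * (x * y) = x * (y * x) * y := by group
    _ = z * (x * x) * (y * y) := by
      rw [h1, ← mul_assoc x z, h.z_comm x]; group

theorem mul_sq_c (h : Xt E z) {x y : E} (hxy : x * y = y * x) :
    (x * y) * (x * y) = (x * x) * (y * y) := by
  calc (x * y) * (x * y) = x * (y * x) * y := by group
    _ = (x * x) * (y * y) := by rw [← hxy]; group

/-- a noncentral involution lies in a dihedral pair -/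
theorem exists_dih (h : Xt E z) {x : E} (hx1 : x ≠ 1) (hxz : x ≠ z) (hx : x * x = 1) :
    ∃ y, x * y = z * (y * x) ∧ y * y = 1 := by
  obtain ⟨y, hy⟩ := h.exists_pair hx1 hxz
  rcases h.sq y with h1 | h1
  · exact ⟨y, hy, h1⟩
  · refine ⟨x * y, h.comm_mul_cn rfl hy, ?_⟩
    rw [h.mul_sq_n hy, hx, h1, mul_one, h.z_sq]

/-- number of elements squaring to one -/
noncomputable def inv2 (E : Type*) [Group E] : ℕ := Nat.card {x : E // x ^ 2 = 1}

theorem count_dih [Finite E] (h : Xt E z) {x y : E} (hxy : x * y = z * (y * x)) (hx : x * x = 1)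
    (hy : y * y = 1) : inv2 E = 2 * inv2 (cen x y) + Nat.card (cen x y) := by
  classical
  haveI : Fintype E := Fintype.ofFinite E
  haveI : Fintype (cen x y) := Fintype.ofFinite _
  have hsqc : ∀ (d c : E), d * c = c * d → (d * c) ^ 2 = (d * d) * (c * c) := by
    intro d c hdc
    rw [pow_two]; exact h.mul_sq_c hdc
  have key : ∀ t : Bool × Bool × cen x y, (par x y t) ^ 2 = 1 ↔
      (if t.1 ∧ t.2.1 then (t.2.2 : E) ^ 2 = z else (t.2.2 : E) ^ 2 = 1) := by
    rintro ⟨i, j, c, hc⟩
    obtain ⟨hc1, hc2⟩ := mem_cen.1 hc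
    unfold par
    simp only
    have hcom : ((if i then x else 1) * (if j then y else 1)) * c =
        c * ((if i then x else 1) * (if j then y else 1)) := by
      have : c * ((if i then x else 1) * (if j then y else 1)) =
        ((if i then x else 1) * (if j then y else 1)) * c := by
        apply h.comm_mul_cc
        · cases i <;> simp [hc1]
        · cases j <;> simp [hc2]
      exact this.symm
    rw [hsqc _ _ hcom]
    cases i <;> cases j
    · simp [pow_two]
    · simp [hy, pow_two]
    · simp [hx, pow_two]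
    · simp only [if_true, and_self]
      rw [h.mul_sq_n hxy, hx, hy, mul_one, mul_one, pow_two]
      constructor
      · intro h1
        have := congrArg (fun w => z * w) h1
        simp only [h.zz, mul_one] at this
        exact this
      · intro h1; rw [h1, h.z_sq]
  have hcz : Nat.card (cen x y) = inv2 (cen x y) + Nat.card {c : cen x y // (c : E) ^ 2 = z} := by
    unfold inv2
    rw [← Nat.card_sum]
    refine Nat.card_congr ?_
    refine (Equiv.sumCompl (fun c : cen x y => c ^ 2 = 1)).symm.trans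
      (Equiv.sumCongr (Equiv.refl _) (Equiv.subtypeEquivRight ?_))
    intro c
    constructor
    · intro h1
      rcases h.sq (c : E) with h2 | h2
      · exact absurd (Subtype.ext (by rw [Subgroup.coe_pow, pow_two, h2]; rfl)) h1
      · rw [pow_two, h2]
    · intro h1 h2
      have h3 : (c : E) ^ 2 = 1 := by
        have := congrArg Subtype.val h2
        simpa using this
      rw [h3] at h1
      exact h.z_ne h1.symm
  have h1 : inv2 E = Nat.card {t : Bool × Bool × cen x y //
      (if t.1 ∧ t.2.1 then (t.2.2 : E) ^ 2 = z else (t.2.2 : E) ^ 2 = 1)} := by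
    unfold inv2
    symm
    exact Nat.card_congr ((Equiv.ofBijective _ (h.par_bij hxy)).subtypeEquiv (fun t => (key t).symm))
  have h2 : Nat.card {c : cen x y // (c : E) ^ 2 = 1} = inv2 (cen x y) := by
    unfold inv2
    refine Nat.card_congr (Equiv.subtypeEquivRight ?_)
    intro c
    constructor
    · intro h3; exact Subtype.ext (by simpa using h3)
    · intro h3; simpa using congrArg Subtype.val h3
  rw [h1, hcz, ← h2]
  have e : {t : Bool × Bool × cen x y //
      (if t.1 ∧ t.2.1 then (t.2.2 : E) ^ 2 = z else (t.2.2 : E) ^ 2 = 1)} ≃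
      (({c : cen x y // (c : E) ^ 2 = 1} ⊕ {c : cen x y // (c : E) ^ 2 = 1}) ⊕
        ({c : cen x y // (c : E) ^ 2 = 1} ⊕ {c : cen x y // (c : E) ^ 2 = z})) :=
    { toFun := fun t => match t with
        | ⟨(false, false, c), hc⟩ => Sum.inl (Sum.inl ⟨c, by simpa using hc⟩)
        | ⟨(false, true, c), hc⟩ => Sum.inl (Sum.inr ⟨c, by simpa using hc⟩)
        | ⟨(true, false, c), hc⟩ => Sum.inr (Sum.inl ⟨c, by simpa using hc⟩)
        | ⟨(true, true, c), hc⟩ => Sum.inr (Sum.inr ⟨c, by simpa using hc⟩)
      invFun := fun s => match s with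
        | Sum.inl (Sum.inl c) => ⟨(false, false, c.1), by simpa using c.2⟩
        | Sum.inl (Sum.inr c) => ⟨(false, true, c.1), by simpa using c.2⟩
        | Sum.inr (Sum.inl c) => ⟨(true, false, c.1), by simpa using c.2⟩
        | Sum.inr (Sum.inr c) => ⟨(true, true, c.1), by simpa using c.2⟩
      left_inv := by rintro ⟨⟨i, j, c⟩, hc⟩; cases i <;> cases j <;> rfl
      right_inv := by rintro ((c | c) | (c | c)) <;> rfl }
  rw [Nat.card_congr e, Nat.card_sum, Nat.card_sum, Nat.card_sum]
  ring

/-- if there is no noncentral involution the group has order two or is the quaternion group -/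
theorem cen_eq_of_no (h : Xt E z) (hno : ∀ x : E, x * x = 1 → x = 1 ∨ x = z) {x y : E}
    (hxy : x * y = z * (y * x)) : ∀ c ∈ cen x y, c = 1 ∨ c = z := by
  intro c hc
  obtain ⟨hc1, hc2⟩ := mem_cen.1 hc
  have hx : x * x = z := by
    rcases h.sq x with h1 | h1
    · rcases hno x h1 with h2 | h2
      · rw [h2] at hxy; simp at hxy
        exact absurd hxy (h.z_ne)
      · exfalso
        rw [h2, h.z_comm y] at hxy
        exact h.ne_z_mul _ hxy.symm
    · exact h1
  rcases h.sq c with h1 | h1
  · exact hno c h1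
  · exfalso
    have h2 : (x * c) * (x * c) = 1 := by rw [h.mul_sq_c hc1, hx, h1, h.z_sq]
    have h3 : (x * c) * y = y * (x * c) := by
      rcases hno _ h2 with h3 | h3
      · rw [h3]; simp
      · rw [h3, h.z_comm]
    have h4 : y * (x * c) = z * (x * c * y) := h.comm_mul_nc (h.nsymm hxy) hc2
    rw [h3] at h4
    exact h.ne_z_mul _ h4.symm

theorem card_two_of (h : Xt E z) (hE : ∀ c : E, c = 1 ∨ c = z) : Nat.card E = 2 ∧ inv2 E = 2 := by
  classical
  have e : E ≃ Fin 2 :=
    { toFun := fun c => if c = 1 then 0 else 1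
      invFun := fun i => if i = 0 then 1 else z
      left_inv := by
        intro c
        rcases hE c with rfl | rfl
        · simp
        · simp [h.z_ne]
      right_inv := by
        intro i
        fin_cases i
        · simp
        · simp [h.z_ne] }
  have h1 : Nat.card E = 2 := by rw [Nat.card_congr e]; simp
  refine ⟨h1, ?_⟩
  have h2 : Nat.card {x : E // x ^ 2 = 1} = Nat.card E := by
    refine Nat.card_congr (Equiv.subtypeUnivEquiv ?_)
    intro c
    rcases hE c with rfl | rfl
    · simp
    · rw [pow_two]; exact h.z_sq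
  exact h2.trans h1

theorem card_of_no [Finite E] (h : Xt E z) (hno : ∀ x : E, x * x = 1 → x = 1 ∨ x = z) {x y : E}
    (hxy : x * y = z * (y * x)) : Nat.card E = 8 ∧ inv2 E = 2 := by
  have h1 := h.cen_eq_of_no hno hxy
  have h2 := (h.cent_xt hxy).card_two_of (by
    rintro ⟨c, hc⟩
    rcases h1 c hc with h3 | h3
    · left; exact Subtype.ext h3
    · right; exact Subtype.ext h3)
  refine ⟨by rw [h.card_eq hxy, h2.1], ?_⟩
  unfold inv2
  have e : {x : E // x ^ 2 = 1} ≃ {x : E // x = 1 ∨ x = z} := by
    refine Equiv.subtypeEquivRight ?_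
    intro w
    constructor
    · intro h3; rw [pow_two] at h3; exact hno w h3
    · rintro (rfl | rfl)
      · simp
      · rw [pow_two]; exact h.z_sq
  rw [Nat.card_congr e]
  classical
  have e2 : {x : E // x = 1 ∨ x = z} ≃ Fin 2 :=
    { toFun := fun c => if c.1 = 1 then 0 else 1
      invFun := fun i => if i = 0 then ⟨1, Or.inl rfl⟩ else ⟨z, Or.inr rfl⟩
      left_inv := by
        rintro ⟨c, rfl | rfl⟩
        · simp
        · simp [h.z_ne]
      right_inv := by
        intro i
        fin_cases i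
        · simp
        · simp [h.z_ne] }
  rw [Nat.card_congr e2]; simp

/-- orders and numbers of involutions -/
theorem card_inv2 : ∀ (n : ℕ) (E : Type*) [Group E] [Finite E] (z : E), Xt E z → Nat.card E ≤ n →
    ∃ m : ℕ, Nat.card E = 2 ^ (2 * m + 1) ∧
      (inv2 E = 2 ^ (2 * m) + 2 ^ m ∨ (1 ≤ m ∧ inv2 E = 2 ^ (2 * m) - 2 ^ m)) := by
  intro n
  induction n with
  | zero =>
    intro E _ _ z h hn
    have := Nat.card_pos (α := E)
    omega
  | succ n ih =>
    intro E _ _ z h hn
    by_cases hE : ∀ c : E, c = 1 ∨ c = z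
    · have h1 := h.card_two_of hE
      exact ⟨0, by rw [h1.1]; norm_num, Or.inl (by rw [h1.2]; norm_num)⟩
    · push Not at hE
      obtain ⟨x₀, hx₀1, hx₀z⟩ := hE
      obtain ⟨y₀, hxy₀⟩ := h.exists_pair hx₀1 hx₀z
      by_cases hno : ∀ x : E, x * x = 1 → x = 1 ∨ x = z
      · have h1 := h.card_of_no hno hxy₀
        exact ⟨1, by rw [h1.1]; norm_num, Or.inr ⟨le_rfl, by rw [h1.2]; norm_num⟩⟩
      · push Not at hno
        obtain ⟨x, hx, hx1, hxz⟩ := hno
        obtain ⟨y, hxy, hy⟩ := h.exists_dih hx1 hxz hx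
        have hc := h.card_eq hxy
        have hpos := Nat.card_pos (α := cen x y)
        obtain ⟨m, hm1, hm2⟩ := ih (cen x y) _ (h.cent_xt hxy) (by omega)
        have hcount := h.count_dih hxy hx hy
        have e1 : 2 ^ (2 * (m + 1) + 1) = 4 * 2 ^ (2 * m + 1) := by ring
        have e2 : 2 ^ (2 * (m + 1)) = 4 * 2 ^ (2 * m) := by ring
        have e3 : 2 ^ (m + 1) = 2 * 2 ^ m := by ring
        have e4 : 2 ^ (2 * m + 1) = 2 * 2 ^ (2 * m) := by ring
        have e5 : 2 ^ m ≤ 2 ^ (2 * m) := Nat.pow_le_pow_right (by norm_num) (by omega)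
        refine ⟨m + 1, by rw [hc, hm1, e1], ?_⟩
        rcases hm2 with hm2 | ⟨hm0, hm2⟩
        · left
          rw [hcount, hm2, hm1, e2, e3, e4]; ring
        · right
          refine ⟨by omega, ?_⟩
          rw [hcount, hm2, hm1, e2, e3, e4]
          omega

/-- gluing an isomorphism of centralizers -/
theorem glue [Finite E] {E' : Type*} [Group E'] [Finite E'] {z' : E'} (h : Xt E z) (h' : Xt E' z')
    {x y : E} {x' y' : E'} (hxy : x * y = z * (y * x)) (hxy' : x' * y' = z' * (y' * x'))
    (hx : (x * x = 1 ∧ x' * x' = 1) ∨ (x * x = z ∧ x' * x' = z'))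
    (hy : (y * y = 1 ∧ y' * y' = 1) ∨ (y * y = z ∧ y' * y' = z'))
    (φ : cen x y ≃* cen x' y') (hφ : (φ ⟨z, h.z_mem_cen x y⟩ : E') = z') :
    ∃ e : E ≃* E', e z = z' := by
  haveI : Finite (E × E') := inferInstance
  let f : cen x y →* E × E' :=
    (cen x y).subtype.prod ((cen x' y').subtype.comp φ.toMonoidHom)
  have hfv : ∀ c, f c = ((c : E), (φ c : E')) := fun c => rfl
  set K₀ := f.range with hK₀
  set X : E × E' := (x, x') with hX
  set Y : E × E' := (y, y') with hY
  have hZ : ((z, z') : E × E') ∈ K₀ := ⟨⟨z, h.z_mem_cen x y⟩, by rw [hfv, hφ]⟩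
  have hK₀c : Nat.card K₀ = Nat.card (cen x y) := by
    have hinj : Function.Injective f := by
      intro a b hab
      rw [hfv, hfv, Prod.mk.injEq] at hab
      exact Subtype.ext hab.1
    exact (Nat.card_congr (MonoidHom.ofInjective hinj).toEquiv).symm
  have hXc : ∀ k ∈ K₀, X * k * X⁻¹ = k := by
    rintro _ ⟨c, rfl⟩
    rw [hfv, hX]
    apply Prod.ext
    · change x * c * x⁻¹ = c
      rw [(mem_cen.1 c.2).1]; group
    · change x' * (φ c : E') * x'⁻¹ = φ c
      rw [(mem_cen.1 (φ c).2).1]; group
  have hYc : ∀ k ∈ K₀, Y * k * Y⁻¹ = k := by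
    rintro _ ⟨c, rfl⟩
    rw [hfv, hY]
    apply Prod.ext
    · change y * c * y⁻¹ = c
      rw [(mem_cen.1 c.2).2]; group
    · change y' * (φ c : E') * y'⁻¹ = φ c
      rw [(mem_cen.1 (φ c).2).2]; group
  have hX2 : X ^ 2 ∈ K₀ := by
    rw [pow_two]
    rcases hx with ⟨h1, h2⟩ | ⟨h1, h2⟩
    · have : X * X = 1 := Prod.ext h1 h2
      rw [this]; exact one_mem _
    · have : X * X = (z, z') := Prod.ext h1 h2
      rw [this]; exact hZ
  have hY2 : Y ^ 2 ∈ K₀ ⊔ Subgroup.zpowers X := by
    apply Subgroup.mem_sup_left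
    rw [pow_two]
    rcases hy with ⟨h1, h2⟩ | ⟨h1, h2⟩
    · have : Y * Y = 1 := Prod.ext h1 h2
      rw [this]; exact one_mem _
    · have : Y * Y = (z, z') := Prod.ext h1 h2
      rw [this]; exact hZ
  have hYX : Y * X * Y⁻¹ = (z, z') * X := by
    apply Prod.ext
    · change y * x * y⁻¹ = z * x
      rw [h.nsymm hxy]; group
    · change y' * x' * y'⁻¹ = z' * x'
      rw [h'.nsymm hxy']; group
  have n1 : X ∈ Subgroup.normalizer (K₀ : Set (E × E')) := by
    apply H10.mem_normalizer_of_conj_le
    intro k hk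
    rw [hXc k hk]; exact hk
  have hle : K₀ ⊔ Subgroup.zpowers X ≤
      (K₀ ⊔ Subgroup.zpowers X).comap (MulAut.conj Y).toMonoidHom := by
    refine sup_le ?_ ?_
    · intro k hk
      change Y * k * Y⁻¹ ∈ K₀ ⊔ Subgroup.zpowers X
      rw [hYc k hk]; exact Subgroup.mem_sup_left hk
    · refine Subgroup.zpowers_le.2 ?_
      change Y * X * Y⁻¹ ∈ K₀ ⊔ Subgroup.zpowers X
      rw [hYX]
      exact Subgroup.mul_mem _ (Subgroup.mem_sup_left hZ)
        (Subgroup.mem_sup_right (Subgroup.mem_zpowers X))
  have n2 : Y ∈ Subgroup.normalizer ((K₀ ⊔ Subgroup.zpowers X : Subgroup (E × E')) : Set (E × E')) := by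
    apply H10.mem_normalizer_of_conj_le
    intro k hk
    exact hle hk
  have c1 := card_sup_zpowers_le K₀ X 2 (by norm_num) n1 hX2
  have c2 := card_sup_zpowers_le (K₀ ⊔ Subgroup.zpowers X) Y 2 (by norm_num) n2 hY2
  set K := (K₀ ⊔ Subgroup.zpowers X) ⊔ Subgroup.zpowers Y with hK
  have cE := h.card_eq hxy
  have cE' := h'.card_eq hxy'
  have cc : Nat.card (cen x y) = Nat.card (cen x' y') := Nat.card_congr φ.toEquiv
  have hKE : Nat.card K ≤ Nat.card E := by rw [cE, ← hK₀c]; omega
  have hKE' : Nat.card K ≤ Nat.card E' := by rw [cE', ← cc, ← hK₀c]; omega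
  have hXK : X ∈ K := Subgroup.mem_sup_left (Subgroup.mem_sup_right (Subgroup.mem_zpowers X))
  have hYK : Y ∈ K := Subgroup.mem_sup_right (Subgroup.mem_zpowers Y)
  have hcK : ∀ c, f c ∈ K := fun c => Subgroup.mem_sup_left (Subgroup.mem_sup_left ⟨c, rfl⟩)
  have hgen : ∀ (i j : Bool) (c : cen x y),
      (par x y (i, j, c), par x' y' (i, j, φ c)) ∈ K := by
    intro i j c
    have : ((par x y (i, j, c), par x' y' (i, j, φ c)) : E × E') =
        (if i then X else 1) * (if j then Y else 1) * f c := by
      cases i <;> cases j <;> rfl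
    rw [this]
    refine K.mul_mem (K.mul_mem ?_ ?_) (hcK c)
    · cases i
      · exact one_mem _
      · exact hXK
    · cases j
      · exact one_mem _
      · exact hYK
  obtain ⟨e, he⟩ := exists_equiv_of_graph K (by
      intro g
      obtain ⟨⟨i, j, c⟩, rfl⟩ := (h.par_bij hxy).2 g
      exact ⟨_, hgen i j c⟩) (by
      intro g'
      obtain ⟨⟨i, j, c⟩, rfl⟩ := (h'.par_bij hxy').2 g'
      obtain ⟨d, rfl⟩ := φ.surjective c
      exact ⟨_, hgen i j d⟩) hKE hKE'
  exact ⟨e, he z z' (Subgroup.mem_sup_left (Subgroup.mem_sup_left hZ))⟩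

/-- group with no noncentral involution -/
theorem inv2_of_no [Finite E] (h : Xt E z) (hno : ∀ x : E, x * x = 1 → x = 1 ∨ x = z) :
    inv2 E = 2 := by
  by_cases hE : ∀ c : E, c = 1 ∨ c = z
  · exact (h.card_two_of hE).2
  · push Not at hE
    obtain ⟨x₀, hx₀1, hx₀z⟩ := hE
    obtain ⟨y₀, hxy₀⟩ := h.exists_pair hx₀1 hx₀z
    exact (h.card_of_no hno hxy₀).2

theorem inv2_ne_two [Finite E] (h : Xt E z) {x : E} (hx : x * x = 1) (hx1 : x ≠ 1) (hxz : x ≠ z) :
    inv2 E ≠ 2 := by
  intro h2
  unfold inv2 at h2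
  have : Nat.card (Fin 3) ≤ Nat.card {x : E // x ^ 2 = 1} := by
    refine Nat.card_le_card_of_injective (fun i : Fin 3 =>
      (⟨if i = 0 then 1 else if i = 1 then z else x, by
        split_ifs
        · exact one_pow 2
        · rw [pow_two]; exact h.z_sq
        · rw [pow_two]; exact hx⟩ : {x : E // x ^ 2 = 1})) ?_
    intro i j hij
    have hij := congrArg Subtype.val hij
    have hz := h.z_ne
    have hz' := h.z_ne.symm
    have hx1' := hx1.symm
    have hxz' := hxz.symm
    fin_cases i <;> fin_cases j <;> simp_all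
  rw [h2] at this
  simp at this

end Xt

universe u v

namespace Xt

theorem exists_equiv_two {E : Type u} [Group E] {z : E} {E' : Type v} [Group E'] {z' : E'}
    (h : Xt E z) (h' : Xt E' z') (hE : ∀ c : E, c = 1 ∨ c = z) (hE' : ∀ c : E', c = 1 ∨ c = z') :
    ∃ e : E ≃* E', e z = z' := by
  classical
  have hz := h.z_ne
  have hz' := h'.z_ne
  refine ⟨{ toFun := fun c => if c = 1 then 1 else z'
            invFun := fun c => if c = 1 then 1 else z
            left_inv := ?_
            right_inv := ?_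
            map_mul' := ?_ }, ?_⟩
  · intro c
    rcases hE c with rfl | rfl
    · simp
    · simp [hz, hz']
  · intro c
    rcases hE' c with rfl | rfl
    · simp
    · simp [hz, hz']
  · intro a b
    rcases hE a with rfl | rfl <;> rcases hE b with rfl | rfl
    · simp
    · simp [hz]
    · simp [hz]
    · simp [hz, h.z_sq, h'.z_sq]
  · change (if z = 1 then (1 : E') else z') = z'
    simp [hz]

/-- classification -/
theorem classify : ∀ (n : ℕ) (E : Type u) [Group E] [Finite E] (z : E) (E' : Type v) [Group E']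
    [Finite E'] (z' : E'), Xt E z → Xt E' z' → Nat.card E ≤ n → Nat.card E = Nat.card E' →
    inv2 E = inv2 E' → ∃ e : E ≃* E', e z = z' := by
  intro n
  induction n with
  | zero =>
    intro E _ _ z E' _ _ z' h h' hn
    have := Nat.card_pos (α := E)
    omega
  | succ n ih =>
    intro E _ _ z E' _ _ z' h h' hn hcard hinv
    by_cases hE : ∀ c : E, c = 1 ∨ c = z
    · -- order two
      have h1 := (h.card_two_of hE).1
      have hE' : ∀ c : E', c = 1 ∨ c = z' := by
        by_contra hcon
        push Not at hcon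
        obtain ⟨x₀, hx₀1, hx₀z⟩ := hcon
        obtain ⟨y₀, hxy₀⟩ := h'.exists_pair hx₀1 hx₀z
        have h2 := h'.card_eq hxy₀
        have := Nat.card_pos (α := cen x₀ y₀)
        omega
      exact exists_equiv_two h h' hE hE'
    · have hE' : ¬ ∀ c : E', c = 1 ∨ c = z' := by
        intro hE'
        have h1 := (h'.card_two_of hE').1
        push Not at hE
        obtain ⟨x₀, hx₀1, hx₀z⟩ := hE
        obtain ⟨y₀, hxy₀⟩ := h.exists_pair hx₀1 hx₀z
        have h2 := h.card_eq hxy₀
        have := Nat.card_pos (α := cen x₀ y₀)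
        omega
      push Not at hE hE'
      obtain ⟨x₀, hx₀1, hx₀z⟩ := hE
      obtain ⟨y₀, hxy₀⟩ := h.exists_pair hx₀1 hx₀z
      obtain ⟨x₁, hx₁1, hx₁z⟩ := hE'
      obtain ⟨y₁, hxy₁⟩ := h'.exists_pair hx₁1 hx₁z
      by_cases hno : ∀ x : E, x * x = 1 → x = 1 ∨ x = z
      · have hno' : ∀ x : E', x * x = 1 → x = 1 ∨ x = z' := by
          intro x hx
          by_contra hcon
          push Not at hcon
          exact h'.inv2_ne_two hx hcon.1 hcon.2 (hinv.symm.trans (h.inv2_of_no hno))
        have c1 := h.cen_eq_of_no hno hxy₀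
        have c2 := h'.cen_eq_of_no hno' hxy₁
        obtain ⟨φ, hφ⟩ := exists_equiv_two (h.cent_xt hxy₀) (h'.cent_xt hxy₁)
          (by
            rintro ⟨c, hc⟩
            rcases c1 c hc with h3 | h3
            · left; exact Subtype.ext h3
            · right; exact Subtype.ext h3)
          (by
            rintro ⟨c, hc⟩
            rcases c2 c hc with h3 | h3
            · left; exact Subtype.ext h3
            · right; exact Subtype.ext h3)
        -- the squares are z
        have sqz : x₀ * x₀ = z := by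
          rcases h.sq x₀ with h1 | h1
          · rcases hno x₀ h1 with h2 | h2
            · exact absurd h2 hx₀1
            · exact absurd h2 hx₀z
          · exact h1
        have sqz' : x₁ * x₁ = z' := by
          rcases h'.sq x₁ with h1 | h1
          · rcases hno' x₁ h1 with h2 | h2
            · exact absurd h2 hx₁1
            · exact absurd h2 hx₁z
          · exact h1
        have hy1 : y₀ * y₀ = z := by
          rcases h.sq y₀ with h1 | h1
          · exfalso
            rcases hno y₀ h1 with h2 | h2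
            · rw [h2] at hxy₀
              simp at hxy₀
              exact h.z_ne hxy₀
            · rw [h2, h.z_comm x₀] at hxy₀
              exact h.ne_z_mul _ hxy₀.symm
          · exact h1
        have hy2 : y₁ * y₁ = z' := by
          rcases h'.sq y₁ with h1 | h1
          · exfalso
            rcases hno' y₁ h1 with h2 | h2
            · rw [h2] at hxy₁
              simp at hxy₁
              exact h'.z_ne hxy₁
            · rw [h2, h'.z_comm x₁] at hxy₁
              exact h'.ne_z_mul _ hxy₁.symm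
          · exact h1
        exact glue h h' hxy₀ hxy₁ (Or.inr ⟨sqz, sqz'⟩) (Or.inr ⟨hy1, hy2⟩) φ
          (congrArg Subtype.val hφ)
      · have hno' : ¬ ∀ x : E', x * x = 1 → x = 1 ∨ x = z' := by
          intro hno'
          push Not at hno
          obtain ⟨x, hx, hx1, hxz⟩ := hno
          exact h.inv2_ne_two hx hx1 hxz (hinv.trans (h'.inv2_of_no hno'))
        push Not at hno hno'
        obtain ⟨x, hx, hx1, hxz⟩ := hno
        obtain ⟨y, hxy, hy⟩ := h.exists_dih hx1 hxz hx
        obtain ⟨x', hx', hx1', hxz'⟩ := hno'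
        obtain ⟨y', hxy', hy'⟩ := h'.exists_dih hx1' hxz' hx'
        have e1 := h.card_eq hxy
        have e2 := h'.card_eq hxy'
        have e3 := h.count_dih hxy hx hy
        have e4 := h'.count_dih hxy' hx' hy'
        have hpos := Nat.card_pos (α := cen x y)
        obtain ⟨φ, hφ⟩ := ih (cen x y) _ (cen x' y') _ (h.cent_xt hxy) (h'.cent_xt hxy')
          (by omega) (by omega) (by omega)
        exact glue h h' hxy hxy' (Or.inl ⟨hx, hx'⟩) (Or.inl ⟨hy, hy'⟩) φ (congrArg Subtype.val hφ)

end Xt

end Cfsg.Agent.H18
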