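import Cfsg.Agent.H18.Xt2

/-!
# Extraspecial groups of order 32 of minus type: five anticommuting involutions (helper18)
-/

set_option autoImplicit false
set_option linter.style.haveILetI false
open Cfsg

namespace Cfsg.Agent.H18

/-- five pairwise anticommuting involutions, the representatives of all of them -/
structure Fam {P : Type*} [Group P] (z : P) (x : Fin 5 → P) : Prop where
  sq : ∀ i, x i * x i = 1
  anti : ∀ i j, i ≠ j → x i * x j = z * (x j * x i)
  all : ∀ g : P, g * g = 1 → g = 1 ∨ g = z ∨ ∃ i, g = x i ∨ g = z * x i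

/-- there are no elementary abelian subgroups of order eight -/
def NoE8 {P : Type*} [Group P] (z : P) : Prop :=
  ∀ u v : P, u * u = 1 → v * v = 1 → u * v = v * u → u = 1 ∨ u = z ∨ v = 1 ∨ v = z ∨ v = u ∨ v = z * u

theorem noE8_of {P : Type*} [Group P] [Finite P] {z : P} (h : Xt P z)
    (hminus : ∀ A : Subgroup P, Cfsg.IsElementaryAbelian 2 A → Nat.card ↥A ≤ 4) : NoE8 z := by
  intro u v hu hv huv
  by_contra hcon
  push Not at hcon
  obtain ⟨h1, h2, h3, h4, h5, h6⟩ := hcon
  set S : Set P := {z, u, v} with hS
  have hcomm : ∀ a ∈ S, ∀ b ∈ S, a * b = b * a := by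
    intro a ha b hb
    have hza : ∀ g, z * g = g * z := fun g => (h.z_comm g).symm
    rcases ha with rfl | rfl | rfl <;> rcases hb with rfl | rfl | rfl <;>
      first
      | rfl
      | exact hza _
      | exact h.z_comm _
      | exact huv
      | exact huv.symm
  have hc : ∀ a ∈ Subgroup.closure S, ∀ b ∈ Subgroup.closure S, a * b = b * a := by
    letI := Subgroup.closureCommGroupOfComm hcomm
    intro a ha b hb
    exact congrArg Subtype.val (mul_comm (⟨a, ha⟩ : Subgroup.closure S) ⟨b, hb⟩)
  have hsq : ∀ a ∈ Subgroup.closure S, a ^ 2 = 1 := by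
    intro a ha
    induction ha using Subgroup.closure_induction with
    | mem g hg =>
      rcases hg with rfl | rfl | rfl
      · rw [pow_two]; exact h.z_sq
      · rw [pow_two]; exact hu
      · rw [pow_two]; exact hv
    | one => exact one_pow 2
    | mul g k hg hk h1 h2 =>
      have : Commute g k := hc g hg k hk
      rw [this.mul_pow, h1, h2, one_mul]
    | inv g hg h1 => rw [inv_pow, h1, inv_one]
  have hle := hminus (Subgroup.closure S) ⟨⟨⟨fun a b => Subtype.ext (hc a a.2 b b.2)⟩⟩, hsq⟩
  have hz := h.z_ne
  have hinj : Nat.card (Fin 5) ≤ Nat.card (Subgroup.closure S) := by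
    have hm : ∀ i : Fin 5, (![1, z, u, v, z * u] i) ∈ Subgroup.closure S := by
      have mz : z ∈ Subgroup.closure S := Subgroup.subset_closure (by simp [hS])
      have mu : u ∈ Subgroup.closure S := Subgroup.subset_closure (by simp [hS])
      have mv : v ∈ Subgroup.closure S := Subgroup.subset_closure (by simp [hS])
      intro i
      fin_cases i
      · exact one_mem _
      · exact mz
      · exact mu
      · exact mv
      · exact mul_mem mz mu
    refine Nat.card_le_card_of_injective (fun i : Fin 5 =>
      (⟨![1, z, u, v, z * u] i, hm i⟩ : Subgroup.closure S)) ?_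
    intro i j hij
    have hij := congrArg Subtype.val hij
    have e1 : z * u ≠ 1 := by
      intro h7
      have : u = z := by
        have := congrArg (fun w => z * w) h7
        simpa [h.zz] using this
      exact h2 this
    have e2 : z * u ≠ z := by
      intro h7
      exact h1 (mul_eq_left.1 h7)
    have e3 : z * u ≠ u := h.ne_z_mul u
    fin_cases i <;> fin_cases j <;>
      first
      | rfl
      | (exfalso
         simp at hij
         first
         | exact hz hij
         | exact hz hij.symm
         | exact h1 hij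
         | exact h1 hij.symm
         | exact h2 hij
         | exact h2 hij.symm
         | exact h3 hij
         | exact h3 hij.symm
         | exact h4 hij
         | exact h4 hij.symm
         | exact h5 hij
         | exact h5 hij.symm
         | exact h6 hij
         | exact h6 hij.symm
         | exact e1 hij
         | exact e1 hij.symm
         | exact e2 hij
         | exact e2 hij.symm
         | exact e3 hij
         | exact e3 hij.symm
         )
  simp at hinj
  omega

namespace Xt

variable {P : Type*} [Group P] {z : P}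

/-- a description of the group of order 32 of minus type -/
theorem exists_quad [Finite P] (h : Xt P z) (h32 : Nat.card P = 32) (hno : NoE8 z) :
    ∃ x y a b : P, x * x = 1 ∧ y * y = 1 ∧ a * a = z ∧ b * b = z ∧ x * y = z * (y * x) ∧
      a * b = z * (b * a) ∧ x * a = a * x ∧ x * b = b * x ∧ y * a = a * y ∧ y * b = b * y ∧
      ∀ g : P, ∃ (i j k l : Bool) (d : P), (d = 1 ∨ d = z) ∧
        g = (if i then x else 1) * (if j then y else 1) *
          ((if k then a else 1) * (if l then b else 1) * d) := by
  have h2 : inv2 P ≠ 2 := by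
    obtain ⟨m, hm1, hm2⟩ := card_inv2 _ P z h le_rfl
    rw [h32] at hm1
    have hm : m = 2 := by
      have : 2 ^ 5 = 2 ^ (2 * m + 1) := by rw [← hm1]; norm_num
      have := Nat.pow_right_injective (le_refl 2) this
      omega
    subst hm
    rcases hm2 with h3 | ⟨_, h3⟩ <;> rw [h3] <;> norm_num
  have h3 : ¬ ∀ x : P, x * x = 1 → x = 1 ∨ x = z := fun h3 => h2 (h.inv2_of_no h3)
  push Not at h3
  obtain ⟨x, hx, hx1, hxz⟩ := h3
  obtain ⟨y, hxy, hy⟩ := h.exists_dih hx1 hxz hx
  have hC := h.cent_xt hxy
  have hcard := h.card_eq hxy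
  have hnoC : ∀ c ∈ cen x y, c * c = 1 → c = 1 ∨ c = z := by
    intro c hc hcc
    obtain ⟨hc1, hc2⟩ := mem_cen.1 hc
    rcases hno x c hx hcc hc1 with h4 | h4 | h4 | h4 | h4 | h4
    · exact absurd h4 hx1
    · exact absurd h4 hxz
    · exact Or.inl h4
    · exact Or.inr h4
    · exfalso
      rw [h4] at hc2
      have := h.nsymm hxy
      rw [hc2] at this
      exact h.ne_z_mul _ this.symm
    · exfalso
      have h5 := h.nsymm hxy
      have h6 : y * (z * x) = z * ((z * x) * y) := h.comm_mul_cn (h.z_comm y) h5
      rw [← h4, hc2] at h6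
      exact h.ne_z_mul _ h6.symm
  have hno' : ∀ c : cen x y, c * c = 1 → c = 1 ∨ c = ⟨z, h.z_mem_cen x y⟩ := by
    rintro ⟨c, hc⟩ hcc
    rcases hnoC c hc (congrArg Subtype.val hcc) with h4 | h4
    · left; exact Subtype.ext h4
    · right; exact Subtype.ext h4
  have hbig : ¬ ∀ c : cen x y, c = 1 ∨ c = ⟨z, h.z_mem_cen x y⟩ := by
    intro h4
    have := (hC.card_two_of h4).1
    omega
  push Not at hbig
  obtain ⟨a, ha1, haz⟩ := hbig
  obtain ⟨b, hab⟩ := hC.exists_pair ha1 haz
  have hd := hC.cen_eq_of_no hno' hab
  have hsqa : a * a = ⟨z, h.z_mem_cen x y⟩ := by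
    rcases hC.sq a with h4 | h4
    · rcases hno' a h4 with h5 | h5
      · exact absurd h5 ha1
      · exact absurd h5 haz
    · exact h4
  have hsqb : b * b = ⟨z, h.z_mem_cen x y⟩ := by
    rcases hC.sq b with h4 | h4
    · exfalso
      rcases hno' b h4 with h5 | h5
      · rw [h5] at hab
        simp at hab
        exact hC.z_ne (Subtype.ext hab)
      · rw [h5, hC.z_comm a] at hab
        exact hC.ne_z_mul _ hab.symm
    · exact h4
  refine ⟨x, y, a, b, hx, hy, congrArg Subtype.val hsqa, congrArg Subtype.val hsqb, hxy,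
    congrArg Subtype.val hab, (mem_cen.1 a.2).1, (mem_cen.1 b.2).1, (mem_cen.1 a.2).2,
    (mem_cen.1 b.2).2, ?_⟩
  intro g
  obtain ⟨⟨i, j, c⟩, rfl⟩ := (h.par_bij hxy).2 g
  obtain ⟨⟨k, l, d⟩, hc⟩ := (hC.par_bij hab).2 c
  refine ⟨i, j, k, l, ((d : cen x y) : P), ?_, ?_⟩
  · rcases hd d d.2 with h4 | h4
    · left; rw [h4]; rfl
    · right; rw [h4]
  · rw [← hc]
    unfold par
    simp only
    cases k <;> cases l <;> simp

end Xt

end Cfsg.Agent.H18
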