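import Cfsg.Agent.H18.Xt3

/-!
# Extraspecial groups of order 32 of minus type: automorphisms (helper18)
-/

set_option autoImplicit false
set_option linter.style.haveILetI false
open Cfsg

namespace Cfsg.Agent.H18

namespace Xt

variable {P : Type*} [Group P] {z : P}

theorem exists_fam [Finite P] (h : Xt P z) (h32 : Nat.card P = 32) (hno : NoE8 z) :
    ∃ x : Fin 5 → P, Fam z x := by
  obtain ⟨x, y, a, b, hx, hy, ha, hb, hxy, hab, hxa, hxb, hya, hyb, hall⟩ := h.exists_quad h32 hno
  have hw1 : x * (x * y) = z * (x * y * x) := h.comm_mul_cn rfl hxy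
  have hw2 : y * (x * y) = z * (x * y * y) := h.comm_mul_nc (h.nsymm hxy) rfl
  have hxc : x * (a * b) = a * b * x := h.comm_mul_cc hxa hxb
  have hyc : y * (a * b) = a * b * y := h.comm_mul_cc hya hyb
  have haw : a * (x * y) = x * y * a := h.comm_mul_cc hxa.symm hya.symm
  have hbw : b * (x * y) = x * y * b := h.comm_mul_cc hxb.symm hyb.symm
  have hcw : (a * b) * (x * y) = x * y * (a * b) := h.comm_mul_cc hxc.symm hyc.symm
  have hac : a * (a * b) = z * (a * b * a) := h.comm_mul_cn rfl hab
  have hbc : b * (a * b) = z * (a * b * b) := h.comm_mul_nc (h.nsymm hab) rfl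
  have hww : (x * y) * (x * y) = z := by rw [h.mul_sq_n hxy, hx, hy, mul_one, mul_one]
  have hcc : (a * b) * (a * b) = z := by
    rw [h.mul_sq_n hab, ha, hb, h.z_sq, one_mul]
  have s2 : (x * y * a) * (x * y * a) = 1 := by rw [h.mul_sq_c haw.symm, hww, ha, h.z_sq]
  have s3 : (x * y * b) * (x * y * b) = 1 := by rw [h.mul_sq_c hbw.symm, hww, hb, h.z_sq]
  have s4 : (x * y * (a * b)) * (x * y * (a * b)) = 1 := by
    rw [h.mul_sq_c hcw.symm, hww, hcc, h.z_sq]
  have a02 : x * (x * y * a) = z * (x * y * a * x) := h.comm_mul_nc hw1 hxa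
  have a03 : x * (x * y * b) = z * (x * y * b * x) := h.comm_mul_nc hw1 hxb
  have a04 : x * (x * y * (a * b)) = z * (x * y * (a * b) * x) := h.comm_mul_nc hw1 hxc
  have a12 : y * (x * y * a) = z * (x * y * a * y) := h.comm_mul_nc hw2 hya
  have a13 : y * (x * y * b) = z * (x * y * b * y) := h.comm_mul_nc hw2 hyb
  have a14 : y * (x * y * (a * b)) = z * (x * y * (a * b) * y) := h.comm_mul_nc hw2 hyc
  have c2 : (x * y * a) * (x * y) = (x * y) * (x * y * a) :=
    (h.comm_mul_cc (rfl : (x * y) * (x * y) = _) haw.symm).symm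
  have c3 : (x * y * b) * (x * y) = (x * y) * (x * y * b) :=
    (h.comm_mul_cc (rfl : (x * y) * (x * y) = _) hbw.symm).symm
  have d2b : (x * y * a) * b = z * (b * (x * y * a)) :=
    h.nsymm (h.comm_mul_cn hbw (h.nsymm hab))
  have d2c : (x * y * a) * (a * b) = z * ((a * b) * (x * y * a)) :=
    h.nsymm (h.comm_mul_cn hcw (h.nsymm hac))
  have d3c : (x * y * b) * (a * b) = z * ((a * b) * (x * y * b)) :=
    h.nsymm (h.comm_mul_cn hcw (h.nsymm hbc))
  have a23 : (x * y * a) * (x * y * b) = z * ((x * y * b) * (x * y * a)) := h.comm_mul_cn c2 d2b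
  have a24 : (x * y * a) * (x * y * (a * b)) = z * ((x * y * (a * b)) * (x * y * a)) :=
    h.comm_mul_cn c2 d2c
  have a34 : (x * y * b) * (x * y * (a * b)) = z * ((x * y * (a * b)) * (x * y * b)) :=
    h.comm_mul_cn c3 d3c
  refine ⟨![x, y, x * y * a, x * y * b, x * y * (a * b)], ⟨?_, ?_, ?_⟩⟩
  · intro i
    fin_cases i
    · exact hx
    · exact hy
    · exact s2
    · exact s3
    · exact s4
  · intro i j hij
    fin_cases i <;> fin_cases j
    · exact absurd rfl hij
    · exact hxy
    · exact a02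
    · exact a03
    · exact a04
    · exact h.nsymm hxy
    · exact absurd rfl hij
    · exact a12
    · exact a13
    · exact a14
    · exact h.nsymm a02
    · exact h.nsymm a12
    · exact absurd rfl hij
    · exact a23
    · exact a24
    · exact h.nsymm a03
    · exact h.nsymm a13
    · exact h.nsymm a23
    · exact absurd rfl hij
    · exact a34
    · exact h.nsymm a04
    · exact h.nsymm a14
    · exact h.nsymm a24
    · exact h.nsymm a34
    · exact absurd rfl hij
  · intro g hg
    obtain ⟨i, j, k, l, d, hd, hgd⟩ := hall g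
    have hdz : d * d = 1 := by
      rcases hd with rfl | rfl
      · exact one_mul 1
      · exact h.z_sq
    have hdc : ∀ t : P, t * d = d * t := by
      intro t
      rcases hd with rfl | rfl
      · simp
      · exact h.z_comm t
    have e : ∀ t : P, (t * d) * (t * d) = t * t := by
      intro t
      rw [h.mul_sq_c (hdc t), hdz, mul_one]
    have fin : ∀ t : P, t * d = t ∨ t * d = z * t := by
      intro t
      rcases hd with rfl | rfl
      · left; simp
      · right; exact h.z_comm t
    have hzne : z ≠ 1 := h.z_ne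
    have hg2 : g = ((if i then x else 1) * (if j then y else 1) *
          ((if k then a else 1) * (if l then b else 1))) * d := by
      rw [hgd]; simp only [mul_assoc]
    rw [hg2, e] at hg
    rw [hg2]
    cases i <;> cases j <;> cases k <;> cases l <;>
      simp only [if_true, if_false, one_mul, mul_one, Bool.false_eq_true] at hg ⊢
    · -- d
      rcases hd with rfl | rfl
      · left; rfl
      · right; left; rfl
    · exact absurd (hb.symm.trans hg) hzne
    · exact absurd (ha.symm.trans hg) hzne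
    · exact absurd (hcc.symm.trans hg) hzne
    · right; right; exact ⟨1, fin y⟩
    · rw [h.mul_sq_c hyb, hy, hb, one_mul] at hg; exact absurd hg hzne
    · rw [h.mul_sq_c hya, hy, ha, one_mul] at hg; exact absurd hg hzne
    · rw [h.mul_sq_c hyc, hy, hcc, one_mul] at hg; exact absurd hg hzne
    · right; right; exact ⟨0, fin x⟩
    · rw [h.mul_sq_c hxb, hx, hb, one_mul] at hg; exact absurd hg hzne
    · rw [h.mul_sq_c hxa, hx, ha, one_mul] at hg; exact absurd hg hzne
    · rw [h.mul_sq_c hxc, hx, hcc, one_mul] at hg; exact absurd hg hzne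
    · exact absurd (hww.symm.trans hg) hzne
    · right; right; exact ⟨3, fin _⟩
    · right; right; exact ⟨2, fin _⟩
    · right; right; exact ⟨4, fin _⟩

/-- order two -/
theorem eq_or_of_card_two [Finite P] (h : Xt P z) (h2 : Nat.card P = 2) (c : P) : c = 1 ∨ c = z := by
  by_contra hcon
  push Not at hcon
  obtain ⟨y₀, hxy₀⟩ := h.exists_pair hcon.1 hcon.2
  have h2 := h.card_eq hxy₀
  have := Nat.card_pos (α := cen c y₀)
  omega

/-- automorphisms fix `z` -/
theorem aut_z (h : Xt P z) (α : MulAut P) : α z = z := by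
  rcases h.cent (α z) (fun y => by
    obtain ⟨w, rfl⟩ := α.surjective y
    rw [← map_mul, ← map_mul, h.z_comm w]) with h1 | h1
  · exfalso
    apply h.z_ne
    apply α.injective
    rw [h1, map_one]
  · exact h1

end Xt

namespace Fam

variable {P : Type*} [Group P] {z : P} {x : Fin 5 → P}

theorem ne_one (h : Xt P z) (hx : Fam z x) (i : Fin 5) : x i ≠ 1 := by
  intro h1
  obtain ⟨j, hj⟩ : ∃ j, i ≠ j := ⟨i + 1, by fin_cases i <;> decide⟩
  have := hx.anti i j hj
  rw [h1, one_mul, mul_one] at this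
  exact h.ne_z_mul _ this.symm

theorem ne_z (h : Xt P z) (hx : Fam z x) (i : Fin 5) : x i ≠ z := by
  intro h1
  obtain ⟨j, hj⟩ : ∃ j, i ≠ j := ⟨i + 1, by fin_cases i <;> decide⟩
  have := hx.anti i j hj
  rw [h1, h.z_comm] at this
  exact h.ne_z_mul _ this.symm

theorem inj (h : Xt P z) (hx : Fam z x) {i j : Fin 5} (hij : x i = x j ∨ x i = z * x j) : i = j := by
  by_contra hne
  have h1 := hx.anti i j hne
  have h2 : x i * x j = x j * x i := by
    rcases hij with h3 | h3
    · rw [h3]
    · rw [h3, ← mul_assoc, h.z_comm (x j)]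
  rw [h2] at h1
  exact h.ne_z_mul _ h1.symm

theorem uniq (h : Xt P z) (hx : Fam z x) {g : P} {i j : Fin 5} (h1 : g = x i ∨ g = z * x i)
    (h2 : g = x j ∨ g = z * x j) : i = j := by
  apply inj h hx
  rcases h1 with h1 | h1 <;> rcases h2 with h2 | h2
  · left; rw [← h1, h2]
  · right; rw [← h1, h2]
  · right; rw [← h2, h1, h.zz]
  · left
    have := h1.symm.trans h2
    exact mul_left_cancel this

theorem all' (h : Xt P z) (hx : Fam z x) {g : P} (h1 : g * g = 1) (hg : g ≠ 1) (hgz : g ≠ z) :
    ∃ i, g = x i ∨ g = z * x i := by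
  rcases hx.all g h1 with h2 | h2 | h2
  · exact absurd h2 hg
  · exact absurd h2 hgz
  · exact h2

theorem exists_hom (h : Xt P z) (hx : Fam z x) : ∃ φ : MulAut P →* Equiv.Perm (Fin 5),
    ∀ α i, α (x i) = x (φ α i) ∨ α (x i) = z * x (φ α i) := by
  have h1 : ∀ (α : MulAut P) (i : Fin 5), ∃ j, α (x i) = x j ∨ α (x i) = z * x j := by
    intro α i
    apply hx.all' h
    · rw [← map_mul, hx.sq, map_one]
    · intro h2
      exact hx.ne_one h i (α.injective (by rw [h2, map_one]))
    · intro h2
      exact hx.ne_z h i (α.injective (by rw [h2, h.aut_z]))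
  choose f hf using h1
  have hmul : ∀ (α β : MulAut P) (i : Fin 5), f (α * β) i = f α (f β i) := by
    intro α β i
    apply hx.uniq h (hf (α * β) i)
    rw [MulAut.mul_apply]
    rcases hf β i with h2 | h2 <;> rcases hf α (f β i) with h3 | h3
    · left; rw [h2, h3]
    · right; rw [h2, h3]
    · right; rw [h2, map_mul, h.aut_z, h3]
    · left; rw [h2, map_mul, h.aut_z, h3, h.zz]
  have hone : ∀ i, f 1 i = i := by
    intro i
    exact hx.uniq h (hf 1 i) (Or.inl rfl)
  refine ⟨{ toFun := fun α => ⟨f α, f α⁻¹, fun i => by rw [← hmul, inv_mul_cancel, hone],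
              fun i => by rw [← hmul, mul_inv_cancel, hone]⟩
            map_one' := Equiv.ext hone
            map_mul' := fun α β => Equiv.ext (hmul α β) }, hf⟩

theorem gen [Finite P] (h : Xt P z) (h32 : Nat.card P = 32) (hx : Fam z x) (K : Subgroup P)
    (hz : z ∈ K) {i j k l : Fin 5} (hij : i ≠ j) (hik : i ≠ k) (hil : i ≠ l) (hjk : j ≠ k)
    (hjl : j ≠ l) (hkl : k ≠ l) (mi : x i ∈ K) (mj : x j ∈ K) (mk : x k ∈ K) (ml : x l ∈ K) :
    K = ⊤ := by
  have hxy := hx.anti i j hij
  have hC := h.cent_xt hxy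
  have hcard := h.card_eq hxy
  -- the quaternion part
  have ha : x i * x j * x k ∈ Xt.cen (x i) (x j) := by
    refine Xt.mem_cen.2 ⟨?_, ?_⟩
    · exact h.comm_mul_nn (h.comm_mul_cn rfl hxy) (hx.anti i k hik)
    · exact h.comm_mul_nn (h.comm_mul_nc (h.nsymm hxy) rfl) (hx.anti j k hjk)
  have hb : x i * x j * x l ∈ Xt.cen (x i) (x j) := by
    refine Xt.mem_cen.2 ⟨?_, ?_⟩
    · exact h.comm_mul_nn (h.comm_mul_cn rfl hxy) (hx.anti i l hil)
    · exact h.comm_mul_nn (h.comm_mul_nc (h.nsymm hxy) rfl) (hx.anti j l hjl)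
  have hab : (x i * x j * x k) * (x i * x j * x l) = z * ((x i * x j * x l) * (x i * x j * x k)) := by
    have c1 : (x i * x j * x k) * (x i * x j) = (x i * x j) * (x i * x j * x k) := by
      symm
      apply h.comm_mul_cc rfl
      symm
      exact h.comm_mul_nn (h.nsymm (hx.anti i k hik)) (h.nsymm (hx.anti j k hjk))
    have c2 : (x i * x j * x k) * x l = z * (x l * (x i * x j * x k)) := by
      apply h.nsymm
      exact h.comm_mul_cn
        (h.comm_mul_nn (h.nsymm (hx.anti i l hil)) (h.nsymm (hx.anti j l hjl)))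
        (h.nsymm (hx.anti k l hkl))
    exact h.comm_mul_cn c1 c2
  have hab' : (⟨_, ha⟩ : Xt.cen (x i) (x j)) * ⟨_, hb⟩ =
      ⟨z, h.z_mem_cen (x i) (x j)⟩ * ((⟨_, hb⟩ : Xt.cen (x i) (x j)) * ⟨_, ha⟩) := Subtype.ext hab
  have hD := hC.cent_xt hab'
  have hcard2 := hC.card_eq hab'
  rw [eq_top_iff]
  intro g _
  obtain ⟨⟨s, t, c⟩, rfl⟩ := (h.par_bij hxy).2 g
  obtain ⟨⟨s', t', d⟩, hc⟩ := (hC.par_bij hab').2 c
  have hd := hD.eq_or_of_card_two (by omega) d
  have md : ((d : Xt.cen (x i) (x j)) : P) ∈ K := by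
    rcases hd with h1 | h1
    · rw [h1]; exact one_mem _
    · rw [h1]; exact hz
  have mc : (c : P) ∈ K := by
    rw [← hc]
    unfold Xt.par
    simp only [Subgroup.coe_mul]
    refine K.mul_mem (K.mul_mem ?_ ?_) md
    · cases s'
      · exact one_mem _
      · exact K.mul_mem (K.mul_mem mi mj) mk
    · cases t'
      · exact one_mem _
      · exact K.mul_mem (K.mul_mem mi mj) ml
  unfold Xt.par
  refine K.mul_mem (K.mul_mem ?_ ?_) mc
  · cases s
    · exact one_mem _
    · exact mi
  · cases t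
    · exact one_mem _
    · exact mj

end Fam

theorem chain_card {ι G : Type*} [DecidableEq ι] [Group G] [Finite G] (Z : G) (X : ι → G)
    (hZ : Z * Z = 1) (hc : ∀ i, X i * Z = Z * X i) (hsq : ∀ i, X i * X i = 1)
    (ha : ∀ i j, i ≠ j → X i * X j = Z * (X j * X i)) (S : Finset ι) :
    Nat.card (Subgroup.closure ({Z} ∪ X '' (S : Set ι))) ≤ 2 ^ (S.card + 1) := by
  induction S using Finset.induction_on with
  | empty =>
    simp only [Finset.coe_empty, Set.image_empty, Set.union_empty, Finset.card_empty, zero_add,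
      pow_one]
    rw [← Subgroup.zpowers_eq_closure, Nat.card_zpowers]
    exact Nat.le_of_dvd (by norm_num) (orderOf_dvd_of_pow_eq_one (by rw [pow_two, hZ]))
  | insert a S haS ih =>
    set K := Subgroup.closure ({Z} ∪ X '' (S : Set ι)) with hK
    have hZK : Z ∈ K := Subgroup.subset_closure (Or.inl rfl)
    have hn : X a ∈ Subgroup.normalizer (K : Set G) := by
      apply H10.mem_normalizer_of_conj_le
      intro k hk
      have hle : K ≤ K.comap (MulAut.conj (X a)).toMonoidHom := by
        rw [hK, Subgroup.closure_le]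
        rintro g (hg | ⟨i, hi, rfl⟩)
        · rw [Set.mem_singleton_iff] at hg
          subst hg
          change X a * g * (X a)⁻¹ ∈ K
          rw [hc]; simpa using hZK
        · change X a * X i * (X a)⁻¹ ∈ K
          rw [ha a i (by rintro rfl; exact haS hi)]
          have : Z * (X i * X a) * (X a)⁻¹ = Z * X i := by group
          rw [this]
          exact K.mul_mem hZK (Subgroup.subset_closure (Or.inr ⟨i, hi, rfl⟩))
      exact hle hk
    have h1 := card_sup_zpowers_le K (X a) 2 (by norm_num) hn (by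
      rw [pow_two, hsq]; exact one_mem _)
    have h2 : Subgroup.closure ({Z} ∪ X '' ((insert a S : Finset ι) : Set ι)) =
        K ⊔ Subgroup.zpowers (X a) := by
      rw [hK, Subgroup.zpowers_eq_closure, ← Subgroup.closure_union]
      congr 1
      ext g
      simp only [Finset.coe_insert, Set.mem_union, Set.mem_singleton_iff, Set.mem_image,
        Set.mem_insert_iff]
      constructor
      · rintro (h3 | ⟨i, rfl | hi, rfl⟩)
        · exact Or.inl (Or.inl h3)
        · exact Or.inr rfl
        · exact Or.inl (Or.inr ⟨i, hi, rfl⟩)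
      · rintro ((h3 | ⟨i, hi, rfl⟩) | h3)
        · exact Or.inl h3
        · exact Or.inr ⟨i, Or.inr hi, rfl⟩
        · exact Or.inr ⟨a, Or.inl rfl, h3.symm⟩
    rw [h2, Finset.card_insert_of_notMem haS]
    calc _ ≤ 2 * Nat.card K := h1
      _ ≤ 2 * 2 ^ (S.card + 1) := Nat.mul_le_mul_left _ ih
      _ = 2 ^ (S.card + 1 + 1) := by ring

namespace Fam

variable {P : Type*} [Group P] {z : P} {x : Fin 5 → P}

theorem exists_aut [Finite P] (h : Xt P z) (h32 : Nat.card P = 32) (hx : Fam z x)
    (π : Equiv.Perm (Fin 5)) :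
    ∃ α : MulAut P, ∀ i, α (x i) = x (π i) ∨ α (x i) = z * x (π i) := by
  haveI : Finite (P × P) := inferInstance
  let X : Fin 5 → P × P := fun i => (x i, x (π i))
  let Z : P × P := (z, z)
  set S : Finset (Fin 5) := {0, 1, 2, 3} with hS
  set K := Subgroup.closure ({Z} ∪ X '' (S : Set (Fin 5))) with hK
  have hcard : Nat.card K ≤ 32 := by
    have := chain_card Z X (Prod.ext h.z_sq h.z_sq) (fun i => Prod.ext (h.z_comm _) (h.z_comm _))
      (fun i => Prod.ext (hx.sq _) (hx.sq _))
      (fun i j hij => Prod.ext (hx.anti _ _ hij) (hx.anti _ _ (fun h1 => hij (π.injective h1)))) S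
    have h4 : S.card = 4 := by decide
    rw [h4] at this
    exact this
  have hZK : Z ∈ K := Subgroup.subset_closure (Or.inl rfl)
  have hXK : ∀ i ∈ S, X i ∈ K := fun i hi => Subgroup.subset_closure (Or.inr ⟨i, hi, rfl⟩)
  have hfst : K.map (MonoidHom.fst P P) = ⊤ := by
    refine hx.gen h h32 _ ⟨Z, hZK, rfl⟩ (i := 0) (j := 1) (k := 2) (l := 3) (by decide) (by decide)
      (by decide) (by decide) (by decide) (by decide) ⟨X 0, hXK 0 (by decide), rfl⟩
      ⟨X 1, hXK 1 (by decide), rfl⟩ ⟨X 2, hXK 2 (by decide), rfl⟩ ⟨X 3, hXK 3 (by decide), rfl⟩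
  have hsnd : K.map (MonoidHom.snd P P) = ⊤ := by
    refine hx.gen h h32 _ ⟨Z, hZK, rfl⟩ (i := π 0) (j := π 1) (k := π 2) (l := π 3)
      (π.injective.ne (by decide)) (π.injective.ne (by decide)) (π.injective.ne (by decide))
      (π.injective.ne (by decide)) (π.injective.ne (by decide)) (π.injective.ne (by decide))
      ⟨X 0, hXK 0 (by decide), rfl⟩
      ⟨X 1, hXK 1 (by decide), rfl⟩ ⟨X 2, hXK 2 (by decide), rfl⟩ ⟨X 3, hXK 3 (by decide), rfl⟩
  obtain ⟨e, he⟩ := exists_equiv_of_graph K
    (fun g => by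
      obtain ⟨⟨a, b⟩, hab, h1⟩ : g ∈ K.map (MonoidHom.fst P P) := by rw [hfst]; trivial
      change a = g at h1
      subst h1
      exact ⟨b, hab⟩)
    (fun g => by
      obtain ⟨⟨a, b⟩, hab, h1⟩ : g ∈ K.map (MonoidHom.snd P P) := by rw [hsnd]; trivial
      change b = g at h1
      subst h1
      exact ⟨a, hab⟩) (by rw [h32]; exact hcard) (by rw [h32]; exact hcard)
  have h1 : ∀ i ∈ S, e (x i) = x (π i) := fun i hi => he _ _ (hXK i hi)
  have hfour : ∀ k : Fin 5, k ∉ S → k = 4 := by rw [hS]; decide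
  obtain ⟨φ, hφ⟩ := hx.exists_hom h
  refine ⟨e, fun i => ?_⟩
  by_cases hi : i ∈ S
  · exact Or.inl (h1 i hi)
  · have hi4 : i = 4 := hfour i hi
    subst hi4
    have hj : φ e 4 = π 4 := by
      obtain ⟨k, hk⟩ := π.surjective (φ e 4)
      have hkS : k ∈ S → φ e k = π k := fun hkS => hx.uniq h (hφ e k) (Or.inl (h1 k hkS))
      by_cases hkS' : k ∈ S
      · exfalso
        have := hkS hkS'
        rw [hk] at this
        have := (φ e).injective this
        rw [this] at hkS'
        revert hkS'; rw [hS]; decide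
      · have : k = 4 := hfour k hkS'
        rw [← this, hk, this]
    have := hφ e 4
    rw [hj] at this
    exact this

theorem ker_card [Finite P] (h : Xt P z) (h32 : Nat.card P = 32) (hx : Fam z x)
    (φ : MulAut P →* Equiv.Perm (Fin 5))
    (hφ : ∀ α i, α (x i) = x (φ α i) ∨ α (x i) = z * x (φ α i)) : Nat.card φ.ker ≤ 16 := by
  classical
  have hmem : ∀ α : φ.ker, ∀ i, (α : MulAut P) (x i) = x i ∨ (α : MulAut P) (x i) = z * x i := by
    rintro ⟨α, hα⟩ i
    have := hφ α i
    rw [MonoidHom.mem_ker] at hα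
    rw [hα] at this
    exact this
  have : Nat.card φ.ker ≤ Nat.card (Fin 4 → Bool) := by
    refine Nat.card_le_card_of_injective
      (fun α i => decide ((α : MulAut P) (x (Fin.castSucc i)) = x (Fin.castSucc i))) ?_
    intro α β hab
    have h1 : ∀ i : Fin 4, (α : MulAut P) (x (Fin.castSucc i)) = (β : MulAut P) (x (Fin.castSucc i)) := by
      intro i
      have h2 := congrFun hab i
      simp only [decide_eq_decide] at h2
      by_cases h3 : (α : MulAut P) (x (Fin.castSucc i)) = x (Fin.castSucc i)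
      · rw [h3, h2.1 h3]
      · have h4 : ¬ (β : MulAut P) (x (Fin.castSucc i)) = x (Fin.castSucc i) := fun h4 => h3 (h2.2 h4)
        rw [(hmem α _).resolve_left h3, (hmem β _).resolve_left h4]
    have h2 : MonoidHom.eqLocus (α : MulAut P).toMonoidHom (β : MulAut P).toMonoidHom = ⊤ := by
      refine hx.gen h h32 _ ?_ (i := 0) (j := 1) (k := 2) (l := 3) (by decide) (by decide)
        (by decide) (by decide) (by decide) (by decide) (h1 0) (h1 1) (h1 2) (h1 3)
      change (α : MulAut P) z = (β : MulAut P) z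
      rw [h.aut_z, h.aut_z]
    apply Subtype.ext
    apply MulEquiv.ext
    intro g
    have : g ∈ MonoidHom.eqLocus (α : MulAut P).toMonoidHom (β : MulAut P).toMonoidHom := by
      rw [h2]; trivial
    exact this
  simpa using this

end Fam

end Cfsg.Agent.H18
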